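import Mathlib
import Cfsg.Agent.H14.CqDefs
import Cfsg.Agent.H49.Count

/-!
# CQ-HYPC (helper84, for helper14's COUNT sub-tree of S5987 / S5973)

The number of solutions of `∑ xᵢ yᵢ = c`, `c ≠ 0`, `d ≥ 1`, from helper49's `card_hyp_plus`.
-/

set_option autoImplicit false

namespace Cfsg.Agent.H84.Cq

open Cfsg.Agent.H14.Cq Matrix

universe u

/-- `(A - 1) * B + B = A * B` for `1 ≤ A`. -/
theorem sub_one_mul_add {A B : ℕ} (hA : 1 ≤ A) : (A - 1) * B + B = A * B := by
  obtain ⟨A', rfl⟩ : ∃ A', A = A' + 1 := ⟨A - 1, by omega⟩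
  rw [Nat.add_sub_cancel]; ring

/-- Raw count: the number of solutions of `quadFormPlus d F v = c` for `c ≠ 0`. -/
theorem card_plus_eq_const {F : Type u} [Field F] [Fintype F] (d : ℕ) (c : F) (hc : c ≠ 0) :
    Nat.card {v : Fin d ⊕ Fin d → F // Cfsg.quadFormPlus d F v = c}
      = (Fintype.card F ^ d - 1) * Fintype.card F ^ (d - 1) := by
  classical
  let e : (Fin d ⊕ Fin d → F) ≃ ((Fin d → F) × (Fin d → F)) × Unit :=
    { toFun := fun v => ((v ∘ Sum.inl, v ∘ Sum.inr), ())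
      invFun := fun p => Sum.elim p.1.1 p.1.2
      left_inv := fun v => by simp
      right_inv := fun p => by simp }
  have h := Cfsg.Agent.H49.card_hyp_plus (F := F) d (fun _ : Unit => (-c : F))
  have h2 : Nat.card {v : Fin d ⊕ Fin d → F // Cfsg.quadFormPlus d F v = c}
      = Nat.card {p : ((Fin d → F) × (Fin d → F)) × Unit //
          p.1.1 ⬝ᵥ p.1.2 + (fun _ : Unit => (-c : F)) p.2 = 0} := by
    refine Nat.card_congr (e.subtypeEquiv ?_)
    intro v
    show Cfsg.quadFormPlus d F v = c ↔ (v ∘ Sum.inl) ⬝ᵥ (v ∘ Sum.inr) + -c = 0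
    rw [add_neg_eq_zero]
    rfl
  have h3 : Nat.card {z : Unit // (fun _ : Unit => (-c : F)) z = 0} = 0 := by
    rw [Nat.card_eq_zero]
    left
    exact ⟨fun z => hc (neg_eq_zero.mp z.2)⟩
  rw [h2, h, h3]
  simp only [Fintype.card_unit, mul_one, zero_mul, add_zero]

/-- CQ-HYPC. -/
theorem hypC : StHypC.{u} := by
  intro F _ _ d c hd hc
  rw [card_plus_eq_const d c hc]
  have hq : 1 ≤ Fintype.card F ^ d := Nat.one_le_pow _ _ Fintype.card_pos
  rw [sub_one_mul_add hq, ← pow_add]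
  congr 1
  omega

example : Cfsg.Agent.H14.Cq.StHypC.{u} := hypC

end Cfsg.Agent.H84.Cq
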