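import Mathlib
import Cfsg.Agent.H14.CqDefs
import Cfsg.Agent.H49.Count

/-!
# CQ-ZMINUS (helper84, for helper14's COUNT sub-tree of S5987 / S5973)

The number of zeros of the minus form, from helper49's `card_zeros_minus`.
-/

set_option autoImplicit false

namespace Cfsg.Agent.H84.Cq

open Cfsg.Agent.H14.Cq Cfsg.Agent.H77.Tq

universe u

/-- CQ-ZMINUS, hypothesis-free. -/
theorem zMinus0 : StZMinus.{u} := by
  intro F _ _ k a b hab
  have h := Cfsg.Agent.H49.card_zeros_minus (F := F) k a b hab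
  have h' : Nat.card {v : MI k → F // Cfsg.quadFormMinus k F a b v = 0}
      = (Fintype.card F ^ k - 1) * Fintype.card F ^ 2 * Fintype.card F ^ (k - 1)
        + Fintype.card F ^ k := h
  rw [h']
  rcases k with _ | k
  · simp
    ring
  · have hq : 1 ≤ Fintype.card F ^ (k + 1) := Nat.one_le_pow _ _ Fintype.card_pos
    obtain ⟨A', hA⟩ : ∃ A', Fintype.card F ^ (k + 1) = A' + 1 :=
      ⟨Fintype.card F ^ (k + 1) - 1, by omega⟩
    have h2 : Fintype.card F ^ (2 * (k + 1) + 1)
        = Fintype.card F ^ (k + 1) * (Fintype.card F ^ 2 * Fintype.card F ^ k) := by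
      rw [← pow_add, ← pow_add]
      congr 1
      omega
    have h3 : Fintype.card F ^ (k + 1 + 1) = Fintype.card F ^ 2 * Fintype.card F ^ k := by
      rw [← pow_add]
      congr 1
      omega
    rw [h2, h3, hA, Nat.add_sub_cancel, Nat.add_sub_cancel]
    ring

/-- CQ-ZMINUS in the posted shape (the two hypotheses are not needed). -/
theorem zMinus (_hZ : StZPlus.{u}) (_hC : StHypC.{u}) : StZMinus.{u} := zMinus0

example (hZ : Cfsg.Agent.H14.Cq.StZPlus.{u}) (hC : Cfsg.Agent.H14.Cq.StHypC.{u}) :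
    Cfsg.Agent.H14.Cq.StZMinus.{u} := zMinus hZ hC

example : Cfsg.Agent.H14.Cq.StZMinus.{u} := zMinus0

end Cfsg.Agent.H84.Cq
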