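/-
helper84 library: Brauer's third main theorem in the Brauer-pair form.

* `sigma0 G p` : the sum of the `p`-regular elements in `ℂ[G]`, with `coeff_sigma0`, `sigma0_mem`,
  `omega_sigma0` (`= regSum p χ / χ 1`), `truncTo_sigma0`, `blockElt_mul_sigma0`.
* `third_main_pair` : `(Q, e)` is a Brauer pair of the principal block iff `e` is the principal
  block of `C_G(Q)`.
-/
import Mathlib
import Cfsg.Prelude.Def_BrauerPairs
import Cfsg.Agent.H80.Brauer
import Cfsg.Agent.H84.ThirdMain

set_option autoImplicit false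
set_option linter.style.haveILetI false
set_option linter.unusedSectionVars false
set_option linter.unusedVariables false

namespace Cfsg.Agent.H84

open Cfsg Cfsg.Agent.H20 Cfsg.Agent.H80
open scoped ComplexConjugate

universe u

variable {G : Type u} [Group G] [Fintype G]

/-- The sum of the `p`-regular elements of `G`, in the group algebra. -/
noncomputable def sigma0 (G : Type u) [Group G] [Fintype G] (p : ℕ) : MonoidAlgebra ℂ G :=
  ∑ g : G, MonoidAlgebra.single g (pRegularPart p (fun _ : G => (1 : ℂ)) g)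

theorem coeff_sigma0 (p : ℕ) (g : G) :
    (sigma0 G p).coeff g = pRegularPart p (fun _ : G => (1 : ℂ)) g := by
  classical
  unfold sigma0
  rw [MonoidAlgebra.coeff_sum, Finsupp.finsetSum_apply]
  simp only [MonoidAlgebra.coeff_single, Finsupp.single_apply]
  rw [Finset.sum_ite_eq']
  simp

theorem sigma0_mem (S : Subring ℂ) (p : ℕ) : sigma0 G p ∈ cfSubring G S := by
  refine ⟨fun x h => ?_, fun x => ?_⟩
  · rw [coeff_sigma0, coeff_sigma0]
    have ho : orderOf (h * x * h⁻¹) = orderOf x :=
      orderOf_injective (MulAut.conj h).toMonoidHom (MulAut.conj h).injective x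
    by_cases hx : p ∣ orderOf x
    · rw [Cfsg.Agent.H81.pRegularPart_of_dvd p _ hx,
        Cfsg.Agent.H81.pRegularPart_of_dvd p _ (ho ▸ hx)]
    · rw [Cfsg.Agent.H81.pRegularPart_of_not_dvd p _ hx,
        Cfsg.Agent.H81.pRegularPart_of_not_dvd p _ (ho ▸ hx)]
  · rw [coeff_sigma0]
    by_cases hx : p ∣ orderOf x
    · rw [Cfsg.Agent.H81.pRegularPart_of_dvd p _ hx]; exact S.zero_mem
    · rw [Cfsg.Agent.H81.pRegularPart_of_not_dvd p _ hx]; exact S.one_mem

theorem omega_sigma0 (p : ℕ) (χ : G → ℂ) : omega χ (sigma0 G p) = regSum p χ / χ 1 := by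
  unfold omega regSum
  congr 1
  apply Finset.sum_congr rfl
  intro g _
  rw [coeff_sigma0]
  by_cases hg : p ∣ orderOf g
  · rw [Cfsg.Agent.H81.pRegularPart_of_dvd p _ hg, Cfsg.Agent.H81.pRegularPart_of_dvd p _ hg,
      zero_mul]
  · rw [Cfsg.Agent.H81.pRegularPart_of_not_dvd p _ hg,
      Cfsg.Agent.H81.pRegularPart_of_not_dvd p _ hg, one_mul]

theorem truncTo_sigma0 (K : Subgroup G) [Fintype K] (p : ℕ) :
    truncTo K (sigma0 G p) = sigma0 K p := by
  apply MonoidAlgebra.coeff_injective
  ext k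
  rw [coeff_truncTo, coeff_sigma0, coeff_sigma0]
  by_cases hk : p ∣ orderOf k
  · have hk' : p ∣ orderOf (k : G) := by rwa [Subgroup.orderOf_coe]
    rw [Cfsg.Agent.H81.pRegularPart_of_dvd p _ hk, Cfsg.Agent.H81.pRegularPart_of_dvd p _ hk']
  · have hk' : ¬ p ∣ orderOf (k : G) := by rwa [Subgroup.orderOf_coe]
    rw [Cfsg.Agent.H81.pRegularPart_of_not_dvd p _ hk,
      Cfsg.Agent.H81.pRegularPart_of_not_dvd p _ hk']

variable {M : Ideal AlgInt}

/-- The principal block idempotent fixes the sum of the `p`-regular elements. -/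
theorem blockElt_mul_sigma0 {p : ℕ} (hM : IsPModular p M) :
    blockElt (principalBlock M G) * sigma0 G p = sigma0 G p := by
  classical
  have hMp := isPrime_of_isPModular hM
  have hσ := sigma0_mem (G := G) (localRing M hMp) p
  apply eq_of_omega_eq (isCF_mul (isCF_blockElt _) hσ.1) hσ.1
  intro θ
  rw [omega_mul θ (isCF_blockElt _), omega_blockElt]
  split_ifs with hθ
  · rw [one_mul]
  · rw [zero_mul, omega_sigma0, regSum_eq_zero_of_not_mem hM θ hθ, zero_div]

/-- **Brauer's third main theorem**, Brauer-pair form: `(Q, e)` is a Brauer pair of the principal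
block of `G` iff `e` is the principal block of `C_G(Q)`. -/
theorem third_main_pair (p : ℕ) [Fact p.Prime] (hM : IsPModular p M) (Q : Subgroup G)
    (hQ : IsPGroup p Q) (e : Set (IrrCharacter (Subgroup.centralizer (Q : Set G))))
    (he : IsPBlock M e) :
    IsBrauerPairOf p M (principalBlock M G) Q e
      ↔ e = principalBlock M (Subgroup.centralizer (Q : Set G)) := by
  classical
  haveI : Fintype (Subgroup.centralizer (Q : Set G)) := Fintype.ofFinite _
  have hMp := isPrime_of_isPModular hM
  have hE₀ : blockElt (principalBlock M G) ∈ cfSubring G (localRing M hMp) := by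
    rw [principalBlock_eq]; exact blockElt_mem hMp (trivChar G)
  have hbr : ∀ ξ : Subgroup.centralizer (Q : Set G) → ℂ,
      brauerOmega Q (blockCoeff (principalBlock M G)) ξ
        = brLam Q ξ (blockElt (principalBlock M G)) := fun ξ =>
    brauerOmega_eq Q _ _ (fun g => (coeff_blockElt _ g).symm) ξ
  have hσ := sigma0_mem (G := G) (localRing M hMp) p
  have hlamσ : ∀ ξ : Subgroup.centralizer (Q : Set G) → ℂ,
      brLam Q ξ (sigma0 G p) = regSum p ξ / ξ 1 := by
    intro ξ
    unfold brLam
    rw [truncTo_sigma0, omega_sigma0]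
  constructor
  · rintro ⟨_, _, h⟩
    obtain ⟨ξ₀, rfl⟩ := he
    have h1 := h ξ₀ (mem_blockOf_self hMp ξ₀)
    rw [hbr] at h1
    obtain ⟨N, hN⟩ : ∃ N : ℕ, N = Nat.card {g : G // ¬ p ∣ orderOf g} := ⟨_, rfl⟩
    obtain ⟨d, hd_def⟩ : ∃ d : MonoidAlgebra ℂ G,
        d = sigma0 G p - (N : ℂ) • blockElt (principalBlock M G) := ⟨_, rfl⟩
    have hd : d ∈ cfSubring G (localRing M hMp) := by
      rw [hd_def]
      exact (cfSubring G _).sub_mem hσ (smul_mem_cfSubring (memLocalRing_natCast hMp N) hE₀)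
    have hω : ∀ θ : IrrCharacter G, MemLocalIdeal M (omega (θ : G → ℂ) d) := by
      intro θ
      rw [hd_def, omega_sub, omega_smul, omega_sigma0, omega_blockElt]
      split_ifs with hθ
      · have := memLocalIdeal_neg (regSum_principal hM θ hθ)
        rw [neg_sub, ← hN] at this
        rwa [mul_one]
      · rw [regSum_eq_zero_of_not_mem hM θ hθ, zero_div, mul_zero, sub_zero]
        exact memLocalIdeal_zero hMp
    obtain ⟨n, hn, hcoef⟩ := exists_pow_coeff_memLocalIdeal hMp hd hω
    have hdbr : d ∈ brRing Q hMp := cfSubring_le_brRing Q hMp hd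
    have hdn : MemLocalIdeal M (brLam Q ξ₀.1 (d ^ n)) :=
      brLam_memLocalIdeal_of_coeff Q hMp
        (isInv_of_isCF _ ((cfSubring G _).pow_mem hd n).1) hcoef ξ₀
    have hpow := brLam_pow Q p hM hQ hdbr ξ₀ n
    have h2 : MemLocalIdeal M (brLam Q ξ₀.1 d ^ n) := by
      have := memLocalIdeal_sub hMp hdn hpow
      rwa [sub_sub_cancel] at this
    have h3 : MemLocalIdeal M (brLam Q ξ₀.1 d) :=
      memLocalIdeal_of_pow hMp (brLam_memLocalRing Q hdbr ξ₀) n h2
    rw [hd_def, brLam_sub, brLam_smul, hlamσ] at h3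
    -- `regSum ξ₀ / ξ₀ 1 ≡ N`
    have h4 : MemLocalIdeal M (regSum p ξ₀.1 / ξ₀.1 1 - (N : ℂ)) := by
      have h5 := memLocalIdeal_mul_left hMp (memLocalRing_natCast hMp N) h1
      have h6 := memLocalIdeal_add hMp h3 h5
      have e : regSum p ξ₀.1 / ξ₀.1 1
            - (N : ℂ) * brLam Q ξ₀.1 (blockElt (principalBlock M G))
            + (N : ℂ) * (brLam Q ξ₀.1 (blockElt (principalBlock M G)) - 1)
          = regSum p ξ₀.1 / ξ₀.1 1 - (N : ℂ) := by ring
      rwa [e] at h6
    have h7 : regSum p ξ₀.1 ≠ 0 := by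
      intro h0
      rw [h0, zero_div, zero_sub] at h4
      have h8 := memLocalIdeal_neg h4
      rw [neg_neg] at h8
      have h9 := (memLocalIdeal_natCast_iff hM N).mp h8
      rw [hN] at h9
      exact not_dvd_card_pRegular p G h9
    exact blockOf_eq_of_mem hMp (mem_principalBlock_of_regSum hM ξ₀ h7)
  · intro he'
    subst he'
    refine ⟨⟨hQ, isPBlock_principalBlock M _⟩, isPBlock_principalBlock M G, fun ξ hξ => ?_⟩
    rw [hbr]
    have hσbr : sigma0 G p ∈ brRing Q hMp := cfSubring_le_brRing Q hMp hσ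
    have hEbr : blockElt (principalBlock M G) ∈ brRing Q hMp := cfSubring_le_brRing Q hMp hE₀
    have h1 := brLam_mul Q p hM hQ hEbr hσbr ξ
    rw [blockElt_mul_sigma0 hM, hlamσ] at h1
    have h2 : MemLocalIdeal M ((brLam Q ξ.1 (blockElt (principalBlock M G)) - 1)
        * (regSum p ξ.1 / ξ.1 1)) := by
      have := memLocalIdeal_neg h1
      have e : -(regSum p ξ.1 / ξ.1 1
            - brLam Q ξ.1 (blockElt (principalBlock M G))
              * (regSum p ξ.1 / ξ.1 1))
          = (brLam Q ξ.1 (blockElt (principalBlock M G)) - 1)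
            * (regSum p ξ.1 / ξ.1 1) := by ring
      rwa [e] at this
    have hR1 := memLocalRing_sub hMp (brLam_memLocalRing Q hEbr ξ) (memLocalRing_one hMp)
    have hR2 : MemLocalRing M (regSum p ξ.1 / ξ.1 1) := by
      rw [← hlamσ]; exact brLam_memLocalRing Q hσbr ξ
    rcases memLocalIdeal_or_of_mul hMp hR1 hR2 h2 with h | h
    · exact h
    · exact absurd h (regSum_principal_not_mem hM ξ hξ)

end Cfsg.Agent.H84
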