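/-
helper84 library: the Brauer pairs of the principal block.

* `principal_normalSubpair` : for `p`-subgroups `Q ≤ P ≤ N_G(Q)`, `(Q, B₀(C_G(Q)))` is a normal
  subpair of `(P, B₀(C_G(P)))`.
* `principal_subpairLE` : for `p`-subgroups `Q ≤ P`, `(Q, B₀(C_G(Q))) ≤ (P, B₀(C_G(P)))`.
* `le_of_subpairLE` : inclusion of Brauer pairs implies inclusion of the subgroups.
* `conjCentEquiv`, `conjBlock_principal` : conjugation carries the principal block of `C_G(Q)` to
  the principal block of `C_G(x Q x⁻¹)`.
* `isMaximalBrauerPair_principal` : `(S, B₀(C_G(S)))` is a maximal Brauer pair of the principal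
  block, for a Sylow `p`-subgroup `S`.
* `principal_fusion` : the fusion system of the principal block is the fusion system of the group.
-/
import Mathlib
import Cfsg.Prelude.Def_BrauerPairs
import Cfsg.Prelude.Def_BlockFusion
import Cfsg.Agent.H80.Subpair
import Cfsg.Agent.Helper55.Basic
import Cfsg.Agent.Lib.Clifford
import Cfsg.Agent.H84.ThirdMainPair

set_option autoImplicit false
set_option linter.style.haveILetI false
set_option linter.unusedSectionVars false
set_option linter.unusedVariables false

namespace Cfsg.Agent.H84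

open Cfsg Cfsg.Agent.H20 Cfsg.Agent.H80
open scoped ComplexConjugate

universe u

variable {G : Type u} [Group G] [Fintype G] {M : Ideal AlgInt}

/-- The principal block is stable under every automorphism. -/
theorem autIrr_image_principalBlock {K : Type u} [Group K] (α : MulAut K) :
    autIrr α '' principalBlock M K = principalBlock M K := by
  rw [principalBlock_eq, autIrr_image_blockOf]
  rfl

/-- For `p`-subgroups `Q ≤ P ≤ N_G(Q)`, the principal pair at `Q` is a normal subpair of the
principal pair at `P`. -/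
theorem principal_normalSubpair (p : ℕ) [Fact p.Prime] (hM : IsPModular p M) (Q P : Subgroup G)
    (hQ : IsPGroup p Q) (hP : IsPGroup p P) (hQP : Q ≤ P)
    (hPN : P ≤ Subgroup.normalizer (Q : Set G)) :
    IsNormalSubpair p M Q (principalBlock M (Subgroup.centralizer (Q : Set G))) P
      (principalBlock M (Subgroup.centralizer (P : Set G))) := by
  classical
  haveI : Fintype (Subgroup.centralizer (Q : Set G)) := Fintype.ofFinite _
  haveI : Fintype (Subgroup.centralizer (P : Set G)) := Fintype.ofFinite _
  have hMp := isPrime_of_isPModular hM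
  have hCK : Subgroup.centralizer (P : Set G) ≤ Subgroup.centralizer (Q : Set G) :=
    Subgroup.centralizer_le hQP
  have hPK : P ≤ Subgroup.normalizer
      ((Subgroup.centralizer (Q : Set G) : Subgroup G) : Set G) :=
    hPN.trans (normalizer_le_normalizer_centralizer Q)
  have hstab : ∀ x ∈ P, StabilizesBlock (Subgroup.centralizer (Q : Set G))
      (principalBlock M (Subgroup.centralizer (Q : Set G))) x := by
    intro x hx
    rw [stabilizesBlock_iff hMp _ (isPBlock_principalBlock M _)]
    exact ⟨hPK hx, autIrr_image_principalBlock _⟩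
  refine ⟨⟨hQ, isPBlock_principalBlock M _⟩, ⟨hP, isPBlock_principalBlock M _⟩, hQP, hPN,
    hstab, fun ξ hξ => ?_⟩
  rw [brauerOmega_subgroupBlockCoeff]
  have hσ := sigma0_mem (G := G) (localRing M hMp) p
  -- the sum of the `p`-regular elements of `C_G(Q)`, inside `ℂ[G]`
  obtain ⟨s, hs⟩ : ∃ s : MonoidAlgebra ℂ G,
      s = extZero (Subgroup.centralizer (Q : Set G))
        (truncTo (Subgroup.centralizer (Q : Set G)) (sigma0 G p)) := ⟨_, rfl⟩
  have hsbr : s ∈ brRing P hMp := by
    rw [hs]
    exact extZero_truncTo_mem_brRing hMp hPK hCK (cfSubring_le_brRing P hMp hσ)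
      (isInv_of_isCF _ hσ.1)
  have hzbr : zB (Subgroup.centralizer (Q : Set G))
      (principalBlock M (Subgroup.centralizer (Q : Set G))) ∈ brRing P hMp :=
    zB_mem_brRing _ hMp (isPBlock_principalBlock M _) P hCK hstab
  have hzs : zB (Subgroup.centralizer (Q : Set G))
      (principalBlock M (Subgroup.centralizer (Q : Set G))) * s = s := by
    rw [hs, truncTo_sigma0]
    unfold zB
    rw [← extZero_mul, blockElt_mul_sigma0 hM]
  have hlams : brLam P ξ.1 s = regSum p ξ.1 / ξ.1 1 := by
    unfold brLam
    rw [hs, truncTo_extZero_truncTo hCK, truncTo_sigma0, omega_sigma0]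
  have h1 := brLam_mul P p hM hP hzbr hsbr ξ
  rw [hzs, hlams] at h1
  have h2 : MemLocalIdeal M ((brLam P ξ.1 (zB (Subgroup.centralizer (Q : Set G))
      (principalBlock M (Subgroup.centralizer (Q : Set G)))) - 1)
        * (regSum p ξ.1 / ξ.1 1)) := by
    have := memLocalIdeal_neg h1
    have e : -(regSum p ξ.1 / ξ.1 1
          - brLam P ξ.1 (zB (Subgroup.centralizer (Q : Set G))
            (principalBlock M (Subgroup.centralizer (Q : Set G)))) * (regSum p ξ.1 / ξ.1 1))
        = (brLam P ξ.1 (zB (Subgroup.centralizer (Q : Set G))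
            (principalBlock M (Subgroup.centralizer (Q : Set G)))) - 1)
          * (regSum p ξ.1 / ξ.1 1) := by ring
    rwa [e] at this
  have hR1 := memLocalRing_sub hMp (brLam_memLocalRing P hzbr ξ) (memLocalRing_one hMp)
  have hR2 : MemLocalRing M (regSum p ξ.1 / ξ.1 1) := by
    rw [← hlams]; exact brLam_memLocalRing P hsbr ξ
  rcases memLocalIdeal_or_of_mul hMp hR1 hR2 h2 with h | h
  · exact h
  · exact absurd h (regSum_principal_not_mem hM ξ hξ)

/-- For `p`-subgroups `Q ≤ P`, the principal pair at `Q` lies below the principal pair at `P`. -/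
theorem principal_subpairLE (p : ℕ) [Fact p.Prime] (hM : IsPModular p M) :
    ∀ (n : ℕ) (Q P : Subgroup G), IsPGroup p P → Q ≤ P → Nat.card P - Nat.card Q = n →
      SubpairLE p M Q (principalBlock M (Subgroup.centralizer (Q : Set G))) P
        (principalBlock M (Subgroup.centralizer (P : Set G))) := by
  intro n
  induction n using Nat.strong_induction_on with
  | _ n ih =>
    intro Q P hP hQP hn
    by_cases hQeq : Q = P
    · subst hQeq
      exact Relation.ReflTransGen.refl
    · have hQ : IsPGroup p Q := hP.to_le hQP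
      have hnot : ¬ (P ⊓ Subgroup.normalizer (Q : Set G) ≤ Q) := fun h =>
        hQeq (Cfsg.Agent.Helper55.eq_of_normalizer_inf_le hP hQP h)
      have hQQ₁ : Q ≤ P ⊓ Subgroup.normalizer (Q : Set G) :=
        le_inf hQP Subgroup.le_normalizer
      have hlt : Q < P ⊓ Subgroup.normalizer (Q : Set G) := lt_of_le_not_ge hQQ₁ hnot
      have hQ₁P : P ⊓ Subgroup.normalizer (Q : Set G) ≤ P := inf_le_left
      have hQ₁ : IsPGroup p (P ⊓ Subgroup.normalizer (Q : Set G) : Subgroup G) :=
        hP.to_le hQ₁P
      have hstep := principal_normalSubpair p hM Q (P ⊓ Subgroup.normalizer (Q : Set G)) hQ hQ₁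
        hQQ₁ inf_le_right
      have hc1 : Nat.card Q < Nat.card (P ⊓ Subgroup.normalizer (Q : Set G) : Subgroup G) :=
        lt_of_le_of_ne (Subgroup.card_le_of_le hQQ₁)
          (fun h => hlt.ne (Subgroup.eq_of_le_of_card_ge hQQ₁ h.ge))
      have hc2 : Nat.card (P ⊓ Subgroup.normalizer (Q : Set G) : Subgroup G) ≤ Nat.card P :=
        Subgroup.card_le_of_le hQ₁P
      have hrest := ih (Nat.card P - Nat.card (P ⊓ Subgroup.normalizer (Q : Set G) : Subgroup G))
        (by omega) (P ⊓ Subgroup.normalizer (Q : Set G)) P hP hQ₁P rfl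
      exact Relation.ReflTransGen.head
        (show NormalSubpairRel p M ⟨Q, principalBlock M (Subgroup.centralizer (Q : Set G))⟩
          ⟨P ⊓ Subgroup.normalizer (Q : Set G), principalBlock M
            (Subgroup.centralizer ((P ⊓ Subgroup.normalizer (Q : Set G) : Subgroup G) : Set G))⟩
          from hstep) hrest

/-- Inclusion of Brauer pairs implies inclusion of the subgroups. -/
theorem le_of_subpairLE {p : ℕ} {Q P : Subgroup G}
    {f : Set (IrrCharacter (Subgroup.centralizer (Q : Set G)))}
    {e : Set (IrrCharacter (Subgroup.centralizer (P : Set G)))}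
    (h : SubpairLE p M Q f P e) : Q ≤ P := by
  have key : ∀ a b : BrauerPairIdx G, Relation.ReflTransGen (NormalSubpairRel p M) a b →
      a.1 ≤ b.1 := by
    intro a b hab
    induction hab with
    | refl => exact le_refl _
    | tail _ hbc ih => exact ih.trans hbc.2.2.1
  exact key ⟨Q, f⟩ ⟨P, e⟩ h

/-- Conjugation by `x` as an isomorphism `C_G(Q) ≃* C_G(x Q x⁻¹)`. -/
noncomputable def conjCentEquiv (Q : Subgroup G) (x : G) :
    Subgroup.centralizer (Q : Set G) ≃*
      Subgroup.centralizer ((Q.map (MulAut.conj x).toMonoidHom : Subgroup G) : Set G) where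
  toFun c := ⟨x * (c : G) * x⁻¹, by
    rw [Subgroup.mem_centralizer_iff]
    rintro y ⟨q, hq, rfl⟩
    have hc := Subgroup.mem_centralizer_iff.mp c.2 q hq
    show x * q * x⁻¹ * (x * (c : G) * x⁻¹) = x * (c : G) * x⁻¹ * (x * q * x⁻¹)
    calc x * q * x⁻¹ * (x * (c : G) * x⁻¹) = x * (q * (c : G)) * x⁻¹ := by group
      _ = x * ((c : G) * q) * x⁻¹ := by rw [hc]
      _ = x * (c : G) * x⁻¹ * (x * q * x⁻¹) := by group⟩
  invFun c' := ⟨x⁻¹ * (c' : G) * x, by
    rw [Subgroup.mem_centralizer_iff]
    intro q hq
    have hq' : x * q * x⁻¹ ∈ ((Q.map (MulAut.conj x).toMonoidHom : Subgroup G) : Set G) :=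
      ⟨q, hq, rfl⟩
    have hc := Subgroup.mem_centralizer_iff.mp c'.2 _ hq'
    calc q * (x⁻¹ * (c' : G) * x) = x⁻¹ * ((x * q * x⁻¹) * (c' : G)) * x := by group
      _ = x⁻¹ * ((c' : G) * (x * q * x⁻¹)) * x := by rw [hc]
      _ = x⁻¹ * (c' : G) * x * q := by group⟩
  left_inv c := Subtype.ext (by show x⁻¹ * (x * (c : G) * x⁻¹) * x = c; group)
  right_inv c' := Subtype.ext (by show x * (x⁻¹ * (c' : G) * x) * x⁻¹ = c'; group)
  map_mul' a b := Subtype.ext (by
    show x * ((a : G) * (b : G)) * x⁻¹ = x * (a : G) * x⁻¹ * (x * (b : G) * x⁻¹); group)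

theorem conjCentEquiv_apply (Q : Subgroup G) (x : G) (c : Subgroup.centralizer (Q : Set G)) :
    ((conjCentEquiv Q x c : _) : G) = x * (c : G) * x⁻¹ := rfl

/-- The `p`-regular sum is invariant under group isomorphisms. -/
theorem regSum_comp_equiv {A B : Type u} [Group A] [Group B] [Fintype A] [Fintype B]
    (e : A ≃* B) (p : ℕ) (f : B → ℂ) : regSum p (fun a => f (e a)) = regSum p f := by
  unfold regSum
  apply Fintype.sum_equiv e.toEquiv
  intro a
  have ho : orderOf (e a) = orderOf a := e.orderOf_eq a
  by_cases ha : p ∣ orderOf a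
  · rw [Cfsg.Agent.H81.pRegularPart_of_dvd p _ ha]
    exact (Cfsg.Agent.H81.pRegularPart_of_dvd p _ (show p ∣ orderOf (e.toEquiv a) from ho ▸ ha)).symm
  · rw [Cfsg.Agent.H81.pRegularPart_of_not_dvd p _ ha]
    exact (Cfsg.Agent.H81.pRegularPart_of_not_dvd p _
      (show ¬ p ∣ orderOf (e.toEquiv a) from ho ▸ ha)).symm

/-- Brauer's criterion, both directions. -/
theorem mem_principalBlock_iff_regSum {K : Type u} [Group K] [Fintype K] {p : ℕ} [Fact p.Prime]
    (hM : IsPModular p M) (χ : IrrCharacter K) :
    χ ∈ principalBlock M K ↔ regSum p χ.1 ≠ 0 := by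
  constructor
  · intro h h0
    apply regSum_principal_not_mem hM χ h
    rw [h0, zero_div]
    exact memLocalIdeal_zero (isPrime_of_isPModular hM)
  · exact mem_principalBlock_of_regSum hM χ

/-- Conjugation carries the principal block of `C_G(Q)` to the principal block of
`C_G(x Q x⁻¹)`. -/
theorem conjBlock_principal (p : ℕ) [Fact p.Prime] (hM : IsPModular p M) (Q : Subgroup G)
    (x : G) :
    conjBlock Q x (principalBlock M (Subgroup.centralizer (Q : Set G)))
      = principalBlock M
        (Subgroup.centralizer ((Q.map (MulAut.conj x).toMonoidHom : Subgroup G) : Set G)) := by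
  classical
  haveI : Fintype (Subgroup.centralizer (Q : Set G)) := Fintype.ofFinite _
  haveI : Fintype (Subgroup.centralizer
      ((Q.map (MulAut.conj x).toMonoidHom : Subgroup G) : Set G)) := Fintype.ofFinite _
  ext ξ'
  constructor
  · rintro ⟨ξ, hξ, hrel⟩
    rw [mem_principalBlock_iff_regSum hM] at hξ ⊢
    have e : ξ.1 = fun c => ξ'.1 (conjCentEquiv Q x c) := by
      funext c
      exact (hrel c (conjCentEquiv Q x c) rfl).symm
    rw [e, regSum_comp_equiv] at hξ
    exact hξ
  · intro hξ'
    refine ⟨⟨fun c => ξ'.1 (conjCentEquiv Q x c),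
      Cfsg.Agent.Clifford.isIrrCharacter_comp_equiv (conjCentEquiv Q x) ξ'.2⟩, ?_, ?_⟩
    · rw [mem_principalBlock_iff_regSum hM] at hξ' ⊢
      show regSum p (fun c => ξ'.1 (conjCentEquiv Q x c)) ≠ 0
      rw [regSum_comp_equiv]
      exact hξ'
    · intro c c' hcc'
      show ξ'.1 c' = ξ'.1 (conjCentEquiv Q x c)
      have e : c' = conjCentEquiv Q x c := Subtype.ext hcc'
      rw [e]

/-- For a Sylow `p`-subgroup `S`, the principal pair at `S` is a maximal Brauer pair of the
principal block. -/
theorem isMaximalBrauerPair_principal (p : ℕ) [Fact p.Prime] (hM : IsPModular p M)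
    (S : Sylow p G) :
    IsMaximalBrauerPair p M (principalBlock M G) (S : Subgroup G)
      (principalBlock M (Subgroup.centralizer ((S : Subgroup G) : Set G))) := by
  refine ⟨(third_main_pair p hM (S : Subgroup G) S.isPGroup' _
    (isPBlock_principalBlock M _)).mpr rfl, ?_⟩
  intro R g hR hle
  exact S.is_maximal' hR.1.1 (le_of_subpairLE hle)

/-- The fusion system of the principal block on a Sylow `p`-subgroup is the fusion system of
the group. -/
theorem principal_fusion (p : ℕ) [Fact p.Prime] (hM : IsPModular p M) (S : Sylow p G)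
    (F : FusionSystem (S : Subgroup G))
    (hF : IsBlockFusionSystemOn p M (principalBlock M G) (S : Subgroup G)
      (principalBlock M (Subgroup.centralizer ((S : Subgroup G) : Set G))) F)
    (Q : Subgroup G) : F.Hom Q = (groupFusionSystem (S : Subgroup G)).Hom Q := by
  ext φ
  rw [hF.2 Q φ]
  constructor
  · rintro ⟨hQ, g, hg, hmap, -⟩
    exact ⟨hQ, fun x => by rw [hg]; exact hmap ⟨x, x.2, rfl⟩, g, hg⟩
  · rintro ⟨hQ, hS, g, hg⟩
    have hmap : Q.map (MulAut.conj g).toMonoidHom ≤ (S : Subgroup G) := by
      rintro y ⟨q, hq, rfl⟩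
      have := hS ⟨q, hq⟩
      rw [hg] at this
      exact this
    refine ⟨hQ, g, hg, hmap, principalBlock M (Subgroup.centralizer (Q : Set G)),
      principal_subpairLE p hM _ Q (S : Subgroup G) S.isPGroup' hQ rfl, ?_⟩
    rw [conjBlock_principal p hM]
    exact principal_subpairLE p hM _ (Q.map (MulAut.conj g).toMonoidHom) (S : Subgroup G)
      S.isPGroup' hmap rfl

end Cfsg.Agent.H84
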