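/-
helper84 library: height zero characters on `p`-sections (Broue-Puig type non-vanishing).

* `sum_regular_mul_eq_zero`: if the block part of a class function vanishes on the `p`-regular
  elements, its `p`-regular pairing with every member of the block vanishes.
* `omega_truncTo_regElt_sub`: the `p`-regular pairing of `chi(x .)` and of `chi` with a character
  of a subgroup centralizing the `p`-element `x` are congruent modulo the local ideal (after
  division by the degree).
* `not_memLocalIdeal_translate_pairing`: for `chi` of height zero in `B` and `b` inducing `B`,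
  the number `(1/psi(1)) sum_{h p-regular} chi(x h^-1) psi(h)` is a unit of the local ring.
-/
import Mathlib
import Cfsg.Prelude.Def_Blocks
import Cfsg.Agent.H20.HeightZero
import Cfsg.Agent.H20.PElement
import Cfsg.Agent.H84.SectionSum3

set_option autoImplicit false
set_option linter.style.haveILetI false
set_option linter.unusedSectionVars false
set_option linter.unusedVariables false

namespace Cfsg.Agent.H84

open Cfsg Cfsg.Agent.H4 Cfsg.Agent.H20
open scoped ComplexConjugate

universe u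

section HZ

/-- If the part of a class function `ϑ` in the block of `ψ'` vanishes on `p`-regular elements,
then the `p`-regular pairing of `ϑ` with `ψ'` vanishes. -/
theorem sum_regular_mul_eq_zero {C : Type u} [Group C] [Fintype C] {p : ℕ} {M : Ideal AlgInt}
    (hM : IsPModular p M) (ϑ : C → ℂ) (hϑ : IsClassFunction C ϑ) (ψ' : IrrCharacter C)
    (hvan : ∀ y : C, ¬ p ∣ orderOf y →
      ∑ᶠ ψ ∈ blockOf M (ψ' : C → ℂ), classInner ϑ (ψ : C → ℂ) * (ψ : C → ℂ) y = 0) :
    ∑ h : C, (if p ∣ orderOf h then (0 : ℂ) else ϑ h⁻¹) * (ψ' : C → ℂ) h = 0 := by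
  classical
  letI := fintypeIrr C
  have hexp : ∀ c : C, ϑ c =
      ∑ ψ : IrrCharacter C, classInner ϑ (ψ : C → ℂ) * (ψ : C → ℂ) c := by
    intro c
    have h := congrFun (classFunction_eq_finsum hϑ) c
    rw [finsum_irr_eq_sum, Finset.sum_apply] at h
    exact h
  have hterm : ∀ h : C, (if p ∣ orderOf h then (0 : ℂ) else ϑ h⁻¹) * (ψ' : C → ℂ) h
      = ∑ ψ : IrrCharacter C, if ψ ∈ blockOf M (ψ' : C → ℂ) then 0 else
          classInner ϑ (ψ : C → ℂ) *
            ((if p ∣ orderOf h then (0 : ℂ) else (ψ' : C → ℂ) h) * (ψ : C → ℂ) h⁻¹) := by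
    intro h
    by_cases hp : p ∣ orderOf h
    · simp [hp]
    · rw [if_neg hp, if_neg hp]
      have h1 := hvan h⁻¹ (by rwa [orderOf_inv])
      rw [finsum_mem_eq_sum_ite] at h1
      rw [hexp h⁻¹, Finset.sum_mul]
      have h2 : ∑ ψ : IrrCharacter C,
            classInner ϑ (ψ : C → ℂ) * (ψ : C → ℂ) h⁻¹ * (ψ' : C → ℂ) h
          = (∑ ψ : IrrCharacter C, (if ψ ∈ blockOf M (ψ' : C → ℂ) then
              classInner ϑ (ψ : C → ℂ) * (ψ : C → ℂ) h⁻¹ else 0)) * (ψ' : C → ℂ) h
            + ∑ ψ : IrrCharacter C, (if ψ ∈ blockOf M (ψ' : C → ℂ) then 0 else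
              classInner ϑ (ψ : C → ℂ) * ((ψ' : C → ℂ) h * (ψ : C → ℂ) h⁻¹)) := by
        rw [Finset.sum_mul, ← Finset.sum_add_distrib]
        apply Finset.sum_congr rfl
        intro ψ _
        split_ifs <;> ring
      rw [h2, h1, zero_mul, zero_add]
  rw [Finset.sum_congr rfl (fun h _ => hterm h), Finset.sum_comm]
  apply Finset.sum_eq_zero
  intro ψ _
  by_cases hψ : ψ ∈ blockOf M (ψ' : C → ℂ)
  · simp [hψ]
  · simp only [if_neg hψ]
    rw [← Finset.mul_sum]
    have hw := Cfsg.Agent.H81.wbo_two hM ψ' ψ hψ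
    unfold classInner at hw
    have hC : (Nat.card C : ℂ)⁻¹ ≠ 0 := by
      apply inv_ne_zero
      exact_mod_cast (Nat.card_pos (α := C)).ne'
    have hw2 := (mul_eq_zero.mp hw).resolve_left hC
    have e : ∑ h : C, (if p ∣ orderOf h then (0 : ℂ) else (ψ' : C → ℂ) h) * (ψ : C → ℂ) h⁻¹
        = ∑ g : C, pRegularPart p (ψ' : C → ℂ) g * conj ((ψ : C → ℂ) g) := by
      apply Finset.sum_congr rfl
      intro g _
      rw [Cfsg.Agent.H81.pRegularPart_apply, irr_conj]
    rw [e, hw2, mul_zero]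

variable {G : Type u} [Group G] [Fintype G] {p : ℕ} [Fact p.Prime] {M : Ideal AlgInt}

/-- The `p`-regular pairings of `χ` and of its translate by a `p`-element `x` with an irreducible
character of a subgroup centralizing `x` are congruent modulo the local ideal, after division
by the degree. -/
theorem omega_truncTo_regElt_sub (hM : IsPModular p M) (x : G) {k : ℕ} (hx : x ^ p ^ k = 1)
    (C : Subgroup G) [Fintype C] (hxC : ∀ c ∈ C, x * c = c * x) (χ : IrrCharacter G)
    (ψ' : IrrCharacter C) :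
    MemLocalIdeal M (omega (ψ' : C → ℂ) (Cfsg.Agent.H80.truncTo C (regElt p (χ : G → ℂ))) -
      (∑ h : C, (if p ∣ orderOf h then (0 : ℂ) else (χ : G → ℂ) (x * ((h⁻¹ : C) : G))) *
        (ψ' : C → ℂ) h) / (ψ' : C → ℂ) 1) := by
  classical
  have hMp := isPrime_of_isPModular hM
  obtain ⟨D, hD⟩ : ∃ D : MonoidAlgebra ℂ C, D = ∑ h : C, MonoidAlgebra.single h
      (if p ∣ orderOf h then (0 : ℂ) else
        (χ : G → ℂ) ((h⁻¹ : C) : G) - (χ : G → ℂ) (x * ((h⁻¹ : C) : G))) := ⟨_, rfl⟩
  have hcoeff : ∀ h : C, D.coeff h = if p ∣ orderOf h then (0 : ℂ) else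
      (χ : G → ℂ) ((h⁻¹ : C) : G) - (χ : G → ℂ) (x * ((h⁻¹ : C) : G)) := by
    intro h
    rw [hD, MonoidAlgebra.coeff_sum, Finsupp.finsetSum_apply]
    simp only [MonoidAlgebra.coeff_single, Finsupp.single_apply]
    rw [Finset.sum_ite_eq' Finset.univ h]
    simp
  have hCF : IsCF D := by
    intro g h
    rw [hcoeff, hcoeff]
    have e1 : orderOf (h * g * h⁻¹) = orderOf g :=
      orderOf_injective (MulAut.conj h).toMonoidHom (MulAut.conj h).injective g
    have e2 : (((h * g * h⁻¹)⁻¹ : C) : G) = (h : G) * ((g⁻¹ : C) : G) * (h : G)⁻¹ := by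
      push_cast
      group
    have e3 : x * (((h * g * h⁻¹)⁻¹ : C) : G) = (h : G) * (x * ((g⁻¹ : C) : G)) * (h : G)⁻¹ := by
      rw [e2]
      have := hxC h h.2
      calc x * ((h : G) * ((g⁻¹ : C) : G) * (h : G)⁻¹)
          = (x * (h : G)) * ((g⁻¹ : C) : G) * (h : G)⁻¹ := by group
        _ = ((h : G) * x) * ((g⁻¹ : C) : G) * (h : G)⁻¹ := by rw [this]
        _ = (h : G) * (x * ((g⁻¹ : C) : G)) * (h : G)⁻¹ := by group
    rw [e1, e3, e2, irr_isClassFunction χ, irr_isClassFunction χ]
  have hmem : MemLocalIdeal M (omega (ψ' : C → ℂ) D) := by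
    apply omega_mem_of_coeff _ (irr_isClassFunction ψ') (localIdeal M hMp) hCF
    intro g
    rw [hcoeff]
    split_ifs
    · rw [zero_mul]; exact (localIdeal M hMp).zero_mem
    · rw [mem_localIdeal]
      apply memLocalIdeal_mul_right hMp _ (centralChar_memLocalRing hMp ψ' g)
      have h1 := irr_mul_sub_of_commute hM χ x ((g⁻¹ : C) : G) (hxC _ (g⁻¹).2) hx
      have h2 := memLocalIdeal_neg h1
      rwa [neg_sub] at h2
  convert hmem using 1
  unfold omega
  rw [← sub_div]
  congr 1
  rw [← Finset.sum_sub_distrib]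
  apply Finset.sum_congr rfl
  intro h _
  rw [hcoeff, Cfsg.Agent.H80.coeff_truncTo, coeff_regElt, Subgroup.orderOf_coe]
  split_ifs
  · simp
  · rw [Subgroup.coe_inv]
    ring

/-- **Non-vanishing for height zero characters on a `p`-section**: if `b` (a block of a subgroup
`C` centralizing the `p`-element `x`) induces `B` and `χ ∈ B` has height zero, then for `ψ' ∈ b`
the number `(1/ψ'(1)) ∑_{h p-regular} χ(x h⁻¹) ψ'(h)` is not in the local ideal. -/
theorem not_memLocalIdeal_translate_pairing (hM : IsPModular p M) (x : G) {k : ℕ}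
    (hx : x ^ p ^ k = 1) (C : Subgroup G) [Fintype C] (hxC : ∀ c ∈ C, x * c = c * x)
    (b : Set (IrrCharacter C)) (B : Set (IrrCharacter G)) (hind : IsInducedBlock M C b B)
    (χ : IrrCharacter G) (hχ : χ ∈ B) (h0 : blockHeight p B (χ : G → ℂ) = 0)
    (ψ' : IrrCharacter C) (hψ' : ψ' ∈ b) :
    ¬ MemLocalIdeal M ((∑ h : C, (if p ∣ orderOf h then (0 : ℂ) else
        (χ : G → ℂ) (x * ((h⁻¹ : C) : G))) * (ψ' : C → ℂ) h) / (ψ' : C → ℂ) 1) := by
  classical
  have hMp := isPrime_of_isPModular hM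
  have hunit := (inner_regular_induced hM C b B hind χ ψ' hψ').2 hχ h0
  have h1 := omega_truncTo_regElt_sub hM x hx C hxC χ ψ'
  intro hcon
  apply hunit
  have := memLocalIdeal_add hMp h1 hcon
  rwa [sub_add_cancel] at this

end HZ

end Cfsg.Agent.H84
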