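/-
helper84 library: the residue field of the local ring at a maximal ideal `M` of the algebraic
integers, the reduction map `red : ℂ → ResField M hM` (junk value `0` outside the local ring),
and a rectangular determinant expansion (a weak Cauchy–Binet formula).
-/
import Mathlib
import Cfsg.Prelude.Def_Blocks
import Cfsg.Agent.H20.LocalRing

set_option autoImplicit false
set_option linter.style.haveILetI false
set_option linter.unusedSectionVars false
set_option linter.unusedVariables false

namespace Cfsg.Agent.H84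

open Cfsg Cfsg.Agent.H20

section WeakCauchyBinet

/-- Expansion of the determinant of a product of an `r × κ` and a `κ × r` matrix. -/
theorem det_mul_rect {F : Type*} [CommRing F] {r : ℕ} {κ : Type*} [Fintype κ] [DecidableEq κ]
    (P : Matrix (Fin r) κ F) (Q : Matrix κ (Fin r) F) :
    (P * Q).det = ∑ f : Fin r → κ, (∏ i, P i (f i)) * (Q.submatrix f id).det := by
  have h : P * Q = fun i => ∑ k, P i k • Q k := by
    ext i j
    simp [Matrix.mul_apply, Finset.sum_apply]
  rw [h]
  have h2 := (Matrix.detRowAlternating (R := F) (n := Fin r)).toMultilinearMap.map_sum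
    (fun i k => P i k • Q k)
  have h3 : Matrix.det (fun i => ∑ k, P i k • Q k)
      = ∑ f : Fin r → κ, Matrix.det (fun i => P i (f i) • Q (f i)) := h2
  rw [h3]
  apply Finset.sum_congr rfl
  intro f _
  have h4 := (Matrix.detRowAlternating (R := F) (n := Fin r)).toMultilinearMap.map_smul_univ
    (fun i => P i (f i)) (fun i => Q (f i))
  have h5 : Matrix.det (fun i => P i (f i) • Q (f i))
      = (∏ i, P i (f i)) • Matrix.det (fun i => Q (f i)) := h4
  rw [h5, smul_eq_mul]
  rfl

/-- If the determinant of a product of an `r × κ` and a `κ × r` matrix over a commutative ring is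
nonzero, some `f : Fin r → κ` has all `P i (f i) ≠ 0` and the minor of `Q` on the rows `f` is
nonzero. -/
theorem exists_minor_ne_zero {F : Type*} [CommRing F] {r : ℕ} {κ : Type*} [Fintype κ]
    [DecidableEq κ] (P : Matrix (Fin r) κ F) (Q : Matrix κ (Fin r) F) (h : (P * Q).det ≠ 0) :
    ∃ f : Fin r → κ, (∀ i, P i (f i) ≠ 0) ∧ (Q.submatrix f id).det ≠ 0 := by
  rw [det_mul_rect] at h
  obtain ⟨f, -, hf⟩ := Finset.exists_ne_zero_of_sum_ne_zero h
  refine ⟨f, fun i hi => hf ?_, fun h0 => hf ?_⟩
  · rw [Finset.prod_eq_zero (Finset.mem_univ i) hi, zero_mul]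
  · rw [h0, mul_zero]

end WeakCauchyBinet

section Residue

variable {M : Ideal AlgInt}

/-- The maximal ideal of the local ring at `M`. -/
def resIdeal (M : Ideal AlgInt) (hM : M.IsPrime) : Ideal (localRing M hM) where
  carrier := {z | MemLocalIdeal M (z : ℂ)}
  add_mem' := fun {x y} hx hy => memLocalIdeal_add hM hx hy
  zero_mem' := memLocalIdeal_zero hM
  smul_mem' := fun c x hx => memLocalIdeal_mul_left hM c.2 hx

theorem mem_resIdeal (hM : M.IsPrime) (z : localRing M hM) :
    z ∈ resIdeal M hM ↔ MemLocalIdeal M (z : ℂ) := Iff.rfl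

instance resIdeal_isMaximal (hM : M.IsPrime) : (resIdeal M hM).IsMaximal := by
  rw [Ideal.isMaximal_iff]
  refine ⟨fun h => not_memLocalIdeal_one hM h, ?_⟩
  intro J x hJ hx hxJ
  have hx' : ¬ MemLocalIdeal M (x : ℂ) := hx
  have hinv : MemLocalRing M ((x : ℂ)⁻¹) := memLocalRing_inv x.2 hx'
  have hx0 : (x : ℂ) ≠ 0 := fun h0 => hx' (by rw [h0]; exact memLocalIdeal_zero hM)
  have h1 : (⟨(x : ℂ)⁻¹, hinv⟩ : localRing M hM) * x = 1 := by
    apply Subtype.ext
    show (x : ℂ)⁻¹ * (x : ℂ) = 1
    exact inv_mul_cancel₀ hx0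
  rw [← h1]
  exact J.mul_mem_left _ hxJ

/-- The residue field of the local ring at `M`. -/
abbrev ResField (M : Ideal AlgInt) (hM : M.IsPrime) : Type := localRing M hM ⧸ resIdeal M hM

noncomputable instance resFieldField (hM : M.IsPrime) : Field (ResField M hM) :=
  Ideal.Quotient.field (resIdeal M hM)

open scoped Classical in
/-- Reduction modulo the local ideal, extended by `0` outside the local ring. -/
noncomputable def red (hM : M.IsPrime) (z : ℂ) : ResField M hM :=
  if h : MemLocalRing M z then Ideal.Quotient.mk (resIdeal M hM) ⟨z, h⟩ else 0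

theorem red_of_mem (hM : M.IsPrime) {z : ℂ} (h : MemLocalRing M z) :
    red hM z = Ideal.Quotient.mk (resIdeal M hM) ⟨z, h⟩ := by
  unfold red
  rw [dif_pos h]

theorem red_coe (hM : M.IsPrime) (z : localRing M hM) :
    red hM (z : ℂ) = Ideal.Quotient.mk (resIdeal M hM) z :=
  red_of_mem hM z.2

theorem red_add (hM : M.IsPrime) {x y : ℂ} (hx : MemLocalRing M x) (hy : MemLocalRing M y) :
    red hM (x + y) = red hM x + red hM y := by
  rw [red_of_mem hM hx, red_of_mem hM hy, red_of_mem hM (memLocalRing_add hM hx hy), ← map_add]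
  rfl

theorem red_mul (hM : M.IsPrime) {x y : ℂ} (hx : MemLocalRing M x) (hy : MemLocalRing M y) :
    red hM (x * y) = red hM x * red hM y := by
  rw [red_of_mem hM hx, red_of_mem hM hy, red_of_mem hM (memLocalRing_mul hM hx hy), ← map_mul]
  rfl

theorem red_zero (hM : M.IsPrime) : red hM (0 : ℂ) = 0 := by
  rw [red_of_mem hM (memLocalRing_zero hM)]
  exact map_zero _

theorem red_one (hM : M.IsPrime) : red hM (1 : ℂ) = 1 := by
  rw [red_of_mem hM (memLocalRing_one hM)]
  exact map_one _

theorem red_eq_zero_iff (hM : M.IsPrime) {x : ℂ} (hx : MemLocalRing M x) :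
    red hM x = 0 ↔ MemLocalIdeal M x := by
  rw [red_of_mem hM hx, Ideal.Quotient.eq_zero_iff_mem]
  rfl

theorem red_eq_zero_of_mem (hM : M.IsPrime) {x : ℂ} (hx : MemLocalIdeal M x) :
    red hM x = 0 :=
  (red_eq_zero_iff hM (MemLocalIdeal.memLocalRing hx)).mpr hx

theorem red_neg (hM : M.IsPrime) {x : ℂ} (hx : MemLocalRing M x) :
    red hM (-x) = - red hM x := by
  rw [red_of_mem hM hx, red_of_mem hM (memLocalRing_neg hx), ← map_neg]
  rfl

theorem red_sub (hM : M.IsPrime) {x y : ℂ} (hx : MemLocalRing M x) (hy : MemLocalRing M y) :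
    red hM (x - y) = red hM x - red hM y := by
  rw [sub_eq_add_neg, red_add hM hx (memLocalRing_neg hy), red_neg hM hy, sub_eq_add_neg]

theorem red_eq_of_sub (hM : M.IsPrime) {x y : ℂ} (hx : MemLocalRing M x) (hy : MemLocalRing M y)
    (h : MemLocalIdeal M (x - y)) : red hM x = red hM y := by
  have h1 := red_eq_zero_of_mem hM h
  rw [red_sub hM hx hy] at h1
  exact sub_eq_zero.mp h1

theorem red_sum (hM : M.IsPrime) {ι : Type*} (s : Finset ι) (f : ι → ℂ)
    (h : ∀ i ∈ s, MemLocalRing M (f i)) : red hM (∑ i ∈ s, f i) = ∑ i ∈ s, red hM (f i) := by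
  classical
  induction s using Finset.induction_on with
  | empty => simp [red_zero]
  | insert a s ha ih =>
    rw [Finset.sum_insert ha, Finset.sum_insert ha,
      red_add hM (h a (Finset.mem_insert_self a s))
        (memLocalRing_sum hM s f (fun i hi => h i (Finset.mem_insert_of_mem hi))),
      ih (fun i hi => h i (Finset.mem_insert_of_mem hi))]

theorem red_natCast (hM : M.IsPrime) (n : ℕ) : red hM (n : ℂ) = (n : ResField M hM) := by
  rw [red_of_mem hM (memLocalRing_natCast hM n)]
  have : (⟨(n : ℂ), memLocalRing_natCast hM n⟩ : localRing M hM) = (n : localRing M hM) := by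
    apply Subtype.ext
    simp
  rw [this, map_natCast]

theorem red_natCast_ne_zero {p : ℕ} (hM : IsPModular p M) {n : ℕ} (hn : ¬ p ∣ n) :
    red (isPrime_of_isPModular hM) (n : ℂ) ≠ 0 := by
  have hMp := isPrime_of_isPModular hM
  rw [Ne, red_eq_zero_iff hMp (memLocalRing_natCast hMp n), memLocalIdeal_natCast_iff hM]
  exact hn

/-- Reduction commutes with determinants of matrices with entries in the local ring. -/
theorem red_det (hM : M.IsPrime) {n : Type*} [Fintype n] [DecidableEq n] (A : Matrix n n ℂ)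
    (hA : ∀ i j, MemLocalRing M (A i j)) :
    MemLocalRing M A.det ∧ red hM A.det = Matrix.det (fun i j => red hM (A i j)) := by
  obtain ⟨AR, hAR⟩ : ∃ AR : Matrix n n (localRing M hM), ∀ i j, ((AR i j : localRing M hM) : ℂ)
      = A i j := ⟨fun i j => ⟨A i j, hA i j⟩, fun i j => rfl⟩
  have h1 : A = (localRing M hM).subtype.mapMatrix AR := by
    ext i j
    simp [hAR]
  have h2 : A.det = ((AR.det : localRing M hM) : ℂ) := by
    rw [h1, ← RingHom.map_det]
    rfl
  have h3 : (fun i j => red hM (A i j))
      = (Ideal.Quotient.mk (resIdeal M hM)).mapMatrix AR := by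
    ext i j
    rw [← hAR i j, red_coe]
    rfl
  refine ⟨by rw [h2]; exact (AR.det).2, ?_⟩
  rw [h2, red_coe, h3, ← RingHom.map_det]

end Residue

end Cfsg.Agent.H84
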