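/-
helper84 library: the rank of a square matrix over a field is unchanged by a field extension;
the residue field of the local ring at a `p`-modular ideal has characteristic `p`; ranks of
products with one-sided inverses.
-/
import Mathlib
import Cfsg.Prelude.Def_Blocks
import Cfsg.Agent.H20.LocalRing
import Cfsg.Agent.H84.ResRing

set_option autoImplicit false
set_option linter.style.haveILetI false
set_option linter.unusedSectionVars false
set_option linter.unusedVariables false

namespace Cfsg.Agent.H84

open Cfsg Cfsg.Agent.H20

/-- The rank of a square matrix over a field does not change under a field extension. -/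
theorem rank_map_field {K L : Type*} [Field K] [Field L] {n : Type*} [Fintype n] [DecidableEq n]
    (φ : K →+* L) (A : Matrix n n K) : (A.map φ).rank = A.rank := by
  classical
  obtain ⟨L1, L2, D, h⟩ := Matrix.Pivot.exists_list_transvec_mul_diagonal_mul_list_transvec A
  have hdet1 : ((L1.map Matrix.TransvectionStruct.toMatrix).prod).det = 1 :=
    Matrix.TransvectionStruct.det_toMatrix_prod L1
  have hdet2 : ((L2.map Matrix.TransvectionStruct.toMatrix).prod).det = 1 :=
    Matrix.TransvectionStruct.det_toMatrix_prod L2
  have hA : A.rank = (Matrix.diagonal D).rank := by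
    conv_lhs => rw [h]
    rw [Matrix.rank_mul_eq_left_of_isUnit_det _ _ (by rw [hdet2]; exact isUnit_one),
      Matrix.rank_mul_eq_right_of_isUnit_det _ _ (by rw [hdet1]; exact isUnit_one)]
  have hmap : A.map φ = ((L1.map Matrix.TransvectionStruct.toMatrix).prod).map φ
      * Matrix.diagonal (fun i => φ (D i))
      * ((L2.map Matrix.TransvectionStruct.toMatrix).prod).map φ := by
    conv_lhs => rw [h]
    rw [Matrix.map_mul, Matrix.map_mul]
    congr 2
    ext i j
    by_cases hij : i = j
    · subst hij; simp
    · simp [hij]
  have hdet1' : (((L1.map Matrix.TransvectionStruct.toMatrix).prod).map φ).det = 1 := by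
    rw [← RingHom.mapMatrix_apply, ← RingHom.map_det, hdet1, map_one]
  have hdet2' : (((L2.map Matrix.TransvectionStruct.toMatrix).prod).map φ).det = 1 := by
    rw [← RingHom.mapMatrix_apply, ← RingHom.map_det, hdet2, map_one]
  rw [hmap, Matrix.rank_mul_eq_left_of_isUnit_det _ _ (by rw [hdet2']; exact isUnit_one),
    Matrix.rank_mul_eq_right_of_isUnit_det _ _ (by rw [hdet1']; exact isUnit_one), hA,
    Matrix.rank_diagonal, Matrix.rank_diagonal]
  apply Fintype.card_congr
  exact Equiv.subtypeEquivRight (fun i => by simp [map_eq_zero])

/-- A matrix `P * W * Q` with `W` square invertible of size `κ`, `Y' * P = 1` and `Q * Y = 1` has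
rank `|κ|`. -/
theorem rank_of_sandwich {F : Type*} [Field F] {ι κ : Type*} [Fintype ι] [Fintype κ]
    [DecidableEq ι] [DecidableEq κ] (P : Matrix ι κ F) (W : Matrix κ κ F) (Q : Matrix κ ι F)
    (Y' : Matrix κ ι F) (Y : Matrix ι κ F) (h1 : Y' * P = 1) (h2 : Q * Y = 1)
    (hW : IsUnit W) : (P * W * Q).rank = Fintype.card κ := by
  apply le_antisymm
  · calc (P * W * Q).rank = (P * (W * Q)).rank := by rw [Matrix.mul_assoc]
      _ ≤ P.rank := Matrix.rank_mul_le_left _ _
      _ ≤ Fintype.card κ := Matrix.rank_le_card_width _
  · have h3 : Y' * (P * W * Q) * Y = W := by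
      calc Y' * (P * W * Q) * Y = (Y' * P) * W * (Q * Y) := by
            simp only [Matrix.mul_assoc]
        _ = W := by rw [h1, h2, Matrix.one_mul, Matrix.mul_one]
    calc Fintype.card κ = W.rank := (Matrix.rank_of_isUnit W hW).symm
      _ = (Y' * (P * W * Q) * Y).rank := by rw [h3]
      _ ≤ (Y' * (P * W * Q)).rank := Matrix.rank_mul_le_left _ _
      _ ≤ (P * W * Q).rank := Matrix.rank_mul_le_right _ _

section CharP

variable {M : Ideal AlgInt} {p : ℕ}

/-- The residue field at a `p`-modular ideal has characteristic `p`. -/
theorem resField_charP (hM : IsPModular p M) :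
    CharP (ResField M (isPrime_of_isPModular hM)) p := by
  have hMp := isPrime_of_isPModular hM
  have hp : p.Prime := hM.1
  have h0 : ((p : ℕ) : ResField M hMp) = 0 := by
    rw [← red_natCast hMp]
    exact red_eq_zero_of_mem hMp (memLocalIdeal_natCast_self hM)
  have h1 : ringChar (ResField M hMp) ∣ p := ringChar.dvd h0
  have h2 : ringChar (ResField M hMp) = p := by
    rcases (Nat.dvd_prime hp).mp h1 with h | h
    · exact absurd h (CharP.ringChar_ne_one)
    · exact h
  have h3 : CharP (ResField M hMp) (ringChar (ResField M hMp)) := ringChar.charP _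
  rw [h2] at h3
  exact h3

/-- The canonical ring homomorphism from `ZMod p` to the residue field. -/
noncomputable def zmodToRes (hM : IsPModular p M) :
    ZMod p →+* ResField M (isPrime_of_isPModular hM) :=
  haveI := resField_charP hM
  ZMod.castHom (dvd_refl p) (ResField M (isPrime_of_isPModular hM))

theorem zmodToRes_natCast (hM : IsPModular p M) (n : ℕ) :
    zmodToRes hM (n : ZMod p) = red (isPrime_of_isPModular hM) (n : ℂ) := by
  rw [map_natCast, red_natCast]

end CharP

end Cfsg.Agent.H84
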