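/-
helper84 library: blocks with a given defect group from `p`-separated classes.

If `x₁, …, x_r` are pairwise non-conjugate, `D` is a Sylow `p`-subgroup of each `C_G(xᵢ)` and no
quotient `g h⁻¹` of conjugates of the `xᵢ` is a non-identity `p`-element, then counting the pairs
`(g, h) ∈ K_j × K_i` with `g h⁻¹` in a Sylow `p`-subgroup in two ways gives, modulo the local
ideal, `δ_{ij} u_i ≡ ∑_χ c_χ ω_χ(x_i⁻¹) ω_χ(x_j)` (sum over the `χ` in blocks with defect group
`D`), and a rectangular determinant expansion produces `r` distinct blocks with defect group `D`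
whose central characters have a nonsingular matrix on the `x_j`.
-/
import Mathlib
import Cfsg.Prelude.Def_Blocks
import Cfsg.Agent.H84.ResRing
import Cfsg.Agent.H20.CentralChar
import Cfsg.Agent.H20.MinMax
import Cfsg.Agent.H20.DefectOrder
import Cfsg.Agent.H80.Block
import Cfsg.Agent.H81.QuotDefect
import Cfsg.Agent.H81.Reg
import Cfsg.Agent.H4.Chars
import Cfsg.Agent.S0906

set_option autoImplicit false
set_option linter.style.haveILetI false
set_option linter.unusedSectionVars false
set_option linter.unusedVariables false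

namespace Cfsg.Agent.H84

open Cfsg Cfsg.Agent.H4 Cfsg.Agent.H20 Cfsg.Agent.H80
open scoped ComplexConjugate

universe u

section Sep

variable {G : Type u} [Group G] [Fintype G]

/-- Fourier inversion for the product of two class sums. -/
theorem coeff_classSum_mul (a b s : G) :
    (classSum a * classSum b).coeff s = (Nat.card G : ℂ)⁻¹ *
      ∑ᶠ χ : IrrCharacter G, (χ : G → ℂ) 1 * conj ((χ : G → ℂ) s) *
        (centralChar (χ : G → ℂ) a * centralChar (χ : G → ℂ) b) := by
  have ha : IsCF (classSum a) := isCF_of_mem (classSum_mem ⊤ a)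
  have hb : IsCF (classSum b) := isCF_of_mem (classSum_mem ⊤ b)
  rw [coeff_eq_finsum_irr (isCF_mul ha hb)]
  congr 1
  apply finsum_congr
  intro χ
  rw [omega_mul χ ha, omega_classSum _ (irr_isClassFunction χ),
    omega_classSum _ (irr_isClassFunction χ)]

open scoped Classical in
/-- The coefficient of `s` in a product of two class sums counts factorizations. -/
theorem coeff_classSum_mul_count (a b s : G) :
    (classSum a * classSum b).coeff s
      = ((Finset.univ.filter (fun g : G => IsConj a g ∧ IsConj b (g⁻¹ * s))).card : ℂ) := by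
  rw [coeff_mul_fintype]
  simp only [coeff_classSum]
  rw [Finset.card_filter]
  push_cast
  apply Finset.sum_congr rfl
  intro g _
  by_cases h1 : IsConj a g
  · by_cases h2 : IsConj b (g⁻¹ * s)
    · rw [if_pos h1, if_pos h2, if_pos ⟨h1, h2⟩, mul_one]
    · rw [if_pos h1, if_neg h2,
        if_neg (fun h : IsConj a g ∧ IsConj b (g⁻¹ * s) => h2 h.2), mul_zero]
  · rw [if_neg h1, if_neg (fun h : IsConj a g ∧ IsConj b (g⁻¹ * s) => h1 h.1), zero_mul]

theorem isConj_inv_of {a b : G} (h : IsConj a⁻¹ b) : IsConj a b⁻¹ := by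
  obtain ⟨c, hc⟩ := isConj_iff.mp h
  refine isConj_iff.mpr ⟨c, ?_⟩
  rw [← hc]
  group

open scoped Classical in
/-- The sum of the conjugate values of an irreducible character over a subgroup is the order of
the subgroup times a natural number. -/
theorem exists_sum_subgroup_eq (S : Subgroup G) (χ : IrrCharacter G) :
    ∃ m : ℕ, ∑ s ∈ Finset.univ.filter (fun s : G => s ∈ S), conj ((χ : G → ℂ) s)
      = (Nat.card S : ℂ) * m := by
  haveI : Fintype S := Fintype.ofFinite S
  have h1 : IsCharacter S (fun s : S => (χ : G → ℂ) (s : G)) :=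
    isCharacter_restrict S (isCharacter_of_irr χ)
  have h2 : IsCharacter S ((trivChar S : IrrCharacter S) : S → ℂ) := isCharacter_of_irr _
  obtain ⟨m, hm⟩ := classInner_isCharacter_nat h2 h1
  refine ⟨m, ?_⟩
  unfold classInner at hm
  simp only [trivChar_apply, one_mul] at hm
  have hne : (Nat.card S : ℂ) ≠ 0 := by exact_mod_cast Nat.card_pos.ne'
  rw [← hm, ← mul_assoc, mul_inv_cancel₀ hne, one_mul]
  rw [Finset.sum_subtype (Finset.univ.filter (fun s : G => s ∈ S)) (p := fun s => s ∈ S)
    (by intro s; simp) (fun s => conj ((χ : G → ℂ) s))]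


open scoped Classical in
/-- Summing the Fourier expansion of a product of two class sums over a subgroup. -/
theorem sep_identity (S : Subgroup G) (a b : G) (m : IrrCharacter G → ℕ)
    (hm : ∀ χ : IrrCharacter G, ∑ s ∈ Finset.univ.filter (fun s : G => s ∈ S),
      conj ((χ : G → ℂ) s) = (Nat.card S : ℂ) * m χ) :
    ∑ s ∈ Finset.univ.filter (fun s : G => s ∈ S), (classSum a * classSum b).coeff s
      = (Nat.card G : ℂ)⁻¹ * ∑ᶠ χ : IrrCharacter G, (χ : G → ℂ) 1 * ((Nat.card S : ℂ) * m χ) *
        (centralChar (χ : G → ℂ) a * centralChar (χ : G → ℂ) b) := by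
  letI := fintypeIrr G
  simp only [coeff_classSum_mul, finsum_irr_eq_sum]
  rw [← Finset.mul_sum, Finset.sum_comm]
  congr 1
  apply Finset.sum_congr rfl
  intro χ _
  rw [← hm χ, Finset.mul_sum, Finset.sum_mul]

open scoped Classical in
/-- For `s` in a `p`-subgroup, the coefficient of `s` in `K̂_a K̂_{b⁻¹}` when no quotient of
conjugates of `a` and `b` is a non-identity `p`-element. -/
theorem sep_coeff (p : ℕ) [Fact p.Prime] (S : Subgroup G) (hS : IsPGroup p S) (a b : G)
    (hsep : ∀ g h : G, IsConj a g → IsConj b h → ∀ k : ℕ, 0 < k → orderOf (g * h⁻¹) ≠ p ^ k)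
    (s : G) (hs : s ∈ S) :
    (classSum a * classSum b⁻¹).coeff s
      = if s = 1 ∧ IsConj a b then ((Subgroup.centralizer ({a} : Set G)).index : ℂ) else 0 := by
  have hp : p.Prime := Fact.out
  rw [coeff_classSum_mul_count]
  by_cases h : s = 1 ∧ IsConj a b
  · rw [if_pos h]
    obtain ⟨rfl, hab⟩ := h
    rw [← card_conj_eq_index]
    congr 2
    ext g
    simp only [Finset.mem_filter, Finset.mem_univ, true_and, mul_one, and_iff_left_iff_imp]
    intro hg
    have h1 : IsConj b g := hab.symm.trans hg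
    obtain ⟨c, hc⟩ := isConj_iff.mp h1
    refine isConj_iff.mpr ⟨c, ?_⟩
    rw [← hc]
    group
  · rw [if_neg h]
    have hempty : Finset.univ.filter (fun g : G => IsConj a g ∧ IsConj b⁻¹ (g⁻¹ * s)) = ∅ := by
      rw [Finset.eq_empty_iff_forall_notMem]
      intro g hg
      rw [Finset.mem_filter] at hg
      obtain ⟨-, hg1, hg2⟩ := hg
      have hh : IsConj b (g⁻¹ * s)⁻¹ := isConj_inv_of hg2
      have hgs : g * ((g⁻¹ * s)⁻¹)⁻¹ = s := by group
      obtain ⟨k, hk⟩ : ∃ k : ℕ, orderOf s = p ^ k := by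
        obtain ⟨k, hk⟩ := hS ⟨s, hs⟩
        have hk' : s ^ p ^ k = 1 := by
          have := congrArg (Subtype.val) hk
          simpa using this
        obtain ⟨j, -, hj⟩ := (Nat.dvd_prime_pow hp).mp (orderOf_dvd_of_pow_eq_one hk')
        exact ⟨j, hj⟩
      have hk0 : k = 0 := by
        by_contra hk0
        exact hsep g _ hg1 hh k (Nat.pos_of_ne_zero hk0) (by rw [hgs]; exact hk)
      rw [hk0, pow_zero, orderOf_eq_one_iff] at hk
      apply h
      refine ⟨hk, ?_⟩
      rw [hk, mul_one, inv_inv] at hh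
      exact hg1.trans hh.symm
    rw [hempty, Finset.card_empty, Nat.cast_zero]

/-- Numerical facts for a class whose centralizer has Sylow `p`-subgroup `D`. -/
theorem sylow_centralizer_facts (p : ℕ) [Fact p.Prime] (x : G) (D : Subgroup G)
    (hD : ∃ S : Sylow p ↥(Subgroup.centralizer ({x} : Set G)),
      (S : Subgroup ↥(Subgroup.centralizer ({x} : Set G))).map
        (Subgroup.centralizer ({x} : Set G)).subtype = D) :
    Nat.card D = p ^ (Nat.card D).factorization p ∧
    (Nat.card D).factorization p ≤ (Nat.card G).factorization p ∧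
    ∃ u : ℕ, ¬ p ∣ u ∧ (Subgroup.centralizer ({x} : Set G)).index
      = p ^ ((Nat.card G).factorization p - (Nat.card D).factorization p) * u := by
  have hp : p.Prime := Fact.out
  obtain ⟨S, rfl⟩ := hD
  have h1 : Nat.card ((S : Subgroup ↥(Subgroup.centralizer ({x} : Set G))).map
      (Subgroup.centralizer ({x} : Set G)).subtype)
      = p ^ (Nat.card (Subgroup.centralizer ({x} : Set G))).factorization p := by
    rw [Subgroup.card_map_of_injective (Subgroup.subtype_injective _)]
    exact Sylow.card_eq_multiplicity S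
  have h2 : (Nat.card ((S : Subgroup ↥(Subgroup.centralizer ({x} : Set G))).map
      (Subgroup.centralizer ({x} : Set G)).subtype)).factorization p
      = (Nat.card (Subgroup.centralizer ({x} : Set G))).factorization p := by
    rw [h1, Nat.Prime.factorization_pow hp]
    simp
  have h3 := Subgroup.card_mul_index (Subgroup.centralizer ({x} : Set G))
  have hi0 : (Subgroup.centralizer ({x} : Set G)).index ≠ 0 := Subgroup.index_ne_zero_of_finite
  have h4 : (Nat.card G).factorization p
      = (Nat.card (Subgroup.centralizer ({x} : Set G))).factorization p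
        + ((Subgroup.centralizer ({x} : Set G)).index).factorization p := by
    rw [← h3, Nat.factorization_mul Nat.card_pos.ne' hi0]
    rfl
  refine ⟨by rw [h2]; exact h1, by rw [h2]; omega, _, Nat.not_dvd_ordCompl hp hi0, ?_⟩
  rw [h2, h4, Nat.add_sub_cancel_left]
  exact (Nat.ordProj_mul_ordCompl_eq_self _ p).symm


/-- The defect of a block with defect group `D`. -/
theorem blockDefect_eq_of_isDefectGroup {p : ℕ} [Fact p.Prime] {M : Ideal AlgInt}
    (hM : IsPModular p M) (χ : IrrCharacter G) (D : Subgroup G)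
    (hD : IsDefectGroup p M (blockOf M (χ : G → ℂ)) D) :
    blockDefect p (blockOf M (χ : G → ℂ)) = (Nat.card D).factorization p := by
  have hp : p.Prime := hM.1
  rw [card_defectGroup hM χ D hD, Nat.Prime.factorization_pow hp]
  simp

/-- **Blocks from `p`-separated classes.** -/
theorem sep_blocks (p : ℕ) [Fact p.Prime] (M : Ideal AlgInt) (hM : IsPModular p M)
    (D : Subgroup G) {r : ℕ} (x : Fin r → G) (hx : ∀ i j : Fin r, IsConj (x i) (x j) → i = j)
    (hD : ∀ i : Fin r, ∃ S : Sylow p ↥(Subgroup.centralizer ({x i} : Set G)),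
      (S : Subgroup ↥(Subgroup.centralizer ({x i} : Set G))).map
        (Subgroup.centralizer ({x i} : Set G)).subtype = D)
    (hsep : ∀ i j : Fin r, ∀ g h : G, IsConj (x i) g → IsConj (x j) h → ∀ k : ℕ, 0 < k →
      orderOf (g * h⁻¹) ≠ p ^ k) :
    ∃ B : Fin r → Set (IrrCharacter G), Function.Injective B ∧
      (∀ i : Fin r, IsPBlock M (B i) ∧ IsDefectGroup p M (B i) D) ∧
      ∀ χ : Fin r → IrrCharacter G,
        (∀ i : Fin r, χ i ∈ B i ∧ blockHeight p (B i) (χ i : G → ℂ) = 0) →
        ¬ MemLocalIdeal M (Matrix.det (Matrix.of fun i j : Fin r => (χ i : G → ℂ) (x j))) := by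
  classical
  letI := fintypeIrr G
  have hp : p.Prime := hM.1
  have hMp := isPrime_of_isPModular hM
  obtain ⟨a, ha⟩ : ∃ a, a = (Nat.card G).factorization p := ⟨_, rfl⟩
  obtain ⟨d, hd⟩ : ∃ d, d = (Nat.card D).factorization p := ⟨_, rfl⟩
  -- a Sylow subgroup
  obtain ⟨S⟩ : Nonempty (Sylow p G) := inferInstance
  have hScard : Nat.card (S : Subgroup G) = p ^ a := by
    rw [ha]; exact Sylow.card_eq_multiplicity S
  obtain ⟨n', hn'⟩ : ∃ n', n' = (S : Subgroup G).index := ⟨_, rfl⟩
  have hpn' : ¬ p ∣ n' := by rw [hn']; exact S.not_dvd_index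
  have hG : Nat.card G = p ^ a * n' := by
    rw [hn', ← hScard]; exact (Subgroup.card_mul_index _).symm
  have hn0 : (n' : ℂ) ≠ 0 := by
    have : n' ≠ 0 := fun h => hpn' (by rw [h]; exact dvd_zero p)
    exact_mod_cast this
  have hp0 : (p : ℂ) ≠ 0 := by exact_mod_cast hp.ne_zero
  -- the indices
  have hidx : ∀ i : Fin r, ∃ u : ℕ, ¬ p ∣ u ∧
      (Subgroup.centralizer ({x i} : Set G)).index = p ^ (a - d) * u := by
    intro i
    obtain ⟨-, -, u, h1, h2⟩ := sylow_centralizer_facts p (x i) D (hD i)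
    exact ⟨u, h1, by rw [ha, hd]; exact h2⟩
  choose u hu1 hu2 using hidx
  have hda : ∀ i : Fin r, d ≤ a := by
    intro i
    rw [ha, hd]
    exact (sylow_centralizer_facts p (x i) D (hD i)).2.1
  have hcardD : ∀ i : Fin r, Nat.card D = p ^ d := by
    intro i
    rw [hd]
    exact (sylow_centralizer_facts p (x i) D (hD i)).1
  -- the multiplicities
  choose m hm using fun χ : IrrCharacter G => exists_sum_subgroup_eq (S : Subgroup G) χ
  -- the terms
  obtain ⟨t, ht⟩ : ∃ t : IrrCharacter G → Fin r → Fin r → ℂ, ∀ χ i j, t χ i j =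
      (u j : ℂ) * (χ : G → ℂ) (x j) * ((m χ : ℂ) * (n' : ℂ)⁻¹)
        * centralChar (χ : G → ℂ) (x i)⁻¹ := ⟨_, fun _ _ _ => rfl⟩
  have hω : ∀ (χ : IrrCharacter G) (j : Fin r), centralChar (χ : G → ℂ) (x j)
      = ((p : ℂ) ^ (a - d) * (u j : ℂ)) * (χ : G → ℂ) (x j) / (χ : G → ℂ) 1 := by
    intro χ j
    unfold centralChar
    rw [hu2 j]
    push_cast
    ring
  have hE : ∀ i j : Fin r, (if i = j then (u i : ℂ) else 0) = ∑ χ : IrrCharacter G, t χ i j := by
    intro i j
    have h1 := sep_identity (S : Subgroup G) (x j) (x i)⁻¹ m hm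
    have h2 : ∑ s ∈ Finset.univ.filter (fun s : G => s ∈ (S : Subgroup G)),
        (classSum (x j) * classSum (x i)⁻¹).coeff s
        = if i = j then ((p ^ (a - d) * u i : ℕ) : ℂ) else 0 := by
      rw [Finset.sum_congr rfl (fun s hs => sep_coeff p (S : Subgroup G) S.isPGroup' (x j) (x i)
        (hsep j i) s (Finset.mem_filter.mp hs).2)]
      by_cases hij : i = j
      · subst hij
        rw [if_pos rfl, Finset.sum_eq_single 1]
        · rw [if_pos ⟨rfl, IsConj.refl _⟩, hu2]
        · intro s _ hs1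
          rw [if_neg (fun h => hs1 h.1)]
        · intro h1
          exact absurd (Finset.mem_filter.mpr ⟨Finset.mem_univ _, (S : Subgroup G).one_mem⟩) h1
      · rw [if_neg hij]
        apply Finset.sum_eq_zero
        intro s _
        rw [if_neg (fun h => hij (hx j i h.2).symm)]
    rw [h2, finsum_irr_eq_sum] at h1
    have hpne : ((p : ℂ) ^ (a - d)) ≠ 0 := pow_ne_zero _ hp0
    apply mul_left_cancel₀ hpne
    have h3 : (p : ℂ) ^ (a - d) * (if i = j then (u i : ℂ) else 0)
        = if i = j then ((p ^ (a - d) * u i : ℕ) : ℂ) else 0 := by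
      split_ifs <;> simp
    rw [h3, h1, Finset.mul_sum, Finset.mul_sum]
    apply Finset.sum_congr rfl
    intro χ _
    have hχ1 := irr_one_ne_zero χ
    rw [ht, hω χ j, hG, hScard]
    push_cast
    have hpa : ((p : ℂ) ^ a) ≠ 0 := pow_ne_zero _ hp0
    field_simp
  -- local integrality of the terms
  have hn'R : MemLocalRing M ((n' : ℂ)⁻¹) := memLocalRing_inv_natCast hM hpn'
  have hχR : ∀ (χ : IrrCharacter G) (g : G), MemLocalRing M ((χ : G → ℂ) g) := fun χ g =>
    memLocalRing_algInt hMp ⟨_, Cfsg.Agent.H81.irr_isIntegral χ g⟩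
  have hωR : ∀ (χ : IrrCharacter G) (g : G), MemLocalRing M (centralChar (χ : G → ℂ) g) :=
    fun χ g => centralChar_memLocalRing hMp χ g
  have hmn : ∀ χ : IrrCharacter G, MemLocalRing M ((m χ : ℂ) * (n' : ℂ)⁻¹) := fun χ =>
    memLocalRing_mul hMp (memLocalRing_natCast hMp _) hn'R
  have hfront : ∀ (χ : IrrCharacter G) (j : Fin r),
      MemLocalRing M ((u j : ℂ) * (χ : G → ℂ) (x j) * ((m χ : ℂ) * (n' : ℂ)⁻¹)) := fun χ j =>
    memLocalRing_mul hMp (memLocalRing_mul hMp (memLocalRing_natCast hMp _) (hχR χ _)) (hmn χ)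
  have htR : ∀ χ i j, MemLocalRing M (t χ i j) := fun χ i j => by
    rw [ht]; exact memLocalRing_mul hMp (hfront χ j) (hωR χ _)
  -- the degree form of the terms
  have hdeg : ∀ (χ : IrrCharacter G) (q : ℕ), charDegree (χ : G → ℂ) = p ^ (a - d) * q →
      ∀ i j, t χ i j = ((q : ℂ) * ((m χ : ℂ) * (n' : ℂ)⁻¹)) * centralChar (χ : G → ℂ) (x j)
        * centralChar (χ : G → ℂ) (x i)⁻¹ := by
    intro χ q hq i j
    have h1 : (χ : G → ℂ) 1 = ((p ^ (a - d) * q : ℕ) : ℂ) := by
      rw [← hq]; exact (Cfsg.Agent.H81.irr_charDegree χ).1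
    have hq0 : (q : ℂ) ≠ 0 := by
      have h2 := (Cfsg.Agent.H81.irr_charDegree χ).2
      rw [hq] at h2
      have : q ≠ 0 := fun h => by rw [h, mul_zero] at h2; exact lt_irrefl _ h2
      exact_mod_cast this
    rw [ht, hω χ j, h1]
    push_cast
    have hpne : ((p : ℂ) ^ (a - d)) ≠ 0 := pow_ne_zero _ hp0
    field_simp
  -- good characters: those in blocks with defect group `D`
  have hgood_dvd : ∀ χ : IrrCharacter G, IsDefectGroup p M (blockOf M (χ : G → ℂ)) D →
      ∃ q : ℕ, charDegree (χ : G → ℂ) = p ^ (a - d) * q := by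
    intro χ hχ
    have h1 := blockDefect_eq_of_isDefectGroup hM χ D hχ
    rw [← hd] at h1
    unfold blockDefect at h1
    rw [← ha] at h1
    have h2 : sInf ((fun ψ : IrrCharacter G => (charDegree (ψ : G → ℂ)).factorization p) ''
        blockOf M (χ : G → ℂ)) ≤ (charDegree (χ : G → ℂ)).factorization p :=
      Nat.sInf_le ⟨χ, mem_blockOf_self hMp χ, rfl⟩
    have h3 : a - d ≤ (charDegree (χ : G → ℂ)).factorization p := by omega
    exact (Nat.Prime.pow_dvd_iff_le_factorization hp
      (Cfsg.Agent.H81.irr_charDegree χ).2.ne').mpr h3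
  have hbad : ∀ χ : IrrCharacter G, ¬ IsDefectGroup p M (blockOf M (χ : G → ℂ)) D →
      ∀ i j, MemLocalIdeal M (t χ i j) := by
    intro χ hχ i j
    by_cases hv : a - d < (charDegree (χ : G → ℂ)).factorization p
    · obtain ⟨q0, hq0⟩ := (Nat.Prime.pow_dvd_iff_le_factorization hp
        (Cfsg.Agent.H81.irr_charDegree χ).2.ne').mpr (Nat.succ_le_of_lt hv)
      have hq : charDegree (χ : G → ℂ) = p ^ (a - d) * (p * q0) := by
        rw [hq0, pow_succ]; ring
      rw [hdeg χ (p * q0) hq i j]
      have h1 : MemLocalIdeal M (((p * q0 : ℕ) : ℂ)) :=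
        (memLocalIdeal_natCast_iff hM _).mpr (dvd_mul_right p q0)
      exact memLocalIdeal_mul_right hMp (memLocalIdeal_mul_right hMp
        (memLocalIdeal_mul_right hMp h1 (hmn χ)) (hωR χ _)) (hωR χ _)
    · have hk : MemLocalIdeal M (centralChar (χ : G → ℂ) (x i)⁻¹) := by
        by_contra hk
        apply hχ
        obtain ⟨g, hg⟩ := Cfsg.Agent.S0906.result p M hM (blockOf M (χ : G → ℂ)) ⟨χ, rfl⟩
        obtain ⟨P0⟩ : Nonempty (Sylow p ↥(Subgroup.centralizer ({g} : Set G))) := inferInstance
        obtain ⟨DB, hDBdef⟩ : ∃ DB : Subgroup G, DB =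
            (P0 : Subgroup ↥(Subgroup.centralizer ({g} : Set G))).map
              (Subgroup.centralizer ({g} : Set G)).subtype := ⟨_, rfl⟩
        have hDB : IsDefectGroup p M (blockOf M (χ : G → ℂ)) DB := ⟨g, hg, P0, hDBdef⟩
        have hcardDB := card_defectGroup hM χ DB hDB
        have hbd : d ≤ blockDefect p (blockOf M (χ : G → ℂ)) := by
          unfold blockDefect
          rw [← ha]
          have h2 : sInf ((fun ψ : IrrCharacter G => (charDegree (ψ : G → ℂ)).factorization p) ''
              blockOf M (χ : G → ℂ)) ≤ (charDegree (χ : G → ℂ)).factorization p :=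
            Nat.sInf_le ⟨χ, mem_blockOf_self hMp χ, rfl⟩
          have h3 := hda i
          omega
        have hQ : IsPGroup p DB := by rw [hDBdef]; exact P0.isPGroup'.map _
        have hQy : DB ≤ Subgroup.centralizer ({g} : Set G) := by
          rw [hDBdef]
          rintro _ ⟨q, _, rfl⟩
          exact q.2
        obtain ⟨x₁, hx₁, hQx⟩ := exists_conj_centralized_of_block hM χ (x i)⁻¹ g hk hg.2.1
          DB hQ hQy
        have hconj' : IsConj (x i) x₁⁻¹ := isConj_inv_of hx₁
        have hQx' : DB ≤ Subgroup.centralizer ({x₁⁻¹} : Set G) := by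
          intro q hq
          have h4 := hQx hq
          rw [Subgroup.mem_centralizer_singleton_iff] at h4 ⊢
          calc q * x₁⁻¹ = x₁⁻¹ * (x₁ * q) * x₁⁻¹ := by group
            _ = x₁⁻¹ * (q * x₁) * x₁⁻¹ := by rw [h4]
            _ = x₁⁻¹ * q := by group
        obtain ⟨Si, hSi⟩ := hD i
        obtain ⟨y, hy⟩ := exists_le_conj_sylow_centralizer DB hQ (x i) x₁⁻¹ hconj' hQx' Si
        rw [hSi] at hy
        have heq : DB = D.map (MulAut.conj y).toMonoidHom := by
          apply Subgroup.eq_of_le_of_card_ge hy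
          rw [Subgroup.card_map_of_injective (MulEquiv.injective _), hcardD i, hcardDB]
          exact Nat.pow_le_pow_right hp.pos hbd
        have h5 := Cfsg.Agent.H81.isDefectGroup_map_conj hDB y⁻¹
        rw [heq, Subgroup.map_map] at h5
        have hid : ((MulAut.conj y⁻¹).toMonoidHom.comp (MulAut.conj y).toMonoidHom)
            = MonoidHom.id G := by
          ext z
          simp only [MonoidHom.coe_comp, MulEquiv.coe_toMonoidHom, Function.comp_apply,
            MulAut.conj_apply, MonoidHom.id_apply]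
          group
        rw [hid, Subgroup.map_id] at h5
        exact h5
      rw [ht]
      exact memLocalIdeal_mul_left hMp (hfront χ j) hk
  -- pass to the residue field
  choose! q hq using hgood_dvd
  obtain ⟨c, hc⟩ : ∃ c : IrrCharacter G → ℂ, ∀ χ, c χ = (q χ : ℂ) * ((m χ : ℂ) * (n' : ℂ)⁻¹) :=
    ⟨_, fun _ => rfl⟩
  have hcR : ∀ χ, MemLocalRing M (c χ) := fun χ => by
    rw [hc]; exact memLocalRing_mul hMp (memLocalRing_natCast hMp _) (hmn χ)
  obtain ⟨P, hP⟩ : ∃ P : Matrix (Fin r) (IrrCharacter G) (ResField M hMp), ∀ i χ, P i χ =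
      if IsDefectGroup p M (blockOf M (χ : G → ℂ)) D then
        red hMp (c χ) * red hMp (centralChar (χ : G → ℂ) (x i)⁻¹) else 0 :=
    ⟨_, fun _ _ => rfl⟩
  obtain ⟨Q, hQ⟩ : ∃ Q : Matrix (IrrCharacter G) (Fin r) (ResField M hMp), ∀ χ j, Q χ j =
      red hMp (centralChar (χ : G → ℂ) (x j)) := ⟨_, fun _ _ => rfl⟩
  have hPQ : P * Q = Matrix.diagonal (fun i => (u i : ResField M hMp)) := by
    ext i j
    rw [Matrix.mul_apply, Matrix.diagonal_apply]
    have h1 := congrArg (red hMp) (hE i j)
    rw [red_sum hMp _ _ (fun χ _ => htR χ i j)] at h1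
    have h2 : red hMp (if i = j then (u i : ℂ) else 0)
        = if i = j then (u i : ResField M hMp) else 0 := by
      split_ifs
      · exact red_natCast hMp _
      · exact red_zero hMp
    rw [h2] at h1
    rw [h1]
    apply Finset.sum_congr rfl
    intro χ _
    rw [hP, hQ]
    by_cases hg : IsDefectGroup p M (blockOf M (χ : G → ℂ)) D
    · rw [if_pos hg, hdeg χ (q χ) (hq χ hg) i j, ← hc,
        red_mul hMp (memLocalRing_mul hMp (hcR χ) (hωR χ _)) (hωR χ _),
        red_mul hMp (hcR χ) (hωR χ _)]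
      ring
    · rw [if_neg hg, zero_mul, red_eq_zero_of_mem hMp (hbad χ hg i j)]
  have hdet : (P * Q).det ≠ 0 := by
    rw [hPQ, Matrix.det_diagonal]
    apply Finset.prod_ne_zero_iff.mpr
    intro i _
    rw [← red_natCast hMp]
    exact red_natCast_ne_zero hM (hu1 i)
  obtain ⟨f, hfP, hfQ⟩ := exists_minor_ne_zero P Q hdet
  have hfgood : ∀ i, IsDefectGroup p M (blockOf M ((f i : IrrCharacter G) : G → ℂ)) D := by
    intro i
    by_contra hg
    apply hfP i
    rw [hP, if_neg hg]
  refine ⟨fun i => blockOf M ((f i : IrrCharacter G) : G → ℂ), ?_,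
    fun i => ⟨⟨f i, rfl⟩, hfgood i⟩, ?_⟩
  · intro i i' hii
    by_contra hne
    apply hfQ
    apply Matrix.det_zero_of_row_eq hne
    ext j
    show Q (f i) j = Q (f i') j
    rw [hQ, hQ]
    have hmem : f i' ∈ blockOf M ((f i : IrrCharacter G) : G → ℂ) := by
      have h1 : f i' ∈ blockOf M ((f i' : IrrCharacter G) : G → ℂ) := mem_blockOf_self hMp _
      have h2 : blockOf M ((f i : IrrCharacter G) : G → ℂ)
          = blockOf M ((f i' : IrrCharacter G) : G → ℂ) := hii
      rw [h2]
      exact h1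
    exact red_eq_of_sub hMp (hωR _ _) (hωR _ _) (hmem (x j))
  · intro χ' hχ' hmem
    have hX : ∀ i j, MemLocalRing M
        ((Matrix.of fun i j : Fin r => (χ' i : G → ℂ) (x j)) i j) := fun i j => hχR _ _
    obtain ⟨hdR, hdred⟩ := red_det hMp _ hX
    obtain ⟨Xb, hXb⟩ : ∃ Xb : Matrix (Fin r) (Fin r) (ResField M hMp), ∀ i j, Xb i j =
        red hMp ((χ' i : G → ℂ) (x j)) := ⟨_, fun _ _ => rfl⟩
    have h0 : Xb.det = 0 := by
      have h1 := red_eq_zero_of_mem hMp hmem
      rw [hdred] at h1
      have h2 : Xb = (fun i j : Fin r => red hMp ((Matrix.of fun i j : Fin r =>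
          (χ' i : G → ℂ) (x j)) i j)) := by
        ext i j
        rw [hXb]
        rfl
      rw [h2]
      exact h1
    have hq' : ∀ i, ∃ q' : ℕ, ¬ p ∣ q' ∧ charDegree (χ' i : G → ℂ) = p ^ (a - d) * q' := by
      intro i
      have hmemi : χ' i ∈ blockOf M ((f i : IrrCharacter G) : G → ℂ) := (hχ' i).1
      have hh : blockHeight p (blockOf M ((f i : IrrCharacter G) : G → ℂ)) (χ' i : G → ℂ) = 0 :=
        (hχ' i).2
      have h1 := blockDefect_eq_of_isDefectGroup hM (f i) D (hfgood i)
      rw [← hd] at h1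
      unfold blockDefect at h1
      rw [← ha] at h1
      unfold blockHeight at hh
      have h2 : sInf ((fun ψ : IrrCharacter G => (charDegree (ψ : G → ℂ)).factorization p) ''
          blockOf M ((f i : IrrCharacter G) : G → ℂ))
          ≤ (charDegree (χ' i : G → ℂ)).factorization p :=
        Nat.sInf_le ⟨χ' i, hmemi, rfl⟩
      have hne : charDegree (χ' i : G → ℂ) ≠ 0 := (Cfsg.Agent.H81.irr_charDegree (χ' i)).2.ne'
      have h3 : (charDegree (χ' i : G → ℂ)).factorization p ≤ a := by
        rw [ha]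
        exact (Nat.factorization_le_iff_dvd hne Nat.card_pos.ne').mpr
          (Cfsg.Agent.H81.irr_charDegree_dvd (χ' i)) p
      have h4 : (charDegree (χ' i : G → ℂ)).factorization p = a - d := by omega
      refine ⟨_, Nat.not_dvd_ordCompl hp hne, ?_⟩
      rw [← h4]
      exact (Nat.ordProj_mul_ordCompl_eq_self _ p).symm
    choose q' hq'1 hq'2 using hq'
    have hrel : ∀ i j, Xb i j * (u j : ResField M hMp)
        = (q' i : ResField M hMp) * Q (f i) j := by
      intro i j
      rw [hXb]
      have hcx : (χ' i : G → ℂ) (x j) * (u j : ℂ)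
          = (q' i : ℂ) * centralChar (χ' i : G → ℂ) (x j) := by
        have hq0 : (q' i : ℂ) ≠ 0 := by
          have : q' i ≠ 0 := fun h => hq'1 i (by rw [h]; exact dvd_zero p)
          exact_mod_cast this
        have hpne : ((p : ℂ) ^ (a - d)) ≠ 0 := pow_ne_zero _ hp0
        rw [hω, (Cfsg.Agent.H81.irr_charDegree (χ' i)).1, hq'2 i]
        push_cast
        field_simp
      have h1 := congrArg (red hMp) hcx
      rw [red_mul hMp (hχR _ _) (memLocalRing_natCast hMp _),
        red_mul hMp (memLocalRing_natCast hMp _) (hωR _ _), red_natCast, red_natCast] at h1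
      rw [h1, hQ]
      congr 1
      exact red_eq_of_sub hMp (hωR _ _) (hωR _ _) (sameBlock_symm ((hχ' i).1) (x j))
    have hmat : Xb * Matrix.diagonal (fun j => (u j : ResField M hMp))
        = Matrix.diagonal (fun i => (q' i : ResField M hMp)) * Q.submatrix f id := by
      ext i j
      rw [Matrix.mul_diagonal, Matrix.diagonal_mul]
      exact hrel i j
    have hdd := congrArg Matrix.det hmat
    rw [Matrix.det_mul, Matrix.det_mul, Matrix.det_diagonal, Matrix.det_diagonal, h0,
      zero_mul] at hdd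
    have hqne : (∏ i, (q' i : ResField M hMp)) ≠ 0 := Finset.prod_ne_zero_iff.mpr
      (fun i _ => by rw [← red_natCast hMp]; exact red_natCast_ne_zero hM (hq'1 i))
    exact mul_ne_zero hqne hfQ hdd.symm

end Sep

end Cfsg.Agent.H84
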