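/-
helper84 library: Robinson's count of the blocks with a given normal defect group.

For a Sylow `p`-subgroup `S` and `e = a - d` put
`cCoef χ = χ(1) (∑_{s ∈ S} conj χ(s)) / (|G| p^e)`.  Then the number of pairs
`(y, z) ∈ K_i × K_j` with `z y⁻¹ ∈ S` is `p^e ∑_χ cCoef χ ω_χ(x_j) ω_χ(x_i⁻¹)`; modulo the local
ideal only the characters in blocks with defect group `D` contribute, and grouping them by blocks
gives a factorization `P' U Q'` over the residue field with `U` invertible diagonal and `P'`, `Q'`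
having one-sided inverses built from the coefficients of the block idempotents.
-/
import Mathlib
import Cfsg.Prelude.Def_Blocks
import Cfsg.Agent.H84.ResRing
import Cfsg.Agent.H84.RankExt
import Cfsg.Agent.H84.SepClasses
import Cfsg.Agent.H20.BlockIdem
import Cfsg.Agent.H20.ClassSum
import Cfsg.Agent.H79.BrauerSupport
import Cfsg.Agent.H81.BlockDim

set_option autoImplicit false
set_option linter.style.haveILetI false
set_option linter.unusedSectionVars false
set_option linter.unusedVariables false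

namespace Cfsg.Agent.H84

open Cfsg Cfsg.Agent.H4 Cfsg.Agent.H20 Cfsg.Agent.H80
open scoped ComplexConjugate

universe u

section ND

variable {G : Type u} [Group G] [Fintype G]

open scoped Classical in
/-- The coefficient `χ(1) (∑_{s ∈ S} conj χ(s)) / (|G| p^e)`. -/
noncomputable def cCoef (p e : ℕ) (S : Subgroup G) (χ : IrrCharacter G) : ℂ :=
  (χ : G → ℂ) 1 * (∑ s ∈ Finset.univ.filter (fun s : G => s ∈ S), conj ((χ : G → ℂ) s))
    / ((Nat.card G : ℂ) * (p : ℂ) ^ e)

open scoped Classical in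
/-- The sum over a subgroup of the coefficients of a product of two class sums. -/
theorem sum_coeff_eq (p e : ℕ) [Fact p.Prime] (S : Subgroup G) (a b : G) :
    ∑ s ∈ Finset.univ.filter (fun s : G => s ∈ S), (classSum a * classSum b).coeff s
      = (p : ℂ) ^ e * ∑ᶠ χ : IrrCharacter G, cCoef p e S χ *
        (centralChar (χ : G → ℂ) a * centralChar (χ : G → ℂ) b) := by
  letI := fintypeIrr G
  have hp0 : (p : ℂ) ≠ 0 := by exact_mod_cast (Fact.out : p.Prime).ne_zero
  have hpe : ((p : ℂ) ^ e) ≠ 0 := pow_ne_zero _ hp0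
  have hG0 : (Nat.card G : ℂ) ≠ 0 := by exact_mod_cast Nat.card_pos.ne'
  simp only [coeff_classSum_mul, finsum_irr_eq_sum]
  rw [← Finset.mul_sum, Finset.sum_comm, Finset.mul_sum, Finset.mul_sum]
  apply Finset.sum_congr rfl
  intro χ _
  unfold cCoef
  rw [← Finset.sum_mul, ← Finset.mul_sum]
  field_simp

/-- `cCoef χ * ω_χ(g)` is a local integer when `|K_g| = p^e u`. -/
theorem cCoef_mul_centralChar_mem {p : ℕ} [Fact p.Prime] {M : Ideal AlgInt} (hM : IsPModular p M)
    (S : Sylow p G) (e : ℕ) (χ : IrrCharacter G) (g : G) (u : ℕ)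
    (hidx : (Subgroup.centralizer ({g} : Set G)).index = p ^ e * u) :
    MemLocalRing M (cCoef p e (S : Subgroup G) χ * centralChar (χ : G → ℂ) g) := by
  classical
  have hp : p.Prime := hM.1
  have hMp := isPrime_of_isPModular hM
  obtain ⟨m, hm⟩ := exists_sum_subgroup_eq (S : Subgroup G) χ
  obtain ⟨n', hn'⟩ : ∃ n', n' = (S : Subgroup G).index := ⟨_, rfl⟩
  have hpn' : ¬ p ∣ n' := by rw [hn']; exact S.not_dvd_index
  have hG : Nat.card G = Nat.card (S : Subgroup G) * n' := by
    rw [hn']; exact (Subgroup.card_mul_index _).symm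
  have hn0 : (n' : ℂ) ≠ 0 := by
    have : n' ≠ 0 := fun h => hpn' (by rw [h]; exact dvd_zero p)
    exact_mod_cast this
  have hS0 : (Nat.card (S : Subgroup G) : ℂ) ≠ 0 := by exact_mod_cast Nat.card_pos.ne'
  have hp0 : (p : ℂ) ≠ 0 := by exact_mod_cast hp.ne_zero
  have hpe : ((p : ℂ) ^ e) ≠ 0 := pow_ne_zero _ hp0
  have hχ1 := irr_one_ne_zero χ
  have key : cCoef p e (S : Subgroup G) χ * centralChar (χ : G → ℂ) g
      = (u : ℂ) * (χ : G → ℂ) g * ((m : ℂ) * (n' : ℂ)⁻¹) := by
    unfold cCoef centralChar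
    rw [hm, hidx, hG]
    push_cast
    field_simp
  rw [key]
  exact memLocalRing_mul hMp (memLocalRing_mul hMp (memLocalRing_natCast hMp _)
    (memLocalRing_algInt hMp ⟨_, Cfsg.Agent.H81.irr_isIntegral χ g⟩))
    (memLocalRing_mul hMp (memLocalRing_natCast hMp _) (memLocalRing_inv_natCast hM hpn'))

/-- `cCoef χ` is a local integer when `p^e ∣ χ(1)`, and lies in the local ideal when
`p^(e+1) ∣ χ(1)`. -/
theorem cCoef_mem_of_dvd {p : ℕ} [Fact p.Prime] {M : Ideal AlgInt} (hM : IsPModular p M)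
    (S : Sylow p G) (e : ℕ) (χ : IrrCharacter G) (q : ℕ)
    (hq : charDegree (χ : G → ℂ) = p ^ e * q) :
    MemLocalRing M (cCoef p e (S : Subgroup G) χ) ∧
      (p ∣ q → MemLocalIdeal M (cCoef p e (S : Subgroup G) χ)) := by
  classical
  have hp : p.Prime := hM.1
  have hMp := isPrime_of_isPModular hM
  obtain ⟨m, hm⟩ := exists_sum_subgroup_eq (S : Subgroup G) χ
  obtain ⟨n', hn'⟩ : ∃ n', n' = (S : Subgroup G).index := ⟨_, rfl⟩
  have hpn' : ¬ p ∣ n' := by rw [hn']; exact S.not_dvd_index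
  have hG : Nat.card G = Nat.card (S : Subgroup G) * n' := by
    rw [hn']; exact (Subgroup.card_mul_index _).symm
  have hn0 : (n' : ℂ) ≠ 0 := by
    have : n' ≠ 0 := fun h => hpn' (by rw [h]; exact dvd_zero p)
    exact_mod_cast this
  have hS0 : (Nat.card (S : Subgroup G) : ℂ) ≠ 0 := by exact_mod_cast Nat.card_pos.ne'
  have hp0 : (p : ℂ) ≠ 0 := by exact_mod_cast hp.ne_zero
  have hpe : ((p : ℂ) ^ e) ≠ 0 := pow_ne_zero _ hp0
  have h1 : (χ : G → ℂ) 1 = ((p ^ e * q : ℕ) : ℂ) := by
    rw [← hq]; exact (Cfsg.Agent.H81.irr_charDegree χ).1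
  have key : cCoef p e (S : Subgroup G) χ = (q : ℂ) * ((m : ℂ) * (n' : ℂ)⁻¹) := by
    unfold cCoef
    rw [hm, h1, hG]
    push_cast
    field_simp
  have hmn : MemLocalRing M ((m : ℂ) * (n' : ℂ)⁻¹) :=
    memLocalRing_mul hMp (memLocalRing_natCast hMp _) (memLocalRing_inv_natCast hM hpn')
  rw [key]
  refine ⟨memLocalRing_mul hMp (memLocalRing_natCast hMp _) hmn, fun hpq => ?_⟩
  exact memLocalIdeal_mul_right hMp ((memLocalIdeal_natCast_iff hM _).mpr hpq) hmn

/-- If the block of `χ` does not have `D` as a defect group, `D` is a Sylow `p`-subgroup of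
`C_G(y)` and `ν_p(χ(1)) ≤ a - d`, then `ω_χ(y⁻¹)` lies in the local ideal. -/
theorem centralChar_inv_mem_of_not_defectGroup {p : ℕ} [Fact p.Prime] {M : Ideal AlgInt}
    (hM : IsPModular p M) (D : Subgroup G) (y : G)
    (hD : ∃ S : Sylow p ↥(Subgroup.centralizer ({y} : Set G)),
      (S : Subgroup ↥(Subgroup.centralizer ({y} : Set G))).map
        (Subgroup.centralizer ({y} : Set G)).subtype = D)
    (χ : IrrCharacter G) (hχ : ¬ IsDefectGroup p M (blockOf M (χ : G → ℂ)) D)
    (hv : (charDegree (χ : G → ℂ)).factorization p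
      ≤ (Nat.card G).factorization p - (Nat.card D).factorization p) :
    MemLocalIdeal M (centralChar (χ : G → ℂ) y⁻¹) := by
  classical
  have hp : p.Prime := hM.1
  have hMp := isPrime_of_isPModular hM
  obtain ⟨hcardD, hda, -⟩ := sylow_centralizer_facts p y D hD
  by_contra hk
  apply hχ
  obtain ⟨g, hg⟩ := Cfsg.Agent.S0906.result p M hM (blockOf M (χ : G → ℂ)) ⟨χ, rfl⟩
  obtain ⟨P0⟩ : Nonempty (Sylow p ↥(Subgroup.centralizer ({g} : Set G))) := inferInstance
  obtain ⟨DB, hDBdef⟩ : ∃ DB : Subgroup G, DB =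
      (P0 : Subgroup ↥(Subgroup.centralizer ({g} : Set G))).map
        (Subgroup.centralizer ({g} : Set G)).subtype := ⟨_, rfl⟩
  have hDB : IsDefectGroup p M (blockOf M (χ : G → ℂ)) DB := ⟨g, hg, P0, hDBdef⟩
  have hcardDB := card_defectGroup hM χ DB hDB
  have hbd : (Nat.card D).factorization p ≤ blockDefect p (blockOf M (χ : G → ℂ)) := by
    unfold blockDefect
    have h2 : sInf ((fun ψ : IrrCharacter G => (charDegree (ψ : G → ℂ)).factorization p) ''
        blockOf M (χ : G → ℂ)) ≤ (charDegree (χ : G → ℂ)).factorization p :=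
      Nat.sInf_le ⟨χ, mem_blockOf_self hMp χ, rfl⟩
    omega
  have hQ : IsPGroup p DB := by rw [hDBdef]; exact P0.isPGroup'.map _
  have hQy : DB ≤ Subgroup.centralizer ({g} : Set G) := by
    rw [hDBdef]
    rintro _ ⟨q, _, rfl⟩
    exact q.2
  obtain ⟨x₁, hx₁, hQx⟩ := exists_conj_centralized_of_block hM χ y⁻¹ g hk hg.2.1
    DB hQ hQy
  have hconj' : IsConj y x₁⁻¹ := isConj_inv_of hx₁
  have hQx' : DB ≤ Subgroup.centralizer ({x₁⁻¹} : Set G) := by
    intro q hq
    have h4 := hQx hq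
    rw [Subgroup.mem_centralizer_singleton_iff] at h4 ⊢
    calc q * x₁⁻¹ = x₁⁻¹ * (x₁ * q) * x₁⁻¹ := by group
      _ = x₁⁻¹ * (q * x₁) * x₁⁻¹ := by rw [h4]
      _ = x₁⁻¹ * q := by group
  obtain ⟨Si, hSi⟩ := hD
  obtain ⟨z, hz⟩ := exists_le_conj_sylow_centralizer DB hQ y x₁⁻¹ hconj' hQx' Si
  rw [hSi] at hz
  have heq : DB = D.map (MulAut.conj z).toMonoidHom := by
    apply Subgroup.eq_of_le_of_card_ge hz
    rw [Subgroup.card_map_of_injective (MulEquiv.injective _), hcardD, hcardDB]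
    exact Nat.pow_le_pow_right hp.pos hbd
  have h5 := Cfsg.Agent.H81.isDefectGroup_map_conj hDB z⁻¹
  rw [heq, Subgroup.map_map] at h5
  have hid : ((MulAut.conj z⁻¹).toMonoidHom.comp (MulAut.conj z).toMonoidHom)
      = MonoidHom.id G := by
    ext w
    simp only [MonoidHom.coe_comp, MulEquiv.coe_toMonoidHom, Function.comp_apply,
      MulAut.conj_apply, MonoidHom.id_apply]
    group
  rw [hid, Subgroup.map_id] at h5
  exact h5


/-- The terms `cCoef χ ω_χ(x_j) ω_χ(x_i⁻¹)` of the count: local integrality, vanishing modulo the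
local ideal outside the blocks with defect group `D`, and local integrality of `cCoef χ` inside
them. -/
theorem term_facts {p : ℕ} [Fact p.Prime] {M : Ideal AlgInt} (hM : IsPModular p M)
    (D : Subgroup G) (S : Sylow p G) (xi xj : G)
    (hDi : ∃ Q : Sylow p ↥(Subgroup.centralizer ({xi} : Set G)),
      (Q : Subgroup ↥(Subgroup.centralizer ({xi} : Set G))).map
        (Subgroup.centralizer ({xi} : Set G)).subtype = D)
    (hDj : ∃ Q : Sylow p ↥(Subgroup.centralizer ({xj} : Set G)),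
      (Q : Subgroup ↥(Subgroup.centralizer ({xj} : Set G))).map
        (Subgroup.centralizer ({xj} : Set G)).subtype = D)
    (e : ℕ) (he : e = (Nat.card G).factorization p - (Nat.card D).factorization p)
    (χ : IrrCharacter G) :
    MemLocalRing M (cCoef p e (S : Subgroup G) χ *
      (centralChar (χ : G → ℂ) xj * centralChar (χ : G → ℂ) xi⁻¹)) ∧
    (¬ IsDefectGroup p M (blockOf M (χ : G → ℂ)) D →
      MemLocalIdeal M (cCoef p e (S : Subgroup G) χ *
        (centralChar (χ : G → ℂ) xj * centralChar (χ : G → ℂ) xi⁻¹))) ∧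
    (IsDefectGroup p M (blockOf M (χ : G → ℂ)) D →
      MemLocalRing M (cCoef p e (S : Subgroup G) χ)) := by
  classical
  have hp : p.Prime := hM.1
  have hMp := isPrime_of_isPModular hM
  obtain ⟨-, -, u, hu1, hu2⟩ := sylow_centralizer_facts p xj D hDj
  have hfront := cCoef_mul_centralChar_mem hM S e χ xj u (by rw [he]; exact hu2)
  have hωR : ∀ g : G, MemLocalRing M (centralChar (χ : G → ℂ) g) :=
    fun g => centralChar_memLocalRing hMp χ g
  have hdegne : charDegree (χ : G → ℂ) ≠ 0 := (Cfsg.Agent.H81.irr_charDegree χ).2.ne'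
  refine ⟨?_, ?_, ?_⟩
  · rw [← mul_assoc]
    exact memLocalRing_mul hMp hfront (hωR _)
  · intro hχ
    by_cases hv : e < (charDegree (χ : G → ℂ)).factorization p
    · obtain ⟨q0, hq0⟩ := (Nat.Prime.pow_dvd_iff_le_factorization hp hdegne).mpr
        (Nat.succ_le_of_lt hv)
      have hq : charDegree (χ : G → ℂ) = p ^ e * (p * q0) := by
        rw [hq0, pow_succ]; ring
      exact memLocalIdeal_mul_right hMp ((cCoef_mem_of_dvd hM S e χ _ hq).2 (dvd_mul_right p q0))
        (memLocalRing_mul hMp (hωR _) (hωR _))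
    · have hk := centralChar_inv_mem_of_not_defectGroup hM D xi hDi χ hχ (by rw [← he]; omega)
      rw [← mul_assoc]
      exact memLocalIdeal_mul_left hMp hfront hk
  · intro hχ
    have h1 := blockDefect_eq_of_isDefectGroup hM χ D hχ
    unfold blockDefect at h1
    have h2 : sInf ((fun ψ : IrrCharacter G => (charDegree (ψ : G → ℂ)).factorization p) ''
        blockOf M (χ : G → ℂ)) ≤ (charDegree (χ : G → ℂ)).factorization p :=
      Nat.sInf_le ⟨χ, mem_blockOf_self hMp χ, rfl⟩
    have h3 : e ≤ (charDegree (χ : G → ℂ)).factorization p := by omega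
    obtain ⟨q, hq⟩ := (Nat.Prime.pow_dvd_iff_le_factorization hp hdegne).mpr h3
    exact (cCoef_mem_of_dvd hM S e χ q hq).1

open scoped Classical in
/-- The sum of `cCoef` over a block. -/
theorem finsum_cCoef_block {p : ℕ} [Fact p.Prime] {M : Ideal AlgInt} (hM : IsPModular p M)
    (S : Subgroup G) (hS : IsPGroup p S) (e : ℕ) (χ₀ : IrrCharacter G) :
    ∑ᶠ χ ∈ blockOf M (χ₀ : G → ℂ), cCoef p e S χ
      = blockCoeff (blockOf M (χ₀ : G → ℂ)) 1 / (p : ℂ) ^ e := by
  letI := fintypeIrr G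
  have hp : p.Prime := hM.1
  have hp0 : (p : ℂ) ≠ 0 := by exact_mod_cast hp.ne_zero
  have hpe : ((p : ℂ) ^ e) ≠ 0 := pow_ne_zero _ hp0
  have hG0 : (Nat.card G : ℂ) ≠ 0 := by exact_mod_cast Nat.card_pos.ne'
  have key : ∀ s ∈ Finset.univ.filter (fun s : G => s ∈ S),
      ∑ χ : IrrCharacter G, (if χ ∈ blockOf M (χ₀ : G → ℂ) then
        (χ : G → ℂ) 1 * conj ((χ : G → ℂ) s) else 0)
      = if s = 1 then (Nat.card G : ℂ) * blockCoeff (blockOf M (χ₀ : G → ℂ)) 1 else 0 := by
    intro s hs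
    rw [Finset.mem_filter] at hs
    by_cases h1 : s = 1
    · rw [if_pos h1, h1, blockCoeff_eq, ← mul_assoc, mul_inv_cancel₀ hG0, one_mul]
    · rw [if_neg h1]
      have hps : p ∣ orderOf s := by
        obtain ⟨k, hk⟩ := hS ⟨s, hs.2⟩
        have hk' : s ^ p ^ k = 1 := by
          have := congrArg (Subtype.val) hk
          simpa using this
        obtain ⟨j, -, hj⟩ := (Nat.dvd_prime_pow hp).mp (orderOf_dvd_of_pow_eq_one hk')
        rw [hj]
        have hj0 : j ≠ 0 := by
          intro h0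
          rw [h0, pow_zero, orderOf_eq_one_iff] at hj
          exact h1 hj
        exact dvd_pow_self p hj0
      have h2 := blockCoeff_eq_zero_of_singular hM χ₀ s hps
      rw [blockCoeff_eq] at h2
      rcases mul_eq_zero.mp h2 with h3 | h3
      · exact absurd h3 (inv_ne_zero hG0)
      · exact h3
  rw [finsum_mem_irr]
  have h4 : ∀ χ : IrrCharacter G, (if χ ∈ blockOf M (χ₀ : G → ℂ) then cCoef p e S χ else 0)
      = (∑ s ∈ Finset.univ.filter (fun s : G => s ∈ S),
          (if χ ∈ blockOf M (χ₀ : G → ℂ) then (χ : G → ℂ) 1 * conj ((χ : G → ℂ) s) else 0))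
        / ((Nat.card G : ℂ) * (p : ℂ) ^ e) := by
    intro χ
    by_cases hχ : χ ∈ blockOf M (χ₀ : G → ℂ)
    · simp only [if_pos hχ]
      unfold cCoef
      rw [Finset.mul_sum]
    · simp only [if_neg hχ, Finset.sum_const_zero, zero_div]
  rw [Finset.sum_congr rfl (fun χ _ => h4 χ), ← Finset.sum_div, Finset.sum_comm,
    Finset.sum_congr rfl key, Finset.sum_ite_eq']
  rw [if_pos (Finset.mem_filter.mpr ⟨Finset.mem_univ _, S.one_mem⟩)]
  field_simp

/-- For a block with defect group `D` the number `blockCoeff B 1 / p^(a-d)` is a unit of the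
local ring. -/
theorem blockCoeff_one_div_unit {p : ℕ} [Fact p.Prime] {M : Ideal AlgInt} (hM : IsPModular p M)
    (D : Subgroup G) (χ₀ : IrrCharacter G)
    (hχ₀ : IsDefectGroup p M (blockOf M (χ₀ : G → ℂ)) D) :
    MemLocalRing M (blockCoeff (blockOf M (χ₀ : G → ℂ)) 1
        / (p : ℂ) ^ ((Nat.card G).factorization p - (Nat.card D).factorization p)) ∧
      ¬ MemLocalIdeal M (blockCoeff (blockOf M (χ₀ : G → ℂ)) 1
        / (p : ℂ) ^ ((Nat.card G).factorization p - (Nat.card D).factorization p)) := by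
  classical
  letI := fintypeIrr G
  have hp : p.Prime := hM.1
  have hMp := isPrime_of_isPModular hM
  have hp0 : (p : ℂ) ≠ 0 := by exact_mod_cast hp.ne_zero
  obtain ⟨a, ha⟩ : ∃ a, a = (Nat.card G).factorization p := ⟨_, rfl⟩
  obtain ⟨d, hd⟩ : ∃ d, d = (Nat.card D).factorization p := ⟨_, rfl⟩
  rw [← ha, ← hd]
  have hda : d ≤ a := by
    rw [ha, hd]
    exact (Nat.factorization_le_iff_dvd Nat.card_pos.ne' Nat.card_pos.ne').mpr
      (Subgroup.card_subgroup_dvd_card D) p
  obtain ⟨N2, hN2⟩ : ∃ N2 : ℕ, N2 = ∑ χ : IrrCharacter G,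
      (if χ ∈ blockOf M (χ₀ : G → ℂ) then charDegree (χ : G → ℂ) ^ 2 else 0) := ⟨_, rfl⟩
  have hfin : ∑ᶠ χ ∈ blockOf M (χ₀ : G → ℂ), charDegree (χ : G → ℂ) ^ 2 = N2 := by
    rw [hN2, finsum_mem_def, finsum_irr_eq_sum]
    apply Finset.sum_congr rfl
    intro χ _
    rw [Set.indicator_apply]
  have hfac := Cfsg.Agent.H81.sq_sum_factorization hM (blockOf M (χ₀ : G → ℂ)) ⟨χ₀, rfl⟩
  rw [hfin, blockDefect_eq_of_isDefectGroup hM χ₀ D hχ₀, ← ha, ← hd] at hfac
  have hN2pos : N2 ≠ 0 := by
    have h1 : charDegree (χ₀ : G → ℂ) ^ 2 ≤ N2 := by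
      rw [hN2]
      have := Finset.single_le_sum (f := fun χ : IrrCharacter G =>
        (if χ ∈ blockOf M (χ₀ : G → ℂ) then charDegree (χ : G → ℂ) ^ 2 else 0))
        (fun χ _ => Nat.zero_le _) (Finset.mem_univ χ₀)
      simpa [if_pos (mem_blockOf_self hMp χ₀)] using this
    have h2 : 0 < charDegree (χ₀ : G → ℂ) ^ 2 := pow_pos (Cfsg.Agent.H81.irr_charDegree χ₀).2 2
    omega
  obtain ⟨w, hw1, hw2⟩ : ∃ w : ℕ, ¬ p ∣ w ∧ N2 = p ^ (2 * a - d) * w :=
    ⟨_, Nat.not_dvd_ordCompl hp hN2pos, by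
      rw [← hfac]; exact (Nat.ordProj_mul_ordCompl_eq_self _ p).symm⟩
  obtain ⟨n', hn'1, hn'2⟩ : ∃ n' : ℕ, ¬ p ∣ n' ∧ Nat.card G = p ^ a * n' :=
    ⟨_, Nat.not_dvd_ordCompl hp Nat.card_pos.ne', by
      rw [ha]; exact (Nat.ordProj_mul_ordCompl_eq_self _ p).symm⟩
  have hn0 : (n' : ℂ) ≠ 0 := by
    have : n' ≠ 0 := fun h => hn'1 (by rw [h]; exact dvd_zero p)
    exact_mod_cast this
  have hbc : blockCoeff (blockOf M (χ₀ : G → ℂ)) 1 = (Nat.card G : ℂ)⁻¹ * (N2 : ℂ) := by
    rw [blockCoeff_eq, hN2]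
    push_cast
    congr 1
    apply Finset.sum_congr rfl
    intro χ _
    by_cases hχ : χ ∈ blockOf M (χ₀ : G → ℂ)
    · rw [if_pos hχ, if_pos hχ, (Cfsg.Agent.H81.irr_charDegree χ).1, Complex.conj_natCast]
      ring
    · rw [if_neg hχ, if_neg hχ]
  have key : blockCoeff (blockOf M (χ₀ : G → ℂ)) 1 / (p : ℂ) ^ (a - d)
      = (w : ℂ) * (n' : ℂ)⁻¹ := by
    rw [hbc, hn'2, hw2]
    have h2 : 2 * a - d = a + (a - d) := by omega
    rw [h2, pow_add]
    push_cast
    have hpa : ((p : ℂ) ^ a) ≠ 0 := pow_ne_zero _ hp0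
    have hpe : ((p : ℂ) ^ (a - d)) ≠ 0 := pow_ne_zero _ hp0
    field_simp
  rw [key]
  have hwR : MemLocalRing M (w : ℂ) := memLocalRing_natCast hMp w
  have hnR : MemLocalRing M ((n' : ℂ)⁻¹) := memLocalRing_inv_natCast hM hn'1
  refine ⟨memLocalRing_mul hMp hwR hnR, ?_⟩
  apply not_memLocalIdeal_mul hMp hwR hnR
  · rw [memLocalIdeal_natCast_iff hM]; exact hw1
  · apply not_memLocalIdeal_inv hMp (memLocalRing_natCast hMp n')
    rw [memLocalIdeal_natCast_iff hM]; exact hn'1


/-- Sylow form versus cardinality form of "`D` is a Sylow `p`-subgroup of `C_G(g)`". -/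
theorem sylow_centralizer_iff (p : ℕ) [Fact p.Prime] (g : G) (D : Subgroup G) :
    (∃ Q : Sylow p ↥(Subgroup.centralizer ({g} : Set G)),
      (Q : Subgroup ↥(Subgroup.centralizer ({g} : Set G))).map
        (Subgroup.centralizer ({g} : Set G)).subtype = D) ↔
    (D ≤ Subgroup.centralizer ({g} : Set G) ∧
      Nat.card D = p ^ (Nat.card (Subgroup.centralizer ({g} : Set G))).factorization p) := by
  constructor
  · rintro ⟨Q, rfl⟩
    refine ⟨?_, ?_⟩
    · rintro _ ⟨q, _, rfl⟩
      exact q.2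
    · rw [Subgroup.card_map_of_injective (Subgroup.subtype_injective _)]
      exact Sylow.card_eq_multiplicity Q
  · rintro ⟨hle, hcard⟩
    have hc : Nat.card (D.subgroupOf (Subgroup.centralizer ({g} : Set G)))
        = p ^ (Nat.card (Subgroup.centralizer ({g} : Set G))).factorization p := by
      rw [Nat.card_congr (Subgroup.subgroupOfEquivOfLe hle).toEquiv]
      exact hcard
    refine ⟨Sylow.ofCard (D.subgroupOf (Subgroup.centralizer ({g} : Set G))) hc, ?_⟩
    rw [Sylow.coe_ofCard]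
    exact Subgroup.map_subgroupOf_eq_of_le hle

theorem centralizer_singleton_inv (g : G) :
    Subgroup.centralizer ({g⁻¹} : Set G) = Subgroup.centralizer ({g} : Set G) := by
  ext q
  rw [Subgroup.mem_centralizer_singleton_iff, Subgroup.mem_centralizer_singleton_iff]
  constructor
  · intro h
    calc q * g = g * (g⁻¹ * q) * g := by group
      _ = g * (q * g⁻¹) * g := by rw [h]
      _ = g * q := by group
  · intro h
    calc q * g⁻¹ = g⁻¹ * (g * q) * g⁻¹ := by group
      _ = g⁻¹ * (q * g) * g⁻¹ := by rw [h]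
      _ = g⁻¹ * q := by group

theorem sylow_centralizer_inv (p : ℕ) [Fact p.Prime] (g : G) (D : Subgroup G)
    (h : ∃ Q : Sylow p ↥(Subgroup.centralizer ({g} : Set G)),
      (Q : Subgroup ↥(Subgroup.centralizer ({g} : Set G))).map
        (Subgroup.centralizer ({g} : Set G)).subtype = D) :
    ∃ Q : Sylow p ↥(Subgroup.centralizer ({g⁻¹} : Set G)),
      (Q : Subgroup ↥(Subgroup.centralizer ({g⁻¹} : Set G))).map
        (Subgroup.centralizer ({g⁻¹} : Set G)).subtype = D := by
  rw [sylow_centralizer_iff] at h ⊢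
  rw [centralizer_singleton_inv]
  exact h

/-- Min–max for a normal defect group: if neither the idempotent coefficient of one block with
defect group `D` nor the central character of another vanishes modulo the local ideal at `h`,
then `h` is `p`-regular and `D` is a Sylow `p`-subgroup of `C_G(h)`. -/
theorem sylow_centralizer_of_not_mem {p : ℕ} [Fact p.Prime] {M : Ideal AlgInt}
    (hM : IsPModular p M) (D : Subgroup G) [D.Normal] (χ χ' : IrrCharacter G)
    (hχ : IsDefectGroup p M (blockOf M (χ : G → ℂ)) D)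
    (hχ' : IsDefectGroup p M (blockOf M (χ' : G → ℂ)) D) (h : G)
    (h1 : ¬ MemLocalIdeal M (blockCoeff (blockOf M (χ' : G → ℂ)) h))
    (h2 : ¬ MemLocalIdeal M (centralChar (χ : G → ℂ) h)) :
    ¬ p ∣ orderOf h ∧ ∃ Q : Sylow p ↥(Subgroup.centralizer ({h} : Set G)),
      (Q : Subgroup ↥(Subgroup.centralizer ({h} : Set G))).map
        (Subgroup.centralizer ({h} : Set G)).subtype = D := by
  classical
  have hp : p.Prime := hM.1
  have hMp := isPrime_of_isPModular hM
  have hDp : IsPGroup p D := isPGroup_of_isDefectGroup hχ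
  refine ⟨fun hs => h1 ?_, ?_⟩
  · rw [blockCoeff_eq_zero_of_singular hM χ' h hs]
    exact memLocalIdeal_zero hMp
  · rw [sylow_centralizer_iff]
    -- `D ≤ C_G(h)`
    have hle : D ≤ Subgroup.centralizer ({h} : Set G) := by
      obtain ⟨g, hg, P, hDP⟩ := hχ
      have hDg : D ≤ Subgroup.centralizer ({g} : Set G) := by
        rw [hDP]
        rintro _ ⟨q, _, rfl⟩
        exact q.2
      obtain ⟨x₁, hx₁, hDx⟩ := exists_conj_centralized_of_block hM χ h g h2 hg.2.1 D hDp hDg
      obtain ⟨t, rfl⟩ := isConj_iff.mp hx₁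
      intro q hq
      have hq' : t * q * t⁻¹ ∈ D := ‹D.Normal›.conj_mem q hq t
      have h3 := hDx hq'
      rw [Subgroup.mem_centralizer_singleton_iff] at h3 ⊢
      have h4 : t⁻¹ * (t * q * t⁻¹ * (t * h * t⁻¹)) * t = t⁻¹ * (t * h * t⁻¹ * (t * q * t⁻¹)) * t := by
        rw [h3]
      calc q * h = t⁻¹ * (t * q * t⁻¹ * (t * h * t⁻¹)) * t := by group
        _ = t⁻¹ * (t * h * t⁻¹ * (t * q * t⁻¹)) * t := h4
        _ = h * q := by group
    refine ⟨hle, ?_⟩
    -- the order of `D`
    obtain ⟨Q0⟩ : Nonempty (Sylow p ↥(Subgroup.centralizer ({h} : Set G))) := inferInstance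
    have hQ0card : Nat.card ((Q0 : Subgroup ↥(Subgroup.centralizer ({h} : Set G))).map
        (Subgroup.centralizer ({h} : Set G)).subtype)
        = p ^ (Nat.card (Subgroup.centralizer ({h} : Set G))).factorization p := by
      rw [Subgroup.card_map_of_injective (Subgroup.subtype_injective _)]
      exact Sylow.card_eq_multiplicity Q0
    have hQ0le : (Q0 : Subgroup ↥(Subgroup.centralizer ({h} : Set G))).map
        (Subgroup.centralizer ({h} : Set G)).subtype ≤ Subgroup.centralizer ({h} : Set G) := by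
      rintro _ ⟨q, _, rfl⟩
      exact q.2
    obtain ⟨x, hx⟩ := Cfsg.Agent.H79.exists_conj_le_defectGroup hM χ' D hχ' h h1 _
      (Q0.isPGroup'.map _) hQ0le
    have h5 : p ^ (Nat.card (Subgroup.centralizer ({h} : Set G))).factorization p
        ≤ Nat.card D := by
      rw [← hQ0card, ← Subgroup.card_map_of_injective
        (f := (MulAut.conj x).toMonoidHom) (MulEquiv.injective _)]
      exact Subgroup.card_le_of_le hx
    have h6 : Nat.card D ≤ p ^ (Nat.card (Subgroup.centralizer ({h} : Set G))).factorization p := by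
      obtain ⟨Q1, hQ1⟩ := (hDp.comap_subtype (K := Subgroup.centralizer ({h} : Set G))).exists_le_sylow
      rw [← Sylow.card_eq_multiplicity Q1, ← Nat.card_congr (Subgroup.subgroupOfEquivOfLe hle).toEquiv]
      exact Subgroup.card_le_of_le hQ1
    exact le_antisymm h6 h5


open scoped Classical in
/-- The dual identity between idempotent coefficients and central characters, restricted to the
classes with Sylow centralizer `D`: for blocks with the normal defect group `D`,
`∑_i β_{B'}(y_i) ω_B(y_i) ≡ δ_{B B'}` modulo the local ideal. -/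
theorem block_dual_identity {p : ℕ} [Fact p.Prime] {M : Ideal AlgInt} (hM : IsPModular p M)
    (D : Subgroup G) [D.Normal] {ι : Type*} [Fintype ι] (y : ι → G)
    (hy1 : ∀ i j : ι, IsConj (y i) (y j) → i = j)
    (hy2 : ∀ g : G, ¬ p ∣ orderOf g →
      (∃ Q : Sylow p ↥(Subgroup.centralizer ({g} : Set G)),
        (Q : Subgroup ↥(Subgroup.centralizer ({g} : Set G))).map
          (Subgroup.centralizer ({g} : Set G)).subtype = D) → ∃ i, IsConj (y i) g)
    (χ χ' : IrrCharacter G) (hχ : IsDefectGroup p M (blockOf M (χ : G → ℂ)) D)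
    (hχ' : IsDefectGroup p M (blockOf M (χ' : G → ℂ)) D) :
    ∑ i, red (isPrime_of_isPModular hM) (blockCoeff (blockOf M (χ' : G → ℂ)) (y i))
        * red (isPrime_of_isPModular hM) (centralChar (χ : G → ℂ) (y i))
      = if χ ∈ blockOf M (χ' : G → ℂ) then 1 else 0 := by
  classical
  have hMp := isPrime_of_isPModular hM
  have hχ1 := irr_one_ne_zero χ
  have hβR : ∀ g : G, MemLocalRing M (blockCoeff (blockOf M (χ' : G → ℂ)) g) :=
    fun g => blockCoeff_memLocalRing hMp χ' g
  have hωR : ∀ g : G, MemLocalRing M (centralChar (χ : G → ℂ) g) :=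
    fun g => centralChar_memLocalRing hMp χ g
  obtain ⟨F, hF⟩ : ∃ F : G → ℂ, ∀ g, F g = blockCoeff (blockOf M (χ' : G → ℂ)) g
      * (χ : G → ℂ) g / (χ : G → ℂ) 1 := ⟨_, fun _ => rfl⟩
  have hFconj : ∀ g x : G, F (x * g * x⁻¹) = F g := by
    intro g x
    rw [hF, hF, blockCoeff_conj_invariant, irr_isClassFunction χ g x]
  have h0 := omega_blockElt (blockOf M (χ' : G → ℂ)) χ
  unfold omega at h0
  simp only [coeff_blockElt] at h0
  have hsum : ∑ g : G, F g = if χ ∈ blockOf M (χ' : G → ℂ) then 1 else 0 := by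
    rw [← h0, Finset.sum_div]
    exact Finset.sum_congr rfl (fun g _ => hF g)
  -- the classes of the `y i`
  have hT : ∑ g ∈ Finset.univ.filter (fun g : G => ∃ i, IsConj (y i) g), F g
      = ∑ i, blockCoeff (blockOf M (χ' : G → ℂ)) (y i) * centralChar (χ : G → ℂ) (y i) := by
    have hTeq : Finset.univ.filter (fun g : G => ∃ i, IsConj (y i) g)
        = Finset.univ.biUnion (fun i : ι => Finset.univ.filter (fun g : G => IsConj (y i) g)) := by
      ext g
      simp
    rw [hTeq, Finset.sum_biUnion]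
    · apply Finset.sum_congr rfl
      intro i _
      have h1 : ∀ g ∈ Finset.univ.filter (fun g : G => IsConj (y i) g), F g = F (y i) := by
        intro g hg
        rw [Finset.mem_filter] at hg
        obtain ⟨c, hc⟩ := isConj_iff.mp hg.2
        rw [← hc, hFconj]
      rw [Finset.sum_congr rfl h1, Finset.sum_const, card_conj_eq_index, nsmul_eq_mul, hF]
      unfold centralChar
      ring
    · intro i _ j _ hij
      rw [Function.onFun, Finset.disjoint_left]
      intro g hgi hgj
      rw [Finset.mem_filter] at hgi hgj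
      exact hij (hy1 i j (hgi.2.trans hgj.2.symm))
  -- the other classes
  have hrest : MemLocalIdeal M
      (∑ g ∈ Finset.univ.filter (fun g : G => ¬ ∃ i, IsConj (y i) g), F g) := by
    have hconjT : ∀ g x : G, (∃ i, IsConj (y i) (x * g * x⁻¹)) ↔ ∃ i, IsConj (y i) g := by
      intro g x
      constructor
      · rintro ⟨i, hi⟩
        exact ⟨i, hi.trans (isConj_iff.mpr ⟨x⁻¹, by group⟩)⟩
      · rintro ⟨i, hi⟩
        exact ⟨i, hi.trans (isConj_iff.mpr ⟨x, rfl⟩)⟩
    have h1 := sum_mem_of_conj_closed (localIdeal M hMp)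
      (fun g => if ∃ i, IsConj (y i) g then 0 else F g)
      (fun g x => by
        show (if ∃ i, IsConj (y i) (x * g * x⁻¹) then 0 else F (x * g * x⁻¹))
          = if ∃ i, IsConj (y i) g then 0 else F g
        by_cases hg : ∃ i, IsConj (y i) g
        · rw [if_pos hg, if_pos ((hconjT g x).mpr hg)]
        · rw [if_neg hg, if_neg (fun h => hg ((hconjT g x).mp h)), hFconj])
      (fun g => by
        show MemLocalIdeal M (((Subgroup.centralizer ({g} : Set G)).index : ℂ)
          * (if ∃ i, IsConj (y i) g then 0 else F g))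
        by_cases hg : ∃ i, IsConj (y i) g
        · rw [if_pos hg, mul_zero]; exact memLocalIdeal_zero hMp
        · rw [if_neg hg]
          have h2 : ((Subgroup.centralizer ({g} : Set G)).index : ℂ) * F g
              = blockCoeff (blockOf M (χ' : G → ℂ)) g * centralChar (χ : G → ℂ) g := by
            rw [hF]; unfold centralChar; ring
          rw [h2]
          by_contra hnot
          have hb : ¬ MemLocalIdeal M (blockCoeff (blockOf M (χ' : G → ℂ)) g) := fun hb =>
            hnot (memLocalIdeal_mul_right hMp hb (hωR g))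
          have hc : ¬ MemLocalIdeal M (centralChar (χ : G → ℂ) g) := fun hc =>
            hnot (memLocalIdeal_mul_left hMp (hβR g) hc)
          obtain ⟨hreg, hsyl⟩ := sylow_centralizer_of_not_mem hM D χ χ' hχ hχ' g hb hc
          exact hg (hy2 g hreg hsyl))
      Finset.univ (fun _ _ _ => Finset.mem_univ _)
    have h3 : ∑ g ∈ Finset.univ.filter (fun g : G => ¬ ∃ i, IsConj (y i) g), F g
        = ∑ g : G, (if ∃ i, IsConj (y i) g then 0 else F g) := by
      rw [Finset.sum_filter]
      apply Finset.sum_congr rfl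
      intro g _
      by_cases hg : ∃ i, IsConj (y i) g
      · rw [if_pos hg, if_neg (not_not.mpr hg)]
      · rw [if_neg hg, if_pos hg]
    rw [h3]
    exact h1
  have hsplit := Finset.sum_filter_add_sum_filter_not Finset.univ
    (fun g : G => ∃ i, IsConj (y i) g) F
  rw [hsum, hT] at hsplit
  have hmain : red hMp (∑ i, blockCoeff (blockOf M (χ' : G → ℂ)) (y i)
      * centralChar (χ : G → ℂ) (y i))
      = red hMp (if χ ∈ blockOf M (χ' : G → ℂ) then (1 : ℂ) else 0) := by
    apply red_eq_of_sub hMp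
    · exact memLocalRing_sum hMp _ _ (fun i _ => memLocalRing_mul hMp (hβR _) (hωR _))
    · split_ifs
      · exact memLocalRing_one hMp
      · exact memLocalRing_zero hMp
    · rw [← hsplit, sub_add_cancel_left]
      exact memLocalIdeal_neg hrest
  rw [red_sum hMp _ _ (fun i _ => memLocalRing_mul hMp (hβR _) (hωR _))] at hmain
  rw [← Finset.sum_congr rfl (fun i _ => red_mul hMp (hβR (y i)) (hωR (y i))), hmain]
  split_ifs
  · exact red_one hMp
  · exact red_zero hMp

open scoped Classical in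
/-- The number of pairs `(y, z)` of conjugates of `xi`, `xj` with `z y⁻¹ ∈ S`. -/
theorem pair_count (S : Subgroup G) (xi xj : G) :
    (Nat.card {yz : G × G // IsConj xi yz.1 ∧ IsConj xj yz.2 ∧ yz.2 * yz.1⁻¹ ∈ S} : ℂ)
      = ∑ s ∈ Finset.univ.filter (fun s : G => s ∈ S), (classSum xj * classSum xi⁻¹).coeff s := by
  simp only [coeff_classSum_mul_count]
  rw [← Nat.cast_sum]
  congr 1
  rw [Nat.card_eq_fintype_card, Fintype.card_subtype, ← Finset.card_sigma]
  apply Finset.card_nbij' (fun yz : G × G => (⟨yz.2 * yz.1⁻¹, yz.2⟩ : (_ : G) × G))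
    (fun sg : (_ : G) × G => (sg.1⁻¹ * sg.2, sg.2))
  · rintro ⟨y, z⟩ hyz
    simp only [Finset.coe_filter, Finset.mem_univ, true_and, Set.mem_ofPred_eq] at hyz
    simp only [Finset.coe_sigma, Finset.coe_filter, Finset.mem_univ, true_and, Set.mem_sigma_iff,
      Set.mem_ofPred_eq]
    refine ⟨hyz.2.2, hyz.2.1, ?_⟩
    have h1 : z⁻¹ * (z * y⁻¹) = y⁻¹ := by group
    rw [h1]
    obtain ⟨c, hc⟩ := isConj_iff.mp hyz.1
    exact isConj_iff.mpr ⟨c, by rw [← hc]; group⟩
  · rintro ⟨s, g⟩ hsg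
    simp only [Finset.coe_sigma, Finset.coe_filter, Finset.mem_univ, true_and, Set.mem_sigma_iff,
      Set.mem_ofPred_eq] at hsg
    simp only [Finset.coe_filter, Finset.mem_univ, true_and, Set.mem_ofPred_eq]
    refine ⟨?_, hsg.2.1, ?_⟩
    · have h1 := isConj_inv_of hsg.2.2
      have h2 : (g⁻¹ * s)⁻¹ = s⁻¹ * g := by group
      rw [h2] at h1
      exact h1
    · have h1 : g * (s⁻¹ * g)⁻¹ = s := by group
      rw [h1]
      exact hsg.1
  · rintro ⟨y, z⟩ _
    simp only [Prod.mk.injEq, and_true]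
    group
  · rintro ⟨s, g⟩ _
    simp only [Sigma.mk.injEq, heq_eq_eq, and_true]
    group

/-- If `N = p^e z` with `z` a local integer then `p^e ∣ N`. -/
theorem pow_dvd_of_memLocalRing {p : ℕ} {M : Ideal AlgInt} (hM : IsPModular p M) :
    ∀ (e N : ℕ) (z : ℂ), MemLocalRing M z → (N : ℂ) = (p : ℂ) ^ e * z → p ^ e ∣ N := by
  have hp : p.Prime := hM.1
  have hMp := isPrime_of_isPModular hM
  have hp0 : (p : ℂ) ≠ 0 := by exact_mod_cast hp.ne_zero
  intro e
  induction e with
  | zero => intro N z _ _; simp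
  | succ e ih =>
    intro N z hz h
    have h' : (N : ℂ) = (p : ℂ) ^ e * ((p : ℂ) * z) := by rw [h, pow_succ]; ring
    obtain ⟨N1, rfl⟩ := ih N ((p : ℂ) * z)
      (memLocalRing_mul hMp (memLocalRing_natCast hMp p) hz) h'
    have h2 : (N1 : ℂ) = (p : ℂ) * z := by
      have hpe : ((p : ℂ) ^ e) ≠ 0 := pow_ne_zero _ hp0
      apply mul_left_cancel₀ hpe
      rw [← h']
      push_cast
      ring
    have h3 : MemLocalIdeal M (N1 : ℂ) := by
      rw [h2]
      exact memLocalIdeal_mul_right hMp (memLocalIdeal_natCast_self hM) hz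
    obtain ⟨N2, rfl⟩ := (memLocalIdeal_natCast_iff hM N1).mp h3
    exact ⟨N2, by rw [pow_succ]; ring⟩


/-- `cCoef χ` is a local integer for `χ` in a block with defect group `D`. -/
theorem cCoef_mem_of_isDefectGroup {p : ℕ} [Fact p.Prime] {M : Ideal AlgInt}
    (hM : IsPModular p M) (D : Subgroup G) (S : Sylow p G)
    (e : ℕ) (he : e = (Nat.card G).factorization p - (Nat.card D).factorization p)
    (χ : IrrCharacter G) (hχ : IsDefectGroup p M (blockOf M (χ : G → ℂ)) D) :
    MemLocalRing M (cCoef p e (S : Subgroup G) χ) := by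
  have hp : p.Prime := hM.1
  have hMp := isPrime_of_isPModular hM
  have hdegne : charDegree (χ : G → ℂ) ≠ 0 := (Cfsg.Agent.H81.irr_charDegree χ).2.ne'
  have h1 := blockDefect_eq_of_isDefectGroup hM χ D hχ
  unfold blockDefect at h1
  have h2 : sInf ((fun ψ : IrrCharacter G => (charDegree (ψ : G → ℂ)).factorization p) ''
      blockOf M (χ : G → ℂ)) ≤ (charDegree (χ : G → ℂ)).factorization p :=
    Nat.sInf_le ⟨χ, mem_blockOf_self hMp χ, rfl⟩
  have h3 : e ≤ (charDegree (χ : G → ℂ)).factorization p := by omega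
  obtain ⟨q, hq⟩ := (Nat.Prime.pow_dvd_iff_le_factorization hp hdegne).mpr h3
  exact (cCoef_mem_of_dvd hM S e χ q hq).1

/-- The blocks with defect group `D`. -/
abbrev BlD (p : ℕ) (M : Ideal AlgInt) (D : Subgroup G) : Type u :=
  {B : Set (IrrCharacter G) // IsPBlock M B ∧ IsDefectGroup p M B D}

/-- **Robinson**: the number of blocks with the normal defect group `D` is the rank of the matrix
of the numbers of pairs `(y, z) ∈ K_i × K_j` with `z y⁻¹ ∈ S`, divided by `p^(a-d)` and reduced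
modulo `p`. -/
theorem normal_defect_count (p : ℕ) [Fact p.Prime] (M : Ideal AlgInt) (hM : IsPModular p M)
    (D : Subgroup G) [D.Normal] (hD : IsPGroup p D) (S : Sylow p G) {ι : Type*} [Fintype ι]
    [DecidableEq ι] (K : ι → ConjClasses G) (hKinj : Function.Injective K)
    (hK : ∀ C : ConjClasses G, (∃ i, K i = C) ↔ ∃ x ∈ C.carrier, ¬ p ∣ orderOf x ∧
      ∃ Q : Sylow p (Subgroup.centralizer ({x} : Set G)),
        (Q : Subgroup (Subgroup.centralizer ({x} : Set G))).map
          (Subgroup.centralizer ({x} : Set G)).subtype = D) :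
    Nat.card {B : Set (IrrCharacter G) // IsPBlock M B ∧ IsDefectGroup p M B D}
      = (Matrix.of fun i j : ι => ((Nat.card {yz : G × G // yz.1 ∈ (K i).carrier ∧
          yz.2 ∈ (K j).carrier ∧ yz.2 * yz.1⁻¹ ∈ (S : Subgroup G)}
            / p ^ ((Nat.card G).factorization p - (Nat.card D).factorization p) : ℕ) :
              ZMod p)).rank := by
  classical
  letI := fintypeIrr G
  have hp : p.Prime := hM.1
  have hMp := isPrime_of_isPModular hM
  have hp0 : (p : ℂ) ≠ 0 := by exact_mod_cast hp.ne_zero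
  obtain ⟨e, he⟩ : ∃ e, e = (Nat.card G).factorization p - (Nat.card D).factorization p :=
    ⟨_, rfl⟩
  rw [← he]
  -- representatives
  have hrep : ∀ i, ∃ x ∈ (K i).carrier, ¬ p ∣ orderOf x ∧
      ∃ Q : Sylow p (Subgroup.centralizer ({x} : Set G)),
        (Q : Subgroup (Subgroup.centralizer ({x} : Set G))).map
          (Subgroup.centralizer ({x} : Set G)).subtype = D := fun i => (hK (K i)).mp ⟨i, rfl⟩
  choose x hxK hxreg hxD using hrep
  have hKx : ∀ i, K i = ConjClasses.mk (x i) := fun i =>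
    (ConjClasses.mem_carrier_iff_mk_eq.mp (hxK i)).symm
  have hx1 : ∀ i j, IsConj (x i) (x j) → i = j := fun i j h =>
    hKinj (by rw [hKx i, hKx j]; exact ConjClasses.mk_eq_mk_iff_isConj.mpr h)
  have hx2 : ∀ g : G, ¬ p ∣ orderOf g →
      (∃ Q : Sylow p ↥(Subgroup.centralizer ({g} : Set G)),
        (Q : Subgroup ↥(Subgroup.centralizer ({g} : Set G))).map
          (Subgroup.centralizer ({g} : Set G)).subtype = D) → ∃ i, IsConj (x i) g := by
    intro g hg hQ
    obtain ⟨i, hi⟩ := (hK (ConjClasses.mk g)).mpr ⟨g, ConjClasses.mem_carrier_mk, hg, hQ⟩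
    exact ⟨i, ConjClasses.mk_eq_mk_iff_isConj.mp (by rw [← hKx i, hi])⟩
  have hx1' : ∀ i j, IsConj (x i)⁻¹ (x j)⁻¹ → i = j := by
    intro i j h
    have h1 := isConj_inv_of h
    rw [inv_inv] at h1
    exact hx1 i j h1
  have hx2' : ∀ g : G, ¬ p ∣ orderOf g →
      (∃ Q : Sylow p ↥(Subgroup.centralizer ({g} : Set G)),
        (Q : Subgroup ↥(Subgroup.centralizer ({g} : Set G))).map
          (Subgroup.centralizer ({g} : Set G)).subtype = D) → ∃ i, IsConj (x i)⁻¹ g := by
    intro g hg hQ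
    obtain ⟨i, hi⟩ := hx2 g⁻¹ (by rw [orderOf_inv]; exact hg) (sylow_centralizer_inv p g D hQ)
    refine ⟨i, ?_⟩
    obtain ⟨c, hc⟩ := isConj_iff.mp hi
    refine isConj_iff.mpr ⟨c, ?_⟩
    have h1 : c * (x i)⁻¹ * c⁻¹ = (c * x i * c⁻¹)⁻¹ := by group
    rw [h1, hc, inv_inv]
  -- the counts
  obtain ⟨N, hNdef⟩ : ∃ N : ι → ι → ℕ, ∀ i j, N i j = Nat.card {yz : G × G //
      yz.1 ∈ (K i).carrier ∧ yz.2 ∈ (K j).carrier ∧ yz.2 * yz.1⁻¹ ∈ (S : Subgroup G)} :=
    ⟨_, fun _ _ => rfl⟩
  obtain ⟨T, hT⟩ : ∃ T : IrrCharacter G → ι → ι → ℂ, ∀ χ i j, T χ i j =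
      cCoef p e (S : Subgroup G) χ *
        (centralChar (χ : G → ℂ) (x j) * centralChar (χ : G → ℂ) (x i)⁻¹) :=
    ⟨_, fun _ _ _ => rfl⟩
  have hN : ∀ i j, (N i j : ℂ) = (p : ℂ) ^ e * ∑ χ : IrrCharacter G, T χ i j := by
    intro i j
    have h1 : N i j = Nat.card {yz : G × G // IsConj (x i) yz.1 ∧ IsConj (x j) yz.2 ∧
        yz.2 * yz.1⁻¹ ∈ (S : Subgroup G)} := by
      rw [hNdef]
      apply Nat.card_congr
      apply Equiv.subtypeEquivRight
      intro yz
      rw [hKx i, hKx j, ConjClasses.mem_carrier_iff_mk_eq, ConjClasses.mem_carrier_iff_mk_eq,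
        ConjClasses.mk_eq_mk_iff_isConj, ConjClasses.mk_eq_mk_iff_isConj,
        isConj_comm (g := yz.1), isConj_comm (g := yz.2)]
    rw [h1, pair_count, sum_coeff_eq p e, finsum_irr_eq_sum]
    congr 1
    apply Finset.sum_congr rfl
    intro χ _
    rw [hT]
  have hTR : ∀ χ i j, MemLocalRing M (T χ i j) := fun χ i j => by
    rw [hT]; exact (term_facts hM D S (x i) (x j) (hxD i) (hxD j) e he χ).1
  have hTbad : ∀ χ : IrrCharacter G, ¬ IsDefectGroup p M (blockOf M (χ : G → ℂ)) D →
      ∀ i j, MemLocalIdeal M (T χ i j) := fun χ hχ i j => by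
    rw [hT]; exact (term_facts hM D S (x i) (x j) (hxD i) (hxD j) e he χ).2.1 hχ
  have hcR : ∀ χ : IrrCharacter G, IsDefectGroup p M (blockOf M (χ : G → ℂ)) D →
      MemLocalRing M (cCoef p e (S : Subgroup G) χ) := fun χ hχ =>
    cCoef_mem_of_isDefectGroup hM D S e he χ hχ
  have hωR : ∀ (χ : IrrCharacter G) (g : G), MemLocalRing M (centralChar (χ : G → ℂ) g) :=
    fun χ g => centralChar_memLocalRing hMp χ g
  have hNdiv : ∀ i j, ((N i j / p ^ e : ℕ) : ℂ) = ∑ χ : IrrCharacter G, T χ i j := by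
    intro i j
    have hz : MemLocalRing M (∑ χ : IrrCharacter G, T χ i j) :=
      memLocalRing_sum hMp _ _ (fun χ _ => hTR χ i j)
    obtain ⟨N1, hN1⟩ := pow_dvd_of_memLocalRing hM e (N i j) _ hz (hN i j)
    have hpe : ((p : ℂ) ^ e) ≠ 0 := pow_ne_zero _ hp0
    rw [hN1, Nat.mul_div_cancel_left _ (pow_pos hp.pos e)]
    apply mul_left_cancel₀ hpe
    rw [← hN i j, hN1]
    push_cast
    ring
  -- blocks
  letI : Fintype (BlD (G := G) p M D) := Fintype.ofFinite _
  have hrepB : ∀ B : BlD (G := G) p M D, ∃ χ : IrrCharacter G, B.1 = blockOf M (χ : G → ℂ) :=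
    fun B => B.2.1
  choose rep hrepB' using hrepB
  have hgoodrep : ∀ B : BlD (G := G) p M D,
      IsDefectGroup p M (blockOf M (rep B : G → ℂ)) D := fun B => by
    rw [← hrepB' B]; exact B.2.2
  have hmemrep : ∀ (B : BlD (G := G) p M D) (χ : IrrCharacter G), χ ∈ B.1 →
      IsDefectGroup p M (blockOf M (χ : G → ℂ)) D := by
    intro B χ hχ
    rw [hrepB' B] at hχ
    rw [blockOf_eq_of_mem hMp hχ]
    exact hgoodrep B
  have hBeq : ∀ B B' : BlD (G := G) p M D, rep B ∈ blockOf M (rep B' : G → ℂ) ↔ B' = B := by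
    intro B B'
    constructor
    · intro h
      apply Subtype.ext
      rw [hrepB' B, hrepB' B', blockOf_eq_of_mem hMp h]
    · rintro rfl
      exact mem_blockOf_self hMp _
  -- matrices over the residue field
  obtain ⟨P', hP'⟩ : ∃ P' : Matrix ι (BlD (G := G) p M D) (ResField M hMp), ∀ i B, P' i B =
      red hMp (centralChar (rep B : G → ℂ) (x i)⁻¹) := ⟨_, fun _ _ => rfl⟩
  obtain ⟨Q', hQ'⟩ : ∃ Q' : Matrix (BlD (G := G) p M D) ι (ResField M hMp), ∀ B j, Q' B j =
      red hMp (centralChar (rep B : G → ℂ) (x j)) := ⟨_, fun _ _ => rfl⟩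
  obtain ⟨U, hU⟩ : ∃ U : BlD (G := G) p M D → ResField M hMp, ∀ B, U B =
      ∑ χ : IrrCharacter G, (if χ ∈ B.1 then red hMp (cCoef p e (S : Subgroup G) χ) else 0) :=
    ⟨_, fun _ => rfl⟩
  obtain ⟨Y, hY⟩ : ∃ Y : Matrix ι (BlD (G := G) p M D) (ResField M hMp), ∀ j B, Y j B =
      red hMp (blockCoeff (blockOf M (rep B : G → ℂ)) (x j)) := ⟨_, fun _ _ => rfl⟩
  obtain ⟨Y', hY'⟩ : ∃ Y' : Matrix (BlD (G := G) p M D) ι (ResField M hMp), ∀ B i, Y' B i =
      red hMp (blockCoeff (blockOf M (rep B : G → ℂ)) (x i)⁻¹) := ⟨_, fun _ _ => rfl⟩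
  -- the factorization
  have hAF : ∀ i j, zmodToRes hM ((N i j / p ^ e : ℕ) : ZMod p)
      = (P' * Matrix.diagonal U * Q') i j := by
    intro i j
    rw [zmodToRes_natCast, hNdiv, red_sum hMp _ _ (fun χ _ => hTR χ i j), Matrix.mul_apply]
    have hterm : ∀ χ : IrrCharacter G, red hMp (T χ i j)
        = ∑ B : BlD (G := G) p M D, (if χ ∈ B.1 then
            red hMp (cCoef p e (S : Subgroup G) χ) * P' i B * Q' B j else 0) := by
      intro χ
      by_cases hχ : IsDefectGroup p M (blockOf M (χ : G → ℂ)) D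
      · obtain ⟨B₀, hB₀⟩ : ∃ B₀ : BlD (G := G) p M D, B₀.1 = blockOf M (χ : G → ℂ) :=
          ⟨⟨blockOf M (χ : G → ℂ), ⟨χ, rfl⟩, hχ⟩, rfl⟩
        have hχB₀ : χ ∈ B₀.1 := by rw [hB₀]; exact mem_blockOf_self hMp χ
        rw [Finset.sum_eq_single B₀]
        · rw [if_pos hχB₀, hT, hP', hQ',
            red_mul hMp (hcR χ hχ) (memLocalRing_mul hMp (hωR _ _) (hωR _ _)),
            red_mul hMp (hωR _ _) (hωR _ _)]
          have hsame : SameBlock M (rep B₀ : G → ℂ) (χ : G → ℂ) := by
            have := hχB₀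
            rw [hrepB' B₀] at this
            exact this
          rw [red_eq_of_sub hMp (hωR (rep B₀) _) (hωR χ _) (hsame (x i)⁻¹),
            red_eq_of_sub hMp (hωR (rep B₀) _) (hωR χ _) (hsame (x j))]
          ring
        · intro B _ hne
          rw [if_neg]
          intro hχB
          apply hne
          apply Subtype.ext
          rw [hB₀, hrepB' B]
          rw [hrepB' B] at hχB
          exact (blockOf_eq_of_mem hMp hχB).symm
        · intro h
          exact absurd (Finset.mem_univ _) h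
      · rw [red_eq_zero_of_mem hMp (hTbad χ hχ i j)]
        symm
        apply Finset.sum_eq_zero
        intro B _
        rw [if_neg (fun hχB => hχ (hmemrep B χ hχB))]
    rw [Finset.sum_congr rfl (fun χ _ => hterm χ), Finset.sum_comm]
    apply Finset.sum_congr rfl
    intro B _
    rw [Matrix.mul_diagonal, hU, Finset.mul_sum, Finset.sum_mul]
    apply Finset.sum_congr rfl
    intro χ _
    by_cases hχB : χ ∈ B.1
    · rw [if_pos hχB, if_pos hχB]; ring
    · rw [if_neg hχB, if_neg hχB, mul_zero, zero_mul]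
  -- the diagonal entries are nonzero
  have hUne : ∀ B : BlD (G := G) p M D, U B ≠ 0 := by
    intro B
    have h1 : U B = red hMp (∑ χ : IrrCharacter G,
        (if χ ∈ B.1 then cCoef p e (S : Subgroup G) χ else 0)) := by
      rw [hU, red_sum hMp]
      · apply Finset.sum_congr rfl
        intro χ _
        by_cases hχB : χ ∈ B.1
        · rw [if_pos hχB, if_pos hχB]
        · rw [if_neg hχB, if_neg hχB, red_zero]
      · intro χ _
        by_cases hχB : χ ∈ B.1
        · rw [if_pos hχB]; exact hcR χ (hmemrep B χ hχB)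
        · rw [if_neg hχB]; exact memLocalRing_zero hMp
    have h2 : ∑ χ : IrrCharacter G, (if χ ∈ B.1 then cCoef p e (S : Subgroup G) χ else 0)
        = blockCoeff (blockOf M (rep B : G → ℂ)) 1 / (p : ℂ) ^ e := by
      rw [← finsum_cCoef_block hM (S : Subgroup G) S.isPGroup' e (rep B), finsum_mem_irr,
        ← hrepB' B]
    have h3 := blockCoeff_one_div_unit hM D (rep B) (hgoodrep B)
    rw [← he] at h3
    rw [h1, h2, Ne, red_eq_zero_iff hMp h3.1]
    exact h3.2
  have hW : IsUnit (Matrix.diagonal U) := by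
    rw [Matrix.isUnit_iff_isUnit_det, Matrix.det_diagonal, isUnit_iff_ne_zero]
    exact Finset.prod_ne_zero_iff.mpr (fun B _ => hUne B)
  -- one-sided inverses
  have h1 : Y' * P' = 1 := by
    ext B' B
    rw [Matrix.mul_apply, Matrix.one_apply]
    have h := block_dual_identity hM D (fun i => (x i)⁻¹) hx1' hx2' (rep B) (rep B')
      (hgoodrep B) (hgoodrep B')
    have h' : ∑ i, Y' B' i * P' i B
        = ∑ i, red (isPrime_of_isPModular hM) (blockCoeff (blockOf M (rep B' : G → ℂ)) (x i)⁻¹)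
          * red (isPrime_of_isPModular hM) (centralChar (rep B : G → ℂ) (x i)⁻¹) :=
      Finset.sum_congr rfl (fun i _ => by rw [hY', hP'])
    rw [h', h]
    by_cases hBB : B' = B
    · rw [if_pos hBB, if_pos ((hBeq B B').mpr hBB)]
    · rw [if_neg hBB, if_neg (fun h => hBB ((hBeq B B').mp h))]
  have h2 : Q' * Y = 1 := by
    ext B B'
    rw [Matrix.mul_apply, Matrix.one_apply]
    have h := block_dual_identity hM D x hx1 hx2 (rep B) (rep B') (hgoodrep B) (hgoodrep B')
    have h' : ∑ j, Q' B j * Y j B'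
        = ∑ j, red (isPrime_of_isPModular hM) (blockCoeff (blockOf M (rep B' : G → ℂ)) (x j))
          * red (isPrime_of_isPModular hM) (centralChar (rep B : G → ℂ) (x j)) :=
      Finset.sum_congr rfl (fun j _ => by rw [hQ', hY, mul_comm])
    rw [h', h]
    by_cases hBB : B = B'
    · rw [if_pos hBB, if_pos ((hBeq B B').mpr hBB.symm)]
    · rw [if_neg hBB, if_neg (fun h => hBB ((hBeq B B').mp h).symm)]
  -- conclusion
  have hgoal : (Matrix.of fun i j : ι => ((Nat.card {yz : G × G // yz.1 ∈ (K i).carrier ∧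
      yz.2 ∈ (K j).carrier ∧ yz.2 * yz.1⁻¹ ∈ (S : Subgroup G)} / p ^ e : ℕ) : ZMod p))
      = Matrix.of fun i j : ι => ((N i j / p ^ e : ℕ) : ZMod p) := by
    ext i j
    rw [Matrix.of_apply, Matrix.of_apply, hNdef]
  have hmapA : (Matrix.of fun i j : ι => ((N i j / p ^ e : ℕ) : ZMod p)).map (zmodToRes hM)
      = P' * Matrix.diagonal U * Q' := by
    ext i j
    rw [Matrix.map_apply, Matrix.of_apply]
    exact hAF i j
  rw [hgoal, ← rank_map_field (zmodToRes hM), hmapA,
    rank_of_sandwich P' (Matrix.diagonal U) Q' Y' Y h1 h2 hW, Nat.card_eq_fintype_card]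

end ND

end Cfsg.Agent.H84
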