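/-
helper84 library: subsection norms and the local block rank.

* `blockPart_inv_conj`: block parts of `c ↦ conj (F c⁻¹)`.
* `centralizer_zpowers_eq`, `secondMain_both'`: the second main theorem for another presentation
  of the centralizer of a `p`-element.
* `sum_sum_blockPart_eq`: `∑_{χ ∈ B} ∑_{s p-regular} χ_b(s) χ'_b(s⁻¹) = |C| · l(b)`.
* `isInducedBlock_of_isBrauerPairOf`: a Brauer pair `(Q, e)` of `B` with `Q` abelian gives
  `e^G = B`.
-/
import Mathlib
import Cfsg.Prelude.Def_Blocks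
import Cfsg.Prelude.Def_BlockRank
import Cfsg.Prelude.Def_BrauerPairs
import Cfsg.Agent.H84.SectionSum2
import Cfsg.Agent.H81.Rank
import Cfsg.Agent.H20.BrauerMap

set_option autoImplicit false
set_option linter.style.haveILetI false
set_option linter.unusedSectionVars false
set_option linter.unusedVariables false

namespace Cfsg.Agent.H84

open Cfsg Cfsg.Agent.H4 Cfsg.Agent.H20
open scoped ComplexConjugate

universe u

section SecSum4

variable {G : Type u} [Group G] [Finite G]

/-- Block parts of `F' = conj ∘ F ∘ inv` at `s⁻¹`. -/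
theorem blockPart_inv_conj {H : Type u} [Group H] [Finite H] (b : Set (IrrCharacter H))
    (F F' : H → ℂ) (hFF' : ∀ c : H, F' c = conj (F c⁻¹)) (s : H) :
    blockPart b F' s⁻¹ = conj (blockPart b F s) := by
  classical
  letI := Fintype.ofFinite H
  letI := fintypeIrr H
  show ∑ᶠ ψ ∈ b, classInner F' (ψ : H → ℂ) * (ψ : H → ℂ) s⁻¹ =
    conj (∑ᶠ ψ ∈ b, classInner F (ψ : H → ℂ) * (ψ : H → ℂ) s)
  rw [finsum_mem_irr, finsum_mem_irr, map_sum]
  apply Finset.sum_congr rfl
  intro ψ _
  by_cases hψ : ψ ∈ b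
  · rw [if_pos hψ, if_pos hψ, map_mul, irr_inv ψ s]
    congr 1
    unfold classInner
    rw [map_mul, map_inv₀, Complex.conj_natCast, map_sum]
    congr 1
    rw [← Equiv.sum_comp (Equiv.inv H)]
    apply Finset.sum_congr rfl
    intro c _
    rw [Equiv.inv_apply, hFF', inv_inv, irr_inv ψ c, map_mul]
  · rw [if_neg hψ, if_neg hψ, map_zero]

/-- The centralizer of the cyclic group generated by `u` is the centralizer of `u`. -/
theorem centralizer_zpowers_eq (u : G) :
    Subgroup.centralizer (Subgroup.zpowers u : Set G) = Subgroup.centralizer ({u} : Set G) := by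
  ext g
  rw [Subgroup.mem_centralizer_iff, Subgroup.mem_centralizer_iff]
  constructor
  · intro h w hw
    rw [Set.mem_singleton_iff] at hw
    rw [hw]
    exact h u (Subgroup.mem_zpowers u)
  · intro h w hw
    obtain ⟨k, rfl⟩ := Subgroup.mem_zpowers_iff.mp hw
    have h1 : Commute u g := h u rfl
    exact h1.zpow_left k

/-- `secondMain_both` for a subgroup equal to the centralizer of the `p`-element. -/
theorem secondMain_both' {p : ℕ} {M : Ideal AlgInt} (hM : IsPModular p M)
    (h2 : SecondMain p M G) (x : G) (hx : ∃ k : ℕ, orderOf x = p ^ k) (C : Subgroup G)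
    (hC : C = Subgroup.centralizer ({x} : Set G))
    (B : Set (IrrCharacter G)) (hB : IsPBlock M B) :
    ∀ χ : IrrCharacter G, ∀ b : Set (IrrCharacter C), IsPBlock M b →
      (χ ∈ B → ¬ IsInducedBlock M C b B → ∀ y : C, ¬ p ∣ orderOf y →
        blockPart b (fun c : C => (χ : G → ℂ) (x * (c : G))) y = 0) ∧
      (χ ∉ B → IsInducedBlock M C b B → ∀ y : C, ¬ p ∣ orderOf y →
        blockPart b (fun c : C => (χ : G → ℂ) (x * (c : G))) y = 0) := by
  subst hC
  exact secondMain_both hM h2 x hx B hB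

/-- **Subsection norms sum to the local block rank.** -/
theorem sum_sum_blockPart_eq {p : ℕ} {M : Ideal AlgInt} (hM : IsPModular p M) (x : G)
    (hx : ∃ k : ℕ, orderOf x = p ^ k)
    (C : Subgroup G) (hxC : ∀ c ∈ C, x * c = c * x) (hCx : ∀ g : G, g * x = x * g → g ∈ C)
    (B : Set (IrrCharacter G)) (ψ₀ : IrrCharacter C)
    (h0 : ∀ χ : IrrCharacter G, χ ∉ B → ∀ y : C, ¬ p ∣ orderOf y →
        blockPart (blockOf M (ψ₀ : C → ℂ)) (fun c : C => (χ : G → ℂ) (x * (c : G))) y = 0) :
    ∑ᶠ χ ∈ B, ∑ᶠ s : C,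
        pRegularPart p (blockPart (blockOf M (ψ₀ : C → ℂ))
          (fun c : C => (χ : G → ℂ) (x * (c : G)))) s *
        blockPart (blockOf M (ψ₀ : C → ℂ)) (fun c : C => (χ : G → ℂ) (x⁻¹ * (c : G))) s⁻¹ =
      (Nat.card C : ℂ) * (blockRank p (blockOf M (ψ₀ : C → ℂ)) : ℂ) := by
  classical
  letI := Fintype.ofFinite G
  letI : Fintype C := Fintype.ofFinite C
  letI := fintypeIrr G
  letI := fintypeIrr C
  have hC0 : (Nat.card C : ℂ) ≠ 0 := by
    exact_mod_cast (Nat.card_pos (α := C)).ne'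
  have hinv : ∀ (χ : IrrCharacter G) (s : C),
      blockPart (blockOf M (ψ₀ : C → ℂ)) (fun c : C => (χ : G → ℂ) (x⁻¹ * (c : G))) s⁻¹ =
      conj (blockPart (blockOf M (ψ₀ : C → ℂ)) (fun c : C => (χ : G → ℂ) (x * (c : G))) s) := by
    intro χ s
    apply blockPart_inv_conj
    intro c
    show (χ : G → ℂ) (x⁻¹ * (c : G)) = conj ((χ : G → ℂ) (x * ((c⁻¹ : C) : G)))
    rw [← irr_inv χ (x * ((c⁻¹ : C) : G))]
    have h1 := hxC c c.2
    have h2 : x⁻¹ * (c : G) = (x * ((c⁻¹ : C) : G))⁻¹ := by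
      rw [Subgroup.coe_inv, mul_inv_rev, inv_inv]
      calc x⁻¹ * (c : G) = x⁻¹ * ((c : G) * x) * x⁻¹ := by group
        _ = x⁻¹ * (x * (c : G)) * x⁻¹ := by rw [h1]
        _ = (c : G) * x⁻¹ := by group
    rw [h2]
  rw [finsum_mem_irr]
  have h1 : ∀ χ : IrrCharacter G, (if χ ∈ B then ∑ᶠ s : C,
      pRegularPart p (blockPart (blockOf M (ψ₀ : C → ℂ))
        (fun c : C => (χ : G → ℂ) (x * (c : G)))) s *
      blockPart (blockOf M (ψ₀ : C → ℂ)) (fun c : C => (χ : G → ℂ) (x⁻¹ * (c : G))) s⁻¹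
      else 0) = ∑ s : C, if ¬ p ∣ orderOf s then (if χ ∈ B then
        blockPart (blockOf M (ψ₀ : C → ℂ)) (fun c : C => (χ : G → ℂ) (x * (c : G))) s *
        conj (blockPart (blockOf M (ψ₀ : C → ℂ))
          (fun c : C => (χ : G → ℂ) (x * (c : G))) s) else 0) else 0 := by
    intro χ
    by_cases hχ : χ ∈ B
    · simp only [if_pos hχ]
      rw [finsum_eq_sum_of_fintype]
      apply Finset.sum_congr rfl
      intro s _
      rw [hinv]
      by_cases hs : p ∣ orderOf s
      · rw [Cfsg.Agent.H81.pRegularPart_of_dvd p _ hs, zero_mul, if_neg (not_not.mpr hs)]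
      · rw [Cfsg.Agent.H81.pRegularPart_of_not_dvd p _ hs, if_pos hs]
    · simp only [if_neg hχ, ite_self, Finset.sum_const_zero]
  rw [Finset.sum_congr rfl (fun χ _ => h1 χ), Finset.sum_comm]
  have h3 : ∀ s : C, ∑ χ : IrrCharacter G, (if ¬ p ∣ orderOf s then (if χ ∈ B then
        blockPart (blockOf M (ψ₀ : C → ℂ)) (fun c : C => (χ : G → ℂ) (x * (c : G))) s *
        conj (blockPart (blockOf M (ψ₀ : C → ℂ))
          (fun c : C => (χ : G → ℂ) (x * (c : G))) s) else 0) else 0) =
      ∑ ψ : IrrCharacter C, if ψ ∈ blockOf M (ψ₀ : C → ℂ) then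
        pRegularPart p (ψ : C → ℂ) s * conj ((ψ : C → ℂ) s) else 0 := by
    intro s
    by_cases hs : p ∣ orderOf s
    · simp only [if_neg (not_not.mpr hs), Finset.sum_const_zero]
      symm
      apply Finset.sum_eq_zero
      intro ψ _
      rw [Cfsg.Agent.H81.pRegularPart_of_dvd p _ hs, zero_mul, ite_self]
    · simp only [if_pos hs]
      rw [← finsum_mem_irr, sum_blockPart_mul_conj hM x hx C hxC hCx B ψ₀ h0 s s hs hs,
        finsum_mem_irr]
      apply Finset.sum_congr rfl
      intro ψ _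
      rw [Cfsg.Agent.H81.pRegularPart_of_not_dvd p _ hs]
  rw [Finset.sum_congr rfl (fun s _ => h3 s), Finset.sum_comm,
    Cfsg.Agent.H81.blockRank_eq_sum hM ψ₀, Finset.mul_sum]
  apply Finset.sum_congr rfl
  intro ψ _
  by_cases hψ : ψ ∈ blockOf M (ψ₀ : C → ℂ)
  · simp only [if_pos hψ]
    unfold classInner
    rw [← mul_assoc, mul_inv_cancel₀ hC0, one_mul]
  · simp only [if_neg hψ, Finset.sum_const_zero, mul_zero]

end SecSum4

section BrauerPair

variable {G : Type u} [Group G] [Fintype G]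

/-- A Brauer pair `(Q, e)` of the block `B` with `Q` abelian: the block `e` of `C_G(Q)` induces
`B`. -/
theorem isInducedBlock_of_isBrauerPairOf {p : ℕ} [Fact p.Prime] {M : Ideal AlgInt}
    (hM : IsPModular p M) (B : Set (IrrCharacter G)) (Q : Subgroup G)
    (hQ : Q ≤ Subgroup.centralizer (Q : Set G))
    (e : Set (IrrCharacter (Subgroup.centralizer (Q : Set G))))
    (h : IsBrauerPairOf p M B Q e) :
    IsInducedBlock M (Subgroup.centralizer (Q : Set G)) e B := by
  classical
  letI : Fintype (Subgroup.centralizer (Q : Set G)) := Fintype.ofFinite _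
  have hMp := isPrime_of_isPModular hM
  obtain ⟨⟨hQp, ξ₀, he⟩, ⟨χ', hB⟩, hom⟩ := h
  have hξ₀ : ξ₀ ∈ e := by
    rw [he]
    exact Cfsg.Agent.H80.mem_blockOf_self hMp ξ₀
  have hHN : Subgroup.centralizer (Q : Set G) ≤ Subgroup.normalizer (Q : Set G) :=
    Subgroup.centralizer_le_normalizer _
  obtain ⟨χ₀, hχ₀⟩ := (isModHom_brauer hM hQp le_rfl hHN ξ₀).exists_irr
  have hχ₀B : χ₀ ∈ B := by
    by_contra hnot
    have h1 := hχ₀ (blockElt B) (by rw [hB]; exact blockElt_mem hMp χ')
    rw [omega_blockElt, if_neg hnot, sub_zero] at h1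
    have h2 := hom ξ₀ hξ₀
    have h3 : brauerOmega Q (blockCoeff B)
        (ξ₀ : Subgroup.centralizer (Q : Set G) → ℂ) =
        omega (ξ₀ : Subgroup.centralizer (Q : Set G) → ℂ)
          (brMap Q (Subgroup.centralizer (Q : Set G)) (blockElt B)) := by
      unfold brauerOmega omega
      rw [finsum_eq_sum_of_fintype, Finset.sum_div]
      apply Finset.sum_congr rfl
      intro x _
      rw [coeff_brMap, if_pos x.2, coeff_blockElt]
    rw [h3] at h2
    have h4 := memLocalIdeal_sub hMp h1 h2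
    rw [sub_sub_cancel] at h4
    exact not_memLocalIdeal_one hMp h4
  have hBeq : B = blockOf M (χ₀ : G → ℂ) := by
    rw [hB] at hχ₀B ⊢
    exact (Cfsg.Agent.H80.blockOf_eq_of_mem hMp hχ₀B).symm
  rw [hBeq, he]
  refine ⟨⟨ξ₀, rfl⟩, ⟨χ₀, rfl⟩, fun ξ hξ χ hχ g => ?_⟩
  have t1 := inducedCentralChar_sub_brauerCentralChar_mem hM Q
    (Subgroup.centralizer (Q : Set G)) hQp hQ hHN ξ g
  have t2 : MemLocalIdeal M
      (brauerCentralChar Q (Subgroup.centralizer (Q : Set G))
        (ξ : Subgroup.centralizer (Q : Set G) → ℂ) g -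
      brauerCentralChar Q (Subgroup.centralizer (Q : Set G))
        (ξ₀ : Subgroup.centralizer (Q : Set G) → ℂ) g) := by
    have h1 := omega_sub_omega_memLocalIdeal hMp
      (ξ₀ : Subgroup.centralizer (Q : Set G) → ℂ) (ξ : Subgroup.centralizer (Q : Set G) → ℂ)
      (irr_isClassFunction ξ₀) (irr_isClassFunction ξ) hξ
      (brMap_mem (P := Q) (H := Subgroup.centralizer (Q : Set G)) hHN
        (classSum_mem (localRing M hMp) g))
    rw [omega_brMap_classSum, omega_brMap_classSum] at h1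
    have h2 := memLocalIdeal_neg h1
    rwa [neg_sub] at h2
  have t3 : MemLocalIdeal M
      (brauerCentralChar Q (Subgroup.centralizer (Q : Set G))
        (ξ₀ : Subgroup.centralizer (Q : Set G) → ℂ) g - centralChar (χ₀ : G → ℂ) g) := by
    have h1 := hχ₀ (classSum g) (classSum_mem _ g)
    rwa [omega_brMap_classSum, omega_classSum _ (irr_isClassFunction χ₀)] at h1
  have t4 : MemLocalIdeal M (centralChar (χ₀ : G → ℂ) g - centralChar (χ : G → ℂ) g) := hχ g
  have t5 := memLocalIdeal_add hMp (memLocalIdeal_add hMp (memLocalIdeal_add hMp t1 t2) t3) t4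
  convert t5 using 1
  ring

end BrauerPair

end Cfsg.Agent.H84
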