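/-
helper84 library: contribution numbers of a block, generic part (one group `C`).

* `irrFinset A`: a set of irreducible characters as a finset; `finsum_mem_eq_sum_irrFinset`.
* `regInner p ξ ξ' = ⟨ξ°, ξ'⟩` (the `p`-regular inner product); `regInner_conj`,
  `regInner_eq_zero`, `exists_int_regInner` (`p^d ⟨ξ°, ξ'⟩ ∈ ℤ` for `ξ'` in a block of defect `d`).
* `blockPart_eq_sum`, `pRegularPart_blockPart`, `classInner_regPart`: block parts, their
  `p`-regular parts, and their inner products in terms of the coefficients.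
* `sum_regInner_mul_pReg`, `sum_classInner_regPart_mul`: reproducing property of the block on
  `p`-regular elements.
-/
import Mathlib
import Cfsg.Prelude.Def_Blocks
import Cfsg.Prelude.Def_BlockRank
import Cfsg.Agent.H84.HZSection
import Cfsg.Agent.H84.SectionSum4
import Cfsg.Agent.H84.NormalDefect
import Cfsg.Agent.H4.PRegular

set_option autoImplicit false
set_option linter.style.haveILetI false
set_option linter.unusedSectionVars false
set_option linter.unusedVariables false

namespace Cfsg.Agent.H84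

open Cfsg Cfsg.Agent.H4 Cfsg.Agent.H20
open scoped ComplexConjugate

universe u

section IrrFinset

variable {C : Type u} [Group C] [Finite C]

/-- A set of irreducible characters of a finite group, as a finset. -/
noncomputable def irrFinset (A : Set (IrrCharacter C)) : Finset (IrrCharacter C) := by
  classical
  exact (@Finset.univ _ (fintypeIrr C)).filter (· ∈ A)

theorem mem_irrFinset {A : Set (IrrCharacter C)} {ξ : IrrCharacter C} :
    ξ ∈ irrFinset A ↔ ξ ∈ A := by
  classical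
  unfold irrFinset
  rw [Finset.mem_filter]
  exact ⟨fun h => h.2, fun h => ⟨@Finset.mem_univ _ (fintypeIrr C) ξ, h⟩⟩

theorem finsum_mem_eq_sum_irrFinset {N : Type*} [AddCommMonoid N] (A : Set (IrrCharacter C))
    (f : IrrCharacter C → N) : ∑ᶠ ξ ∈ A, f ξ = ∑ ξ ∈ irrFinset A, f ξ := by
  classical
  letI := fintypeIrr C
  rw [finsum_mem_eq_sum_ite]
  unfold irrFinset
  rw [Finset.sum_filter]

theorem card_irrFinset (A : Set (IrrCharacter C)) : (irrFinset A).card = Nat.card A := by
  classical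
  letI := fintypeIrr C
  rw [Nat.card_eq_fintype_card, Fintype.card_subtype]
  unfold irrFinset
  rfl

theorem irrFinset_subset {A A' : Set (IrrCharacter C)} (h : A ⊆ A') :
    irrFinset A ⊆ irrFinset A' := by
  intro ξ hξ
  rw [mem_irrFinset] at hξ ⊢
  exact h hξ

end IrrFinset

section Generic

variable {C : Type u} [Group C] [Fintype C] {p : ℕ} {M : Ideal AlgInt}

theorem blockPart_apply' (b : Set (IrrCharacter C)) (f : C → ℂ) (s : C) :
    blockPart b f s = ∑ᶠ ξ ∈ b, classInner f (ξ : C → ℂ) * (ξ : C → ℂ) s := by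
  unfold blockPart
  have h : (Fintype.ofFinite C) = ‹Fintype C› := Subsingleton.elim _ _
  rw [h]

theorem blockPart_eq_sum (b : Set (IrrCharacter C)) (f : C → ℂ) :
    blockPart b f = ∑ ξ ∈ irrFinset b, classInner f (ξ : C → ℂ) • (ξ : C → ℂ) := by
  funext s
  rw [blockPart_apply', finsum_mem_eq_sum_irrFinset, Finset.sum_apply]
  rfl

theorem pRegularPart_blockPart (p : ℕ) (b : Set (IrrCharacter C)) (f : C → ℂ) :
    pRegularPart p (blockPart b f) =
      ∑ ξ ∈ irrFinset b, classInner f (ξ : C → ℂ) • pRegularPart p (ξ : C → ℂ) := by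
  rw [blockPart_eq_sum, ← Cfsg.Agent.H81.pRegL_apply, map_sum]
  apply Finset.sum_congr rfl
  intro ξ _
  rw [map_smul, Cfsg.Agent.H81.pRegL_apply]

theorem classInner_pReg_right (p : ℕ) (f g : C → ℂ) :
    classInner (pRegularPart p f) (pRegularPart p g) = classInner (pRegularPart p f) g := by
  classical
  unfold classInner
  congr 1
  apply Finset.sum_congr rfl
  intro s _
  by_cases hs : p ∣ orderOf s
  · rw [Cfsg.Agent.H81.pRegularPart_of_dvd p _ hs, zero_mul, zero_mul]
  · rw [Cfsg.Agent.H81.pRegularPart_of_not_dvd p g hs]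

theorem classInner_pReg_left (p : ℕ) (f g : C → ℂ) :
    classInner (pRegularPart p f) (pRegularPart p g) = classInner f (pRegularPart p g) := by
  classical
  unfold classInner
  congr 1
  apply Finset.sum_congr rfl
  intro s _
  by_cases hs : p ∣ orderOf s
  · rw [Cfsg.Agent.H81.pRegularPart_of_dvd p g hs, map_zero, mul_zero, mul_zero]
  · rw [Cfsg.Agent.H81.pRegularPart_of_not_dvd p f hs]

/-- The `p`-regular inner product `⟨ξ°, ξ'⟩` of two irreducible characters. -/
noncomputable def regInner (p : ℕ) (ξ ξ' : IrrCharacter C) : ℂ :=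
  classInner (pRegularPart p (ξ : C → ℂ)) (ξ' : C → ℂ)

theorem regInner_conj (p : ℕ) (ξ ξ' : IrrCharacter C) :
    conj (regInner p ξ ξ') = regInner p ξ' ξ := by
  unfold regInner
  rw [classInner_conj_symm, ← classInner_pReg_left, classInner_pReg_right]

theorem regInner_eq_zero (hM : IsPModular p M) (ξ ξ' : IrrCharacter C)
    (h : ξ' ∉ blockOf M (ξ : C → ℂ)) : regInner p ξ ξ' = 0 :=
  Cfsg.Agent.H81.wbo_two hM ξ ξ' h

/-- `p^d ⟨ξ°, ξ'⟩` is a rational integer, for `ξ'` in a block of defect `d`. -/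
theorem exists_int_regInner [Fact p.Prime] (hM : IsPModular p M) (ψ₀ ξ ξ' : IrrCharacter C)
    (hξ' : ξ' ∈ blockOf M (ψ₀ : C → ℂ)) :
    ∃ z : ℤ, (z : ℂ) = (p : ℂ) ^ blockDefect p (blockOf M (ψ₀ : C → ℂ)) * regInner p ξ ξ' := by
  classical
  have hp : p.Prime := hM.1
  have hMp := isPrime_of_isPModular hM
  have hp0 : (p : ℂ) ≠ 0 := by exact_mod_cast hp.ne_zero
  obtain ⟨d, hd⟩ : ∃ d : ℕ, d = blockDefect p (blockOf M (ψ₀ : C → ℂ)) := ⟨_, rfl⟩
  obtain ⟨c, hc⟩ : ∃ c : ℕ, c = (Nat.card C).factorization p := ⟨_, rfl⟩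
  rw [← hd]
  have hdc : d ≤ c := by
    rw [hd, hc]
    unfold blockDefect
    exact Nat.sub_le _ _
  have hC0 : (Nat.card C : ℂ) ≠ 0 := by exact_mod_cast (Nat.card_pos (α := C)).ne'
  -- (a) integrality up to the full `p`-part
  obtain ⟨z₁, hz₁⟩ : ∃ z₁ : ℤ, (z₁ : ℂ) = (p : ℂ) ^ c * regInner p ξ ξ' := by
    obtain ⟨a, b, ha, hb, hab⟩ := isGeneralizedCharacter_pRegular_mul (G := C) p hp
      (Cfsg.Agent.H80.isCharacter_of_irr ξ)
    obtain ⟨na, hna⟩ := classInner_isCharacter_nat ha (Cfsg.Agent.H80.isCharacter_of_irr ξ')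
    obtain ⟨nb, hnb⟩ := classInner_isCharacter_nat hb (Cfsg.Agent.H80.isCharacter_of_irr ξ')
    refine ⟨(na : ℤ) - nb, ?_⟩
    have h1 : (fun x : C => if p ∣ orderOf x then (0 : ℂ) else
        ((p ^ (Nat.card C).factorization p : ℕ) : ℂ) * (ξ : C → ℂ) x) =
        ((p : ℂ) ^ c) • pRegularPart p (ξ : C → ℂ) := by
      funext x
      rw [Pi.smul_apply, Cfsg.Agent.H81.pRegularPart_apply, smul_eq_mul, ← hc]
      split_ifs
      · rw [mul_zero]
      · push_cast
        rfl
    rw [h1] at hab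
    unfold regInner
    rw [← classInner_smul_left, hab, classInner_sub_left, hna, hnb]
    push_cast
    ring
  -- (b) local integrality
  have hw : MemLocalRing M ((p : ℂ) ^ d * regInner p ξ ξ') := by
    have h1 := omega_regElt_eq (p := p) (ξ : C → ℂ) ξ'
    have h2 := omega_memLocalRing hMp ξ' (regElt_mem hMp p ξ)
    have hdeg := Cfsg.Agent.H81.irr_charDegree ξ'
    have h3 : MemLocalRing M (((p ^ d * charDegree (ξ' : C → ℂ) : ℕ) : ℂ) / (Nat.card C : ℂ)) := by
      apply memLocalRing_natCast_div hM Nat.card_pos.ne'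
      rw [Nat.factorization_mul (pow_ne_zero _ hp.ne_zero) hdeg.2.ne', Finsupp.add_apply,
        Nat.Prime.factorization_pow hp, Finsupp.single_eq_same]
      have := factorization_card_le_add_blockDefect (p := p) (blockOf M (ψ₀ : C → ℂ)) ξ' hξ'
      omega
    have h4 := memLocalRing_mul hMp h2 h3
    convert h4 using 1
    rw [h1, hdeg.1]
    unfold regInner
    have hdeg0 : ((charDegree (ξ' : C → ℂ) : ℕ) : ℂ) ≠ 0 := by exact_mod_cast hdeg.2.ne'
    push_cast
    field_simp
  -- (c) combine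
  have hrel : (z₁ : ℂ) = (p : ℂ) ^ (c - d) * ((p : ℂ) ^ d * regInner p ξ ξ') := by
    rw [hz₁, ← mul_assoc, ← pow_add, Nat.sub_add_cancel hdc]
  have hpe : ((p : ℂ) ^ (c - d)) ≠ 0 := pow_ne_zero _ hp0
  obtain ⟨n, hn⟩ : ∃ n : ℕ, z₁ = (n : ℤ) ∨ z₁ = -(n : ℤ) := ⟨z₁.natAbs, Int.natAbs_eq z₁⟩
  rcases hn with h | h
  · have h1 : ((n : ℕ) : ℂ) = (p : ℂ) ^ (c - d) * ((p : ℂ) ^ d * regInner p ξ ξ') := by
      rw [← hrel, h]
      push_cast
      rfl
    obtain ⟨m, hm⟩ := pow_dvd_of_memLocalRing hM (c - d) n _ hw h1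
    refine ⟨(m : ℤ), ?_⟩
    have h2 : (p : ℂ) ^ (c - d) * (m : ℂ) = (p : ℂ) ^ (c - d) * ((p : ℂ) ^ d * regInner p ξ ξ') := by
      rw [← h1, hm]
      push_cast
      rfl
    have h3 := mul_left_cancel₀ hpe h2
    rw [← h3]
    push_cast
    rfl
  · have h1 : ((n : ℕ) : ℂ) = (p : ℂ) ^ (c - d) * (-((p : ℂ) ^ d * regInner p ξ ξ')) := by
      rw [mul_neg, ← hrel, h]
      push_cast
      ring
    obtain ⟨m, hm⟩ := pow_dvd_of_memLocalRing hM (c - d) n _ (memLocalRing_neg hw) h1
    refine ⟨-(m : ℤ), ?_⟩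
    have h2 : (p : ℂ) ^ (c - d) * (m : ℂ) =
        (p : ℂ) ^ (c - d) * (-((p : ℂ) ^ d * regInner p ξ ξ')) := by
      rw [← h1, hm]
      push_cast
      rfl
    have h3 := mul_left_cancel₀ hpe h2
    push_cast
    rw [h3, neg_neg]

/-- Inner products of `p`-regular parts of block parts, in terms of the coefficients. -/
theorem classInner_regPart (p : ℕ) (b : Set (IrrCharacter C)) (f g : C → ℂ) :
    classInner (pRegularPart p (blockPart b f)) (pRegularPart p (blockPart b g)) =
      ∑ ξ ∈ irrFinset b, ∑ ξ' ∈ irrFinset b,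
        classInner f (ξ : C → ℂ) * conj (classInner g (ξ' : C → ℂ)) * regInner p ξ ξ' := by
  rw [classInner_pReg_right, pRegularPart_blockPart, blockPart_eq_sum b g, classInner_sum_left]
  apply Finset.sum_congr rfl
  intro ξ _
  rw [classInner_smul_left, classInner_sum_right, Finset.mul_sum]
  apply Finset.sum_congr rfl
  intro ξ' _
  rw [classInner_smul_right]
  unfold regInner
  ring

/-- Reproducing property of a block on `p`-regular elements. -/
theorem sum_regInner_mul_pReg (hM : IsPModular p M) (ψ₀ ξ₁ : IrrCharacter C)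
    (hξ₁ : ξ₁ ∈ blockOf M (ψ₀ : C → ℂ)) (s : C) :
    ∑ ξ ∈ irrFinset (blockOf M (ψ₀ : C → ℂ)),
        regInner p ξ₁ ξ * pRegularPart p (ξ : C → ℂ) s = pRegularPart p (ξ₁ : C → ℂ) s := by
  classical
  letI := fintypeIrr C
  by_cases hs : p ∣ orderOf s
  · rw [Cfsg.Agent.H81.pRegularPart_of_dvd p _ hs]
    apply Finset.sum_eq_zero
    intro ξ _
    rw [Cfsg.Agent.H81.pRegularPart_of_dvd p _ hs, mul_zero]
  · have h := congrFun (Cfsg.Agent.H81.pRegularPart_expansion hM ψ₀ ξ₁ hξ₁) s
    rw [Finset.sum_apply] at h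
    conv_rhs => rw [h]
    rw [← finsum_mem_eq_sum_irrFinset, finsum_mem_eq_sum_ite]
    apply Finset.sum_congr rfl
    intro ξ _
    split_ifs
    · rw [Cfsg.Agent.H81.pRegularPart_of_not_dvd p _ hs]
      rfl
    · rfl

/-- Reproducing property for the `p`-regular part of a block part. -/
theorem sum_classInner_regPart_mul (hM : IsPModular p M) (ψ₀ : IrrCharacter C) (f : C → ℂ)
    (s : C) :
    ∑ ξ ∈ irrFinset (blockOf M (ψ₀ : C → ℂ)),
        classInner (pRegularPart p (blockPart (blockOf M (ψ₀ : C → ℂ)) f))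
          (pRegularPart p (ξ : C → ℂ)) * pRegularPart p (ξ : C → ℂ) s =
      pRegularPart p (blockPart (blockOf M (ψ₀ : C → ℂ)) f) s := by
  have h1 : ∀ ξ : IrrCharacter C,
      classInner (pRegularPart p (blockPart (blockOf M (ψ₀ : C → ℂ)) f))
          (pRegularPart p (ξ : C → ℂ)) =
        ∑ ξ₁ ∈ irrFinset (blockOf M (ψ₀ : C → ℂ)),
          classInner f (ξ₁ : C → ℂ) * regInner p ξ₁ ξ := by
    intro ξ
    rw [classInner_pReg_right, pRegularPart_blockPart, classInner_sum_left]
    apply Finset.sum_congr rfl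
    intro ξ₁ _
    rw [classInner_smul_left]
    rfl
  simp only [h1]
  simp only [Finset.sum_mul]
  rw [Finset.sum_comm]
  conv_rhs => rw [pRegularPart_blockPart, Finset.sum_apply]
  apply Finset.sum_congr rfl
  intro ξ₁ hξ₁
  rw [mem_irrFinset] at hξ₁
  rw [Pi.smul_apply, smul_eq_mul, ← sum_regInner_mul_pReg hM ψ₀ ξ₁ hξ₁ s, Finset.mul_sum]
  apply Finset.sum_congr rfl
  intro ξ _
  ring

end Generic

end Cfsg.Agent.H84
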