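/-
helper84 library: contribution numbers of a subsection `(x, b)`.

For a `p`-element `x` of `G`, a subgroup `C` (its centralizer) and a block `b` of `C`:
* `secPart p C b x χ`: the `p`-regular part of the `b`-part of `c ↦ χ(x c)`;
* `contrib p C b x χ ψ = ⟨secPart χ, secPart ψ⟩`: the contribution number `m_{χψ}^{(x,b)}`.

Results (for `b` such that the `b`-parts vanish for `χ ∉ B`, e.g. `b` inducing `B`):
* `sum_secPart_mul_conj`: kernel identity;
* `sum_contrib_mul_secPart`, `sum_contrib_mul_contrib` (the matrix of contributions is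
  idempotent), `contrib_conj` (Hermitian), `sum_contrib_self` (trace `= l(b)`),
  `sum_norm_sq_contrib` (row sums), `sum_sum_norm_sq_contrib`.
-/
import Mathlib
import Cfsg.Prelude.Def_Blocks
import Cfsg.Prelude.Def_BlockRank
import Cfsg.Agent.H84.Contrib

set_option autoImplicit false
set_option linter.style.haveILetI false
set_option linter.unusedSectionVars false
set_option linter.unusedVariables false

namespace Cfsg.Agent.H84

open Cfsg Cfsg.Agent.H4 Cfsg.Agent.H20
open scoped ComplexConjugate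

universe u

section Contrib

variable {G : Type u} [Group G] [Fintype G]

/-- The `p`-regular part of the `b`-part of `c ↦ χ(x c)`. -/
noncomputable def secPart (p : ℕ) (C : Subgroup G) [Fintype C] (b : Set (IrrCharacter C))
    (x : G) (χ : IrrCharacter G) : C → ℂ :=
  pRegularPart p (blockPart b (fun c : C => (χ : G → ℂ) (x * (c : G))))

/-- The contribution number `m_{χψ}^{(x,b)}`. -/
noncomputable def contrib (p : ℕ) (C : Subgroup G) [Fintype C] (b : Set (IrrCharacter C))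
    (x : G) (χ ψ : IrrCharacter G) : ℂ :=
  classInner (secPart p C b x χ) (secPart p C b x ψ)

theorem secPart_of_dvd (p : ℕ) (C : Subgroup G) [Fintype C] (b : Set (IrrCharacter C))
    (x : G) (χ : IrrCharacter G) {s : C} (hs : p ∣ orderOf s) : secPart p C b x χ s = 0 :=
  Cfsg.Agent.H81.pRegularPart_of_dvd p _ hs

theorem secPart_of_not_dvd (p : ℕ) (C : Subgroup G) [Fintype C] (b : Set (IrrCharacter C))
    (x : G) (χ : IrrCharacter G) {s : C} (hs : ¬ p ∣ orderOf s) :
    secPart p C b x χ s = blockPart b (fun c : C => (χ : G → ℂ) (x * (c : G))) s :=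
  Cfsg.Agent.H81.pRegularPart_of_not_dvd p _ hs

theorem contrib_conj (p : ℕ) (C : Subgroup G) [Fintype C] (b : Set (IrrCharacter C))
    (x : G) (χ ψ : IrrCharacter G) : conj (contrib p C b x χ ψ) = contrib p C b x ψ χ := by
  unfold contrib
  rw [classInner_conj_symm]

variable {p : ℕ} {M : Ideal AlgInt}

/-- Kernel identity on a `p`-section. -/
theorem sum_secPart_mul_conj (hM : IsPModular p M) (x : G) (hx : ∃ k : ℕ, orderOf x = p ^ k)
    (C : Subgroup G) [Fintype C] (hxC : ∀ c ∈ C, x * c = c * x)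
    (hCx : ∀ g : G, g * x = x * g → g ∈ C) (B : Set (IrrCharacter G)) (ψ₀ : IrrCharacter C)
    (h0 : ∀ χ : IrrCharacter G, χ ∉ B → ∀ y : C, ¬ p ∣ orderOf y →
        blockPart (blockOf M (ψ₀ : C → ℂ)) (fun c : C => (χ : G → ℂ) (x * (c : G))) y = 0)
    (s t : C) :
    ∑ χ ∈ irrFinset B, secPart p C (blockOf M (ψ₀ : C → ℂ)) x χ s *
        conj (secPart p C (blockOf M (ψ₀ : C → ℂ)) x χ t) =
      ∑ ξ ∈ irrFinset (blockOf M (ψ₀ : C → ℂ)),
        pRegularPart p (ξ : C → ℂ) s * conj (pRegularPart p (ξ : C → ℂ) t) := by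
  by_cases hs : p ∣ orderOf s
  · rw [Finset.sum_eq_zero, Finset.sum_eq_zero]
    · intro ξ _
      rw [Cfsg.Agent.H81.pRegularPart_of_dvd p _ hs, zero_mul]
    · intro χ _
      rw [secPart_of_dvd p C _ x χ hs, zero_mul]
  · by_cases ht : p ∣ orderOf t
    · rw [Finset.sum_eq_zero, Finset.sum_eq_zero]
      · intro ξ _
        rw [Cfsg.Agent.H81.pRegularPart_of_dvd p _ ht, map_zero, mul_zero]
      · intro χ _
        rw [secPart_of_dvd p C _ x χ ht, map_zero, mul_zero]
    · have h := sum_blockPart_mul_conj hM x hx C hxC hCx B ψ₀ h0 s t hs ht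
      rw [finsum_mem_eq_sum_irrFinset, finsum_mem_eq_sum_irrFinset] at h
      rw [Finset.sum_congr rfl (fun χ _ => by
        rw [secPart_of_not_dvd p C _ x χ hs, secPart_of_not_dvd p C _ x χ ht]), h]
      apply Finset.sum_congr rfl
      intro ξ _
      rw [Cfsg.Agent.H81.pRegularPart_of_not_dvd p _ hs,
        Cfsg.Agent.H81.pRegularPart_of_not_dvd p _ ht]

/-- Reproducing property of the contribution numbers. -/
theorem sum_contrib_mul_secPart (hM : IsPModular p M) (x : G)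
    (hx : ∃ k : ℕ, orderOf x = p ^ k)
    (C : Subgroup G) [Fintype C] (hxC : ∀ c ∈ C, x * c = c * x)
    (hCx : ∀ g : G, g * x = x * g → g ∈ C) (B : Set (IrrCharacter G)) (ψ₀ : IrrCharacter C)
    (h0 : ∀ χ : IrrCharacter G, χ ∉ B → ∀ y : C, ¬ p ∣ orderOf y →
        blockPart (blockOf M (ψ₀ : C → ℂ)) (fun c : C => (χ : G → ℂ) (x * (c : G))) y = 0)
    (χ : IrrCharacter G) (t : C) :
    ∑ ψ ∈ irrFinset B, contrib p C (blockOf M (ψ₀ : C → ℂ)) x χ ψ *
        secPart p C (blockOf M (ψ₀ : C → ℂ)) x ψ t =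
      secPart p C (blockOf M (ψ₀ : C → ℂ)) x χ t := by
  have h1 : ∀ ψ : IrrCharacter G, contrib p C (blockOf M (ψ₀ : C → ℂ)) x χ ψ *
        secPart p C (blockOf M (ψ₀ : C → ℂ)) x ψ t =
      (Nat.card C : ℂ)⁻¹ * ∑ s : C, secPart p C (blockOf M (ψ₀ : C → ℂ)) x χ s *
        (secPart p C (blockOf M (ψ₀ : C → ℂ)) x ψ t *
          conj (secPart p C (blockOf M (ψ₀ : C → ℂ)) x ψ s)) := by
    intro ψ
    unfold contrib classInner
    rw [mul_assoc, Finset.sum_mul]
    congr 1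
    apply Finset.sum_congr rfl
    intro s _
    ring
  rw [Finset.sum_congr rfl (fun ψ _ => h1 ψ), ← Finset.mul_sum, Finset.sum_comm]
  have h2 : ∀ s : C, ∑ ψ ∈ irrFinset B, secPart p C (blockOf M (ψ₀ : C → ℂ)) x χ s *
        (secPart p C (blockOf M (ψ₀ : C → ℂ)) x ψ t *
          conj (secPart p C (blockOf M (ψ₀ : C → ℂ)) x ψ s)) =
      secPart p C (blockOf M (ψ₀ : C → ℂ)) x χ s *
        ∑ ξ ∈ irrFinset (blockOf M (ψ₀ : C → ℂ)),
          pRegularPart p (ξ : C → ℂ) t * conj (pRegularPart p (ξ : C → ℂ) s) := by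
    intro s
    rw [← Finset.mul_sum, sum_secPart_mul_conj hM x hx C hxC hCx B ψ₀ h0 t s]
  rw [Finset.sum_congr rfl (fun s _ => h2 s)]
  have h3 := sum_classInner_regPart_mul hM ψ₀ (fun c : C => (χ : G → ℂ) (x * (c : G))) t
  change _ = secPart p C (blockOf M (ψ₀ : C → ℂ)) x χ t at h3
  rw [← h3]
  unfold classInner
  simp only [Finset.mul_sum, Finset.sum_mul]
  rw [Finset.sum_comm]
  apply Finset.sum_congr rfl
  intro ξ _
  apply Finset.sum_congr rfl
  intro s _
  unfold secPart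
  ring

/-- The matrix of contribution numbers is idempotent. -/
theorem sum_contrib_mul_contrib (hM : IsPModular p M) (x : G)
    (hx : ∃ k : ℕ, orderOf x = p ^ k)
    (C : Subgroup G) [Fintype C] (hxC : ∀ c ∈ C, x * c = c * x)
    (hCx : ∀ g : G, g * x = x * g → g ∈ C) (B : Set (IrrCharacter G)) (ψ₀ : IrrCharacter C)
    (h0 : ∀ χ : IrrCharacter G, χ ∉ B → ∀ y : C, ¬ p ∣ orderOf y →
        blockPart (blockOf M (ψ₀ : C → ℂ)) (fun c : C => (χ : G → ℂ) (x * (c : G))) y = 0)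
    (χ χ' : IrrCharacter G) :
    ∑ ψ ∈ irrFinset B, contrib p C (blockOf M (ψ₀ : C → ℂ)) x χ ψ *
        contrib p C (blockOf M (ψ₀ : C → ℂ)) x ψ χ' =
      contrib p C (blockOf M (ψ₀ : C → ℂ)) x χ χ' := by
  have h1 : ∑ ψ ∈ irrFinset B, contrib p C (blockOf M (ψ₀ : C → ℂ)) x χ ψ •
      secPart p C (blockOf M (ψ₀ : C → ℂ)) x ψ = secPart p C (blockOf M (ψ₀ : C → ℂ)) x χ := by
    funext t
    rw [Finset.sum_apply, ← sum_contrib_mul_secPart hM x hx C hxC hCx B ψ₀ h0 χ t]
    rfl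
  conv_rhs => rw [contrib, ← h1, classInner_sum_left]
  apply Finset.sum_congr rfl
  intro ψ _
  rw [classInner_smul_left]
  rfl

/-- The trace of the matrix of contribution numbers is the local block rank. -/
theorem sum_contrib_self (hM : IsPModular p M) (x : G) (hx : ∃ k : ℕ, orderOf x = p ^ k)
    (C : Subgroup G) [Fintype C] (hxC : ∀ c ∈ C, x * c = c * x)
    (hCx : ∀ g : G, g * x = x * g → g ∈ C) (B : Set (IrrCharacter G)) (ψ₀ : IrrCharacter C)
    (h0 : ∀ χ : IrrCharacter G, χ ∉ B → ∀ y : C, ¬ p ∣ orderOf y →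
        blockPart (blockOf M (ψ₀ : C → ℂ)) (fun c : C => (χ : G → ℂ) (x * (c : G))) y = 0) :
    ∑ χ ∈ irrFinset B, contrib p C (blockOf M (ψ₀ : C → ℂ)) x χ χ =
      (blockRank p (blockOf M (ψ₀ : C → ℂ)) : ℂ) := by
  classical
  letI := fintypeIrr C
  unfold contrib classInner
  rw [← Finset.mul_sum, Finset.sum_comm,
    Finset.sum_congr rfl (fun s _ => sum_secPart_mul_conj hM x hx C hxC hCx B ψ₀ h0 s s),
    Finset.sum_comm, Finset.mul_sum, Cfsg.Agent.H81.blockRank_eq_sum hM ψ₀,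
    ← finsum_mem_eq_sum_ite, finsum_mem_eq_sum_irrFinset]
  apply Finset.sum_congr rfl
  intro ξ _
  rw [← classInner_pReg_right]
  rfl

/-- Row sums of the squared absolute values of the contribution numbers. -/
theorem sum_norm_sq_contrib (hM : IsPModular p M) (x : G) (hx : ∃ k : ℕ, orderOf x = p ^ k)
    (C : Subgroup G) [Fintype C] (hxC : ∀ c ∈ C, x * c = c * x)
    (hCx : ∀ g : G, g * x = x * g → g ∈ C) (B : Set (IrrCharacter G)) (ψ₀ : IrrCharacter C)
    (h0 : ∀ χ : IrrCharacter G, χ ∉ B → ∀ y : C, ¬ p ∣ orderOf y →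
        blockPart (blockOf M (ψ₀ : C → ℂ)) (fun c : C => (χ : G → ℂ) (x * (c : G))) y = 0)
    (χ : IrrCharacter G) :
    ((∑ ψ ∈ irrFinset B, ‖contrib p C (blockOf M (ψ₀ : C → ℂ)) x χ ψ‖ ^ 2 : ℝ) : ℂ) =
      contrib p C (blockOf M (ψ₀ : C → ℂ)) x χ χ := by
  rw [← sum_contrib_mul_contrib hM x hx C hxC hCx B ψ₀ h0 χ χ]
  push_cast
  apply Finset.sum_congr rfl
  intro ψ _
  rw [← contrib_conj p C _ x χ ψ, Complex.mul_conj']

/-- The sum of all squared absolute values of the contribution numbers is the local block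
rank. -/
theorem sum_sum_norm_sq_contrib (hM : IsPModular p M) (x : G)
    (hx : ∃ k : ℕ, orderOf x = p ^ k)
    (C : Subgroup G) [Fintype C] (hxC : ∀ c ∈ C, x * c = c * x)
    (hCx : ∀ g : G, g * x = x * g → g ∈ C) (B : Set (IrrCharacter G)) (ψ₀ : IrrCharacter C)
    (h0 : ∀ χ : IrrCharacter G, χ ∉ B → ∀ y : C, ¬ p ∣ orderOf y →
        blockPart (blockOf M (ψ₀ : C → ℂ)) (fun c : C => (χ : G → ℂ) (x * (c : G))) y = 0) :
    ∑ χ ∈ irrFinset B, ∑ ψ ∈ irrFinset B,
        ‖contrib p C (blockOf M (ψ₀ : C → ℂ)) x χ ψ‖ ^ 2 =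
      (blockRank p (blockOf M (ψ₀ : C → ℂ)) : ℝ) := by
  apply Complex.ofReal_injective
  rw [Complex.ofReal_sum]
  rw [Finset.sum_congr rfl (fun χ _ => sum_norm_sq_contrib hM x hx C hxC hCx B ψ₀ h0 χ),
    sum_contrib_self hM x hx C hxC hCx B ψ₀ h0]
  simp

end Contrib

end Cfsg.Agent.H84
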