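/-
helper84 library: contribution numbers of a subsection, arithmetic part.

* `classInner_translate_central`: coefficients of `c ↦ θ(z c)` for central `z`.
* `classInner_pReg_blockPart`: `⟨ξ°, F_b⟩ = ⟨ξ°, F⟩` for `ξ ∈ b`, `F` a class function.
* `transElt`: the central element `∑_{h p-regular} ψ(x h⁻¹) h`.
* `exists_contrib_data`: `p^d m_{χψ}^{(x^γ, b)}` as an integral combination of powers of `ζ^γ`.
* `not_memLocalIdeal_contrib`: `p^d m_{χψ}^{(x,b)}` is a unit of the local ring when `χ, ψ` have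
  height zero in `B = b^G` (`d` the defect of `b`).
-/
import Mathlib
import Cfsg.Prelude.Def_Blocks
import Cfsg.Prelude.Def_BlockRank
import Cfsg.Agent.H84.Contrib2

set_option autoImplicit false
set_option linter.style.haveILetI false
set_option linter.unusedSectionVars false
set_option linter.unusedVariables false

namespace Cfsg.Agent.H84

open Cfsg Cfsg.Agent.H4 Cfsg.Agent.H20
open scoped ComplexConjugate

universe u

section Central

variable {H : Type u} [Group H] [Fintype H]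

/-- Coefficients of the translate of a function by a central element. -/
theorem classInner_translate_central (θ : H → ℂ) {z : H} (hz : z ∈ Subgroup.center H)
    (ξ : IrrCharacter H) :
    classInner (fun c : H => θ (z * c)) (ξ : H → ℂ) =
      classInner θ (ξ : H → ℂ) * ((ξ : H → ℂ) z / (ξ : H → ℂ) 1) := by
  have h0 := irr_one_ne_zero ξ
  have hz' : z⁻¹ ∈ Subgroup.center H := Subgroup.inv_mem _ hz
  have h1 : (ξ : H → ℂ) z⁻¹ / (ξ : H → ℂ) 1 * ((ξ : H → ℂ) z / (ξ : H → ℂ) 1) = 1 := by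
    have h2 := irr_central_mul ξ hz' z
    rw [inv_mul_cancel] at h2
    field_simp
    rw [eq_comm, pow_two]
    have h3 : (ξ : H → ℂ) 1 * (ξ : H → ℂ) 1 =
        ((ξ : H → ℂ) z⁻¹ / (ξ : H → ℂ) 1 * (ξ : H → ℂ) z) * (ξ : H → ℂ) 1 := by rw [← h2]
    rw [h3]
    field_simp
  unfold classInner
  rw [mul_assoc]
  congr 1
  rw [Finset.sum_mul, ← Equiv.sum_comp (Equiv.mulLeft z)
    (fun c => θ c * conj ((ξ : H → ℂ) c) * ((ξ : H → ℂ) z / (ξ : H → ℂ) 1))]
  apply Finset.sum_congr rfl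
  intro c _
  rw [Equiv.coe_mulLeft, irr_central_mul ξ hz c, map_mul, map_div₀, irr_conj ξ z, irr_conj ξ 1,
    inv_one]
  calc θ (z * c) * conj ((ξ : H → ℂ) c)
      = θ (z * c) * conj ((ξ : H → ℂ) c) *
          ((ξ : H → ℂ) z⁻¹ / (ξ : H → ℂ) 1 * ((ξ : H → ℂ) z / (ξ : H → ℂ) 1)) := by
        rw [h1, mul_one]
    _ = _ := by ring

variable {p : ℕ} {M : Ideal AlgInt}

/-- For `ξ` in the block `b` and a class function `F`: `⟨ξ°, F_b⟩ = ⟨ξ°, F⟩`. -/
theorem classInner_pReg_blockPart (hM : IsPModular p M) (ψ₀ ξ : IrrCharacter H)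
    (hξ : ξ ∈ blockOf M (ψ₀ : H → ℂ)) (F : H → ℂ) (hF : IsClassFunction H F) :
    classInner (pRegularPart p (ξ : H → ℂ)) (blockPart (blockOf M (ψ₀ : H → ℂ)) F) =
      classInner (pRegularPart p (ξ : H → ℂ)) F := by
  classical
  letI := fintypeIrr H
  have hMp := isPrime_of_isPModular hM
  rw [blockPart_eq_sum]
  conv_rhs => rw [classFunction_eq_finsum hF, finsum_irr_eq_sum]
  rw [classInner_sum_right, classInner_sum_right]
  apply Finset.sum_subset (Finset.subset_univ _)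
  intro ξ' _ hξ'
  rw [mem_irrFinset] at hξ'
  rw [classInner_smul_right]
  have h1 : regInner p ξ ξ' = 0 := by
    apply regInner_eq_zero hM
    rw [Cfsg.Agent.H80.blockOf_eq_of_mem hMp hξ]
    exact hξ'
  unfold regInner at h1
  rw [h1, mul_zero]

end Central

section Trans

variable {G : Type u} [Group G] [Fintype G] {p : ℕ} {M : Ideal AlgInt}

open scoped Classical in
/-- The central element `∑_{h p-regular} ψ(x h⁻¹) h` of the group algebra of `C`. -/
noncomputable def transElt (p : ℕ) (C : Subgroup G) [Fintype C] (x : G) (ψ : G → ℂ) :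
    MonoidAlgebra ℂ C :=
  ∑ h : C, MonoidAlgebra.single h (if p ∣ orderOf h then (0 : ℂ) else ψ (x * ((h⁻¹ : C) : G)))

open scoped Classical in
theorem coeff_transElt (p : ℕ) (C : Subgroup G) [Fintype C] (x : G) (ψ : G → ℂ) (h : C) :
    (transElt p C x ψ).coeff h =
      if p ∣ orderOf h then (0 : ℂ) else ψ (x * ((h⁻¹ : C) : G)) := by
  unfold transElt
  rw [MonoidAlgebra.coeff_sum, Finsupp.finsetSum_apply]
  simp only [MonoidAlgebra.coeff_single, Finsupp.single_apply]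
  rw [Finset.sum_ite_eq' Finset.univ h]
  simp

theorem transElt_mem (hMp : M.IsPrime) (p : ℕ) (C : Subgroup G) [Fintype C] (x : G)
    (hxC : ∀ c ∈ C, x * c = c * x) (ψ : IrrCharacter G) :
    transElt p C x (ψ : G → ℂ) ∈ cfSubring C (localRing M hMp) := by
  classical
  refine ⟨fun g h => ?_, fun g => ?_⟩
  · rw [coeff_transElt, coeff_transElt]
    have e1 : orderOf (h * g * h⁻¹) = orderOf g :=
      orderOf_injective (MulAut.conj h).toMonoidHom (MulAut.conj h).injective g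
    have e2 : (((h * g * h⁻¹)⁻¹ : C) : G) = (h : G) * ((g⁻¹ : C) : G) * (h : G)⁻¹ := by
      push_cast
      group
    have e3 : x * (((h * g * h⁻¹)⁻¹ : C) : G) = (h : G) * (x * ((g⁻¹ : C) : G)) * (h : G)⁻¹ := by
      rw [e2]
      have := hxC h h.2
      calc x * ((h : G) * ((g⁻¹ : C) : G) * (h : G)⁻¹)
          = (x * (h : G)) * ((g⁻¹ : C) : G) * (h : G)⁻¹ := by group
        _ = ((h : G) * x) * ((g⁻¹ : C) : G) * (h : G)⁻¹ := by rw [this]
        _ = (h : G) * (x * ((g⁻¹ : C) : G)) * (h : G)⁻¹ := by group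
    rw [e1, e3, irr_isClassFunction ψ]
  · rw [coeff_transElt]
    split_ifs
    · exact (localRing M hMp).zero_mem
    · exact memLocalRing_algInt hMp ⟨_, Cfsg.Agent.H81.irr_isIntegral ψ _⟩

end Trans

section Data

variable {G : Type u} [Group G] [Fintype G] {p : ℕ} [Fact p.Prime] {M : Ideal AlgInt}

/-- The numbers `p^d m_{χψ}^{(x^γ, b)}` as integral combinations of powers of `ζ^γ`. -/
theorem exists_contrib_data (hM : IsPModular p M) (x : G) (N : ℕ) (hN : 0 < N)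
    (hxN : x ^ N = 1) (C : Subgroup G) [Fintype C] (hxmem : x ∈ C)
    (hxC : ∀ c ∈ C, x * c = c * x) (ψ₀ : IrrCharacter C) (ζ : ℂ) (hζ : IsPrimitiveRoot ζ N) :
    ∃ (n : IrrCharacter G → IrrCharacter C → ℕ) (e : IrrCharacter C → ℕ)
      (Q : IrrCharacter C → IrrCharacter C → ℤ),
      (∀ ξ ∈ blockOf M (ψ₀ : C → ℂ), ∀ ξ' ∈ blockOf M (ψ₀ : C → ℂ), Q ξ ξ' = Q ξ' ξ) ∧
      (∀ ξ, e ξ < N) ∧
      ∀ (χ ψ : IrrCharacter G) (γ : ℕ),
        (p : ℂ) ^ blockDefect p (blockOf M (ψ₀ : C → ℂ)) *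
            contrib p C (blockOf M (ψ₀ : C → ℂ)) (x ^ γ) χ ψ =
          ∑ ξ ∈ irrFinset (blockOf M (ψ₀ : C → ℂ)),
            ∑ ξ' ∈ irrFinset (blockOf M (ψ₀ : C → ℂ)),
              (n χ ξ : ℂ) * (n ψ ξ' : ℂ) * (Q ξ ξ' : ℂ) * (ζ ^ γ) ^ (e ξ + (N - e ξ')) := by
  classical
  have hxc : (⟨x, hxmem⟩ : C) ∈ Subgroup.center C := by
    rw [Subgroup.mem_center_iff]
    intro c
    apply Subtype.ext
    exact (hxC c c.2).symm
  have hn : ∀ (χ : IrrCharacter G) (ξ : IrrCharacter C), ∃ n : ℕ,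
      classInner (fun c : C => (χ : G → ℂ) c) (ξ : C → ℂ) = n := fun χ ξ =>
    classInner_isCharacter_nat (isCharacter_restrict C (Cfsg.Agent.H80.isCharacter_of_irr χ))
      (Cfsg.Agent.H80.isCharacter_of_irr ξ)
  choose n hn using hn
  haveI : NeZero N := ⟨hN.ne'⟩
  have he : ∀ ξ : IrrCharacter C, ∃ i < N,
      ζ ^ i = (ξ : C → ℂ) ⟨x, hxmem⟩ / (ξ : C → ℂ) 1 := by
    intro ξ
    apply hζ.eq_pow_of_pow_eq_one
    have h1 := irr_central_pow ξ hxc N
    have hx1 : (⟨x, hxmem⟩ : C) ^ N = 1 := Subtype.ext (by simpa using hxN)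
    rw [hx1] at h1
    have h0 := irr_one_ne_zero ξ
    exact mul_right_cancel₀ h0 (by rw [← h1, one_mul])
  choose e he1 he2 using he
  have hQ : ∀ ξ ξ' : IrrCharacter C, ∃ z : ℤ, ξ' ∈ blockOf M (ψ₀ : C → ℂ) →
      (z : ℂ) = (p : ℂ) ^ blockDefect p (blockOf M (ψ₀ : C → ℂ)) * regInner p ξ ξ' := by
    intro ξ ξ'
    by_cases h : ξ' ∈ blockOf M (ψ₀ : C → ℂ)
    · obtain ⟨z, hz⟩ := exists_int_regInner hM ψ₀ ξ ξ' h
      exact ⟨z, fun _ => hz⟩
    · exact ⟨0, fun h' => absurd h' h⟩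
  choose Q hQ using hQ
  have hζ1 : ‖ζ‖ = 1 := hζ.norm'_eq_one hN.ne'
  refine ⟨n, e, Q, ?_, he1, ?_⟩
  · intro ξ hξ ξ' hξ'
    have h1 := hQ ξ ξ' hξ'
    have h2 := hQ ξ' ξ hξ
    apply Int.cast_injective (α := ℂ)
    rw [h2, ← regInner_conj, ← Complex.conj_natCast p, ← map_pow, ← map_mul, ← h1,
      map_intCast]
  · intro χ ψ γ
    unfold contrib secPart
    rw [classInner_regPart, Finset.mul_sum]
    apply Finset.sum_congr rfl
    intro ξ hξ
    rw [Finset.mul_sum]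
    apply Finset.sum_congr rfl
    intro ξ' hξ'
    rw [mem_irrFinset] at hξ hξ'
    have hcc : ∀ (χ' : IrrCharacter G) (ξ₁ : IrrCharacter C),
        classInner (fun c : C => (χ' : G → ℂ) (x ^ γ * (c : G))) (ξ₁ : C → ℂ) =
          (n χ' ξ₁ : ℂ) * (ζ ^ e ξ₁) ^ γ := by
      intro χ' ξ₁
      have h := classInner_translate_central (fun c : C => (χ' : G → ℂ) c)
        (Subgroup.pow_mem _ hxc γ) ξ₁
      have h' : (fun c : C => (χ' : G → ℂ) (x ^ γ * (c : G))) =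
          (fun c : C => (fun c : C => (χ' : G → ℂ) c) ((⟨x, hxmem⟩ : C) ^ γ * c)) := by
        funext c
        simp
      rw [h', h, hn, irr_central_pow ξ₁ hxc γ, he2]
      have h0 := irr_one_ne_zero ξ₁
      field_simp
    rw [hcc χ ξ, hcc ψ ξ', hQ ξ ξ' hξ']
    have hconj : conj ((ζ ^ e ξ') ^ γ) = (ζ ^ γ) ^ (N - e ξ') := by
      have hw0 : (ζ ^ e ξ') ^ γ ≠ 0 := by
        apply pow_ne_zero
        apply pow_ne_zero
        intro h
        rw [h, norm_zero] at hζ1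
        exact zero_ne_one hζ1
      have hw1 : conj ((ζ ^ e ξ') ^ γ) * (ζ ^ e ξ') ^ γ = 1 := by
        rw [Complex.conj_mul', norm_pow, norm_pow, hζ1]
        simp
      have hw2 : (ζ ^ γ) ^ (N - e ξ') * (ζ ^ e ξ') ^ γ = 1 := by
        rw [← pow_mul, ← pow_mul, ← pow_add]
        have h3 : γ * (N - e ξ') + e ξ' * γ = N * γ := by
          have := he1 ξ'
          have h4 : N - e ξ' + e ξ' = N := Nat.sub_add_cancel this.le
          calc γ * (N - e ξ') + e ξ' * γ = γ * (N - e ξ' + e ξ') := by ring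
            _ = N * γ := by rw [h4, mul_comm]
        rw [h3, pow_mul, hζ.pow_eq_one, one_pow]
      exact mul_right_cancel₀ hw0 (hw1.trans hw2.symm)
    rw [map_mul, Complex.conj_natCast, hconj, pow_add]
    have h5 : (ζ ^ e ξ) ^ γ = (ζ ^ γ) ^ e ξ := by rw [← pow_mul, ← pow_mul, mul_comm]
    rw [h5]
    ring

end Data

section UnitProp

variable {G : Type u} [Group G] [Fintype G] {p : ℕ} [Fact p.Prime] {M : Ideal AlgInt}

/-- A block contains a character of height zero. -/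
theorem exists_height_zero_in_block (hMp : M.IsPrime) {C : Type u} [Group C] [Finite C]
    (ψ₀ : IrrCharacter C) :
    ∃ ξ₀ ∈ blockOf M (ψ₀ : C → ℂ), (charDegree (ξ₀ : C → ℂ)).factorization p +
      blockDefect p (blockOf M (ψ₀ : C → ℂ)) = (Nat.card C).factorization p := by
  have hne : ((fun ξ : IrrCharacter C => (charDegree (ξ : C → ℂ)).factorization p) ''
      blockOf M (ψ₀ : C → ℂ)).Nonempty :=
    ⟨_, ψ₀, Cfsg.Agent.H80.mem_blockOf_self hMp ψ₀, rfl⟩
  obtain ⟨ξ₀, hξ₀, h1⟩ := Nat.sInf_mem hne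
  refine ⟨ξ₀, hξ₀, ?_⟩
  have h2 : (charDegree (ξ₀ : C → ℂ)).factorization p ≤ (Nat.card C).factorization p := by
    have hdv := Cfsg.Agent.H81.irr_charDegree_dvd ξ₀
    have hpos := (Cfsg.Agent.H81.irr_charDegree ξ₀).2
    exact (Nat.factorization_le_iff_dvd hpos.ne' Nat.card_pos.ne').mpr hdv p
  have h3 : blockDefect p (blockOf M (ψ₀ : C → ℂ)) =
      (Nat.card C).factorization p - (charDegree (ξ₀ : C → ℂ)).factorization p := by
    unfold blockDefect
    rw [← h1]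
  omega

/-- A quotient of natural numbers with equal `p`-valuations is a unit of the local ring. -/
theorem not_memLocalIdeal_natCast_div (hM : IsPModular p M) {a n : ℕ} (ha : a ≠ 0) (hn : n ≠ 0)
    (h : n.factorization p = a.factorization p) : ¬ MemLocalIdeal M ((a : ℂ) / (n : ℂ)) := by
  have hMp := isPrime_of_isPModular hM
  intro hcon
  have h1 := memLocalRing_natCast_div hM (a := n) (n := a) ha h.symm.le
  have h2 := memLocalIdeal_mul_right hMp hcon h1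
  have ha0 : (a : ℂ) ≠ 0 := by exact_mod_cast ha
  have hn0 : (n : ℂ) ≠ 0 := by exact_mod_cast hn
  have h3 : (a : ℂ) / (n : ℂ) * ((n : ℂ) / (a : ℂ)) = 1 := by field_simp
  rw [h3] at h2
  exact not_memLocalIdeal_one hMp h2

theorem omega_transElt (C : Subgroup G) [Fintype C] (x : G) (ψ : G → ℂ) (ξ : C → ℂ) :
    omega ξ (transElt p C x ψ) =
      (∑ h : C, (if p ∣ orderOf h then (0 : ℂ) else ψ (x * ((h⁻¹ : C) : G))) * ξ h) / ξ 1 := by
  unfold omega
  congr 1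
  apply Finset.sum_congr rfl
  intro h _
  rw [coeff_transElt]

/-- **Height zero characters have unit contributions**: if `b` induces `B` and `χ, ψ ∈ B` have
height zero, then `p^d m_{χψ}^{(x,b)}` (`d` the defect of `b`) is not in the local ideal. -/
theorem not_memLocalIdeal_contrib (hM : IsPModular p M) (x : G) {k : ℕ} (hx : x ^ p ^ k = 1)
    (C : Subgroup G) [Fintype C] (hxmem : x ∈ C) (hxC : ∀ c ∈ C, x * c = c * x)
    (ψ₀ : IrrCharacter C) (B : Set (IrrCharacter G))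
    (hind : IsInducedBlock M C (blockOf M (ψ₀ : C → ℂ)) B)
    (χ ψ : IrrCharacter G) (hχ : χ ∈ B) (hψ : ψ ∈ B)
    (h0χ : blockHeight p B (χ : G → ℂ) = 0) (h0ψ : blockHeight p B (ψ : G → ℂ) = 0) :
    ¬ MemLocalIdeal M ((p : ℂ) ^ blockDefect p (blockOf M (ψ₀ : C → ℂ)) *
      contrib p C (blockOf M (ψ₀ : C → ℂ)) x χ ψ) := by
  classical
  letI := fintypeIrr C
  have hp : p.Prime := hM.1
  have hMp := isPrime_of_isPModular hM
  have hp0 : (p : ℂ) ≠ 0 := by exact_mod_cast hp.ne_zero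
  have hC0 : (Nat.card C : ℂ) ≠ 0 := by exact_mod_cast (Nat.card_pos (α := C)).ne'
  obtain ⟨ξ₀, hξ₀, hξ₀deg⟩ := exists_height_zero_in_block (p := p) hMp ψ₀
  obtain ⟨d, hd⟩ : ∃ d : ℕ, d = blockDefect p (blockOf M (ψ₀ : C → ℂ)) := ⟨_, rfl⟩
  rw [← hd] at hξ₀deg ⊢
  have hxc : (⟨x, hxmem⟩ : C) ∈ Subgroup.center C := by
    rw [Subgroup.mem_center_iff]
    intro c
    apply Subtype.ext
    exact (hxC c c.2).symm
  have hxk : (⟨x, hxmem⟩ : C) ^ p ^ k = 1 := Subtype.ext (by simpa using hx)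
  have hn' : ∀ ξ : IrrCharacter C, ∃ n : ℕ,
      classInner (fun c : C => (χ : G → ℂ) c) (ξ : C → ℂ) = n := fun ξ =>
    classInner_isCharacter_nat (isCharacter_restrict C (Cfsg.Agent.H80.isCharacter_of_irr χ))
      (Cfsg.Agent.H80.isCharacter_of_irr ξ)
  choose n hn using hn'
  obtain ⟨ε, hε⟩ : ∃ ε : IrrCharacter C → ℂ,
      ∀ ξ, ε ξ = (ξ : C → ℂ) ⟨x, hxmem⟩ / (ξ : C → ℂ) 1 := ⟨_, fun _ => rfl⟩
  obtain ⟨r, hr⟩ : ∃ r : IrrCharacter C → ℂ, ∀ ξ,
      r ξ = ((p ^ d * charDegree (ξ : C → ℂ) : ℕ) : ℂ) / (Nat.card C : ℂ) := ⟨_, fun _ => rfl⟩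
  obtain ⟨A, hA⟩ : ∃ A : IrrCharacter C → ℂ, ∀ ξ,
      A ξ = omega (ξ : C → ℂ) (transElt p C x⁻¹ (ψ : G → ℂ)) := ⟨_, fun _ => rfl⟩
  have hxC' : ∀ c ∈ C, x⁻¹ * c = c * x⁻¹ := by
    intro c hc
    have := hxC c hc
    calc x⁻¹ * c = x⁻¹ * (c * x) * x⁻¹ := by group
      _ = x⁻¹ * (x * c) * x⁻¹ := by rw [this]
      _ = c * x⁻¹ := by group
  have hx' : x⁻¹ ^ p ^ k = 1 := by rw [inv_pow, hx, inv_one]
  have hcc : ∀ ξ : IrrCharacter C,
      classInner (fun c : C => (χ : G → ℂ) (x * (c : G))) (ξ : C → ℂ) = (n ξ : ℂ) * ε ξ := by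
    intro ξ
    have h := classInner_translate_central (fun c : C => (χ : G → ℂ) c) hxc ξ
    rw [hn] at h
    rw [hε]
    exact h
  have hεm : ∀ ξ, MemLocalIdeal M (ε ξ - 1) := by
    intro ξ
    rw [hε]
    apply memLocalIdeal_sub_one_of_pow_eq_one hM (k := k)
    have h1 := irr_central_pow ξ hxc (p ^ k)
    rw [hxk] at h1
    exact mul_right_cancel₀ (irr_one_ne_zero ξ) (by rw [← h1, one_mul])
  have hr1 : ∀ ξ : IrrCharacter C,
      r ξ = (p : ℂ) ^ d * (ξ : C → ℂ) 1 / (Nat.card C : ℂ) := by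
    intro ξ
    rw [hr, (Cfsg.Agent.H81.irr_charDegree ξ).1]
    push_cast
    rfl
  have hrR : ∀ ξ ∈ blockOf M (ψ₀ : C → ℂ), MemLocalRing M (r ξ) := by
    intro ξ hξ
    rw [hr]
    apply memLocalRing_natCast_div hM Nat.card_pos.ne'
    rw [Nat.factorization_mul (pow_ne_zero _ hp.ne_zero)
      (Cfsg.Agent.H81.irr_charDegree ξ).2.ne', Finsupp.add_apply,
      Nat.Prime.factorization_pow hp, Finsupp.single_eq_same]
    have := factorization_card_le_add_blockDefect (p := p) (blockOf M (ψ₀ : C → ℂ)) ξ hξ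
    omega
  have hr0 : ¬ MemLocalIdeal M (r ξ₀) := by
    rw [hr]
    apply not_memLocalIdeal_natCast_div hM (mul_ne_zero (pow_ne_zero _ hp.ne_zero)
      (Cfsg.Agent.H81.irr_charDegree ξ₀).2.ne') Nat.card_pos.ne'
    rw [Nat.factorization_mul (pow_ne_zero _ hp.ne_zero)
      (Cfsg.Agent.H81.irr_charDegree ξ₀).2.ne', Finsupp.add_apply,
      Nat.Prime.factorization_pow hp, Finsupp.single_eq_same]
    omega
  have hAR : ∀ ξ, MemLocalRing M (A ξ) := by
    intro ξ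
    rw [hA]
    exact omega_memLocalRing hMp ξ (transElt_mem hMp p C x⁻¹ hxC' ψ)
  have hAd : ∀ ξ ∈ blockOf M (ψ₀ : C → ℂ), MemLocalIdeal M (A ξ - A ξ₀) := by
    intro ξ hξ
    rw [hA, hA]
    have hsb : ξ₀ ∈ blockOf M (ξ : C → ℂ) := by
      rw [Cfsg.Agent.H80.blockOf_eq_of_mem hMp hξ]
      exact hξ₀
    exact omega_sub_omega_memLocalIdeal hMp _ _ (irr_isClassFunction ξ)
      (irr_isClassFunction ξ₀) hsb (transElt_mem hMp p C x⁻¹ hxC' ψ)
  have hA0 : ¬ MemLocalIdeal M (A ξ₀) := by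
    have h := not_memLocalIdeal_translate_pairing hM x⁻¹ hx' C hxC'
      (blockOf M (ψ₀ : C → ℂ)) B hind ψ hψ h0ψ ξ₀ hξ₀
    rw [hA, omega_transElt]
    exact h
  have hE2 : ∀ ξ : IrrCharacter C,
      classInner (pRegularPart p (ξ : C → ℂ)) (fun c : C => (ψ : G → ℂ) (x * (c : G))) =
        (ξ : C → ℂ) 1 / (Nat.card C : ℂ) * A ξ := by
    intro ξ
    rw [hA]
    unfold classInner omega
    have h0 := irr_one_ne_zero ξ
    have hsum : ∑ g : C, pRegularPart p (ξ : C → ℂ) g * conj ((ψ : G → ℂ) (x * (g : G))) =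
        ∑ g : C, (transElt p C x⁻¹ (ψ : G → ℂ)).coeff g * (ξ : C → ℂ) g := by
      apply Finset.sum_congr rfl
      intro g _
      rw [coeff_transElt, Cfsg.Agent.H81.pRegularPart_apply, irr_conj ψ]
      have hinv : (x * (g : G))⁻¹ = x⁻¹ * ((g⁻¹ : C) : G) := by
        rw [hxC g g.2, mul_inv_rev, Subgroup.coe_inv]
      rw [hinv]
      split_ifs
      · ring
      · ring
    rw [hsum]
    field_simp
  have hE1 : contrib p C (blockOf M (ψ₀ : C → ℂ)) x χ ψ =
      ∑ ξ ∈ irrFinset (blockOf M (ψ₀ : C → ℂ)),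
        (n ξ : ℂ) * ε ξ * ((ξ : C → ℂ) 1 / (Nat.card C : ℂ) * A ξ) := by
    unfold contrib secPart
    rw [classInner_pReg_right, pRegularPart_blockPart, classInner_sum_left]
    apply Finset.sum_congr rfl
    intro ξ hξ
    rw [mem_irrFinset] at hξ
    rw [classInner_smul_left, hcc, classInner_pReg_blockPart hM ψ₀ ξ hξ _
      (isClassFunction_translate x C hxC (irr_isClassFunction ψ)), hE2]
  have hE3 : (p : ℂ) ^ d * contrib p C (blockOf M (ψ₀ : C → ℂ)) x χ ψ =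
      ∑ ξ ∈ irrFinset (blockOf M (ψ₀ : C → ℂ)), (n ξ : ℂ) * ε ξ * (r ξ * A ξ) := by
    rw [hE1, Finset.mul_sum]
    apply Finset.sum_congr rfl
    intro ξ _
    rw [hr1]
    field_simp
  have hrinv : MemLocalRing M (r ξ₀)⁻¹ := memLocalRing_inv (hrR ξ₀ hξ₀) hr0
  have hS : ¬ MemLocalIdeal M
      (∑ ξ ∈ irrFinset (blockOf M (ψ₀ : C → ℂ)), (n ξ : ℂ) * r ξ) := by
    intro hScon
    have hU := (inner_regular_induced hM C (blockOf M (ψ₀ : C → ℂ)) B hind χ ξ₀ hξ₀).2 hχ h0χ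
    apply hU
    have hm : ∀ h : C, (χ : G → ℂ) h =
        ∑ ξ : IrrCharacter C, (n ξ : ℂ) * (ξ : C → ℂ) h := by
      intro h
      have hcf : IsClassFunction C (fun c : C => (χ : G → ℂ) c) :=
        isClassFunction_of_isCharacter
          (isCharacter_restrict C (Cfsg.Agent.H80.isCharacter_of_irr χ))
      have h1 := congrFun (classFunction_eq_finsum hcf) h
      rw [finsum_irr_eq_sum, Finset.sum_apply] at h1
      rw [h1]
      apply Finset.sum_congr rfl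
      intro ξ _
      rw [Pi.smul_apply, smul_eq_mul, hn]
    rw [truncTo_regElt_eq_sum C (χ : G → ℂ) (fun ξ => (n ξ : ℂ)) hm, omega_sum]
    simp only [omega_smul]
    obtain ⟨u₀, hu₀⟩ : ∃ u₀ : ℂ, u₀ = omega (ξ₀ : C → ℂ) (regElt p (ξ₀ : C → ℂ)) := ⟨_, rfl⟩
    have hu₀R : MemLocalRing M u₀ := by
      rw [hu₀]
      exact omega_memLocalRing hMp ξ₀ (regElt_mem hMp p ξ₀)
    have hterm : ∀ ξ : IrrCharacter C,
        (n ξ : ℂ) * omega (ξ₀ : C → ℂ) (regElt p (ξ : C → ℂ)) =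
          if ξ ∈ blockOf M (ψ₀ : C → ℂ) then
            (n ξ : ℂ) * (omega (ξ : C → ℂ) (regElt p (ξ₀ : C → ℂ)) * (r ξ * (r ξ₀)⁻¹))
          else 0 := by
      intro ξ
      split_ifs with hξ
      · have hs := omega_regElt_symm (p := p) ξ ξ₀
        have h01 := irr_one_ne_zero ξ₀
        have hq : r ξ * (r ξ₀)⁻¹ = (ξ : C → ℂ) 1 / (ξ₀ : C → ℂ) 1 := by
          rw [hr1, hr1]
          field_simp
        have h2 : omega (ξ₀ : C → ℂ) (regElt p (ξ : C → ℂ)) =
            omega (ξ : C → ℂ) (regElt p (ξ₀ : C → ℂ)) * ((ξ : C → ℂ) 1 / (ξ₀ : C → ℂ) 1) := by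
          rw [← mul_div_assoc, eq_div_iff h01]
          exact hs
        rw [hq, h2]
      · have h1 : classInner (pRegularPart p (ξ : C → ℂ)) (ξ₀ : C → ℂ) = 0 := by
          apply Cfsg.Agent.H81.wbo_two hM ξ ξ₀
          intro hmem
          apply hξ
          have h2 : ξ ∈ blockOf M (ξ₀ : C → ℂ) := Cfsg.Agent.H80.sameBlock_symm hmem
          rwa [Cfsg.Agent.H80.blockOf_eq_of_mem hMp hξ₀] at h2
        rw [omega_regElt_eq, h1, mul_zero, zero_div, mul_zero]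
    rw [Finset.sum_congr rfl (fun ξ _ => hterm ξ), ← finsum_mem_eq_sum_ite,
      finsum_mem_eq_sum_irrFinset]
    have hdiff : MemLocalIdeal M (∑ ξ ∈ irrFinset (blockOf M (ψ₀ : C → ℂ)),
        (n ξ : ℂ) * (omega (ξ : C → ℂ) (regElt p (ξ₀ : C → ℂ)) * (r ξ * (r ξ₀)⁻¹)) -
        u₀ * (r ξ₀)⁻¹ * ∑ ξ ∈ irrFinset (blockOf M (ψ₀ : C → ℂ)), (n ξ : ℂ) * r ξ) := by
      rw [Finset.mul_sum, ← Finset.sum_sub_distrib]
      apply memLocalIdeal_sum hMp
      intro ξ hξ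
      rw [mem_irrFinset] at hξ
      have hsb : ξ₀ ∈ blockOf M (ξ : C → ℂ) := by
        rw [Cfsg.Agent.H80.blockOf_eq_of_mem hMp hξ]
        exact hξ₀
      have h1 : MemLocalIdeal M (omega (ξ : C → ℂ) (regElt p (ξ₀ : C → ℂ)) - u₀) := by
        rw [hu₀]
        exact omega_sub_omega_memLocalIdeal hMp _ _ (irr_isClassFunction ξ)
          (irr_isClassFunction ξ₀) hsb (regElt_mem hMp p ξ₀)
      have h2 : MemLocalRing M ((n ξ : ℂ) * (r ξ * (r ξ₀)⁻¹)) :=
        memLocalRing_mul hMp (memLocalRing_natCast hMp _)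
          (memLocalRing_mul hMp (hrR ξ hξ) hrinv)
      have h3 := memLocalIdeal_mul_left hMp h2 h1
      convert h3 using 1
      ring
    have h4 : MemLocalIdeal M (u₀ * (r ξ₀)⁻¹ *
        ∑ ξ ∈ irrFinset (blockOf M (ψ₀ : C → ℂ)), (n ξ : ℂ) * r ξ) :=
      memLocalIdeal_mul_left hMp (memLocalRing_mul hMp hu₀R hrinv) hScon
    have h5 := memLocalIdeal_add hMp hdiff h4
    rwa [sub_add_cancel] at h5
  intro hcon
  rw [hE3] at hcon
  have hfin : MemLocalIdeal M (∑ ξ ∈ irrFinset (blockOf M (ψ₀ : C → ℂ)),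
      (n ξ : ℂ) * ε ξ * (r ξ * A ξ) -
      A ξ₀ * ∑ ξ ∈ irrFinset (blockOf M (ψ₀ : C → ℂ)), (n ξ : ℂ) * r ξ) := by
    rw [Finset.mul_sum, ← Finset.sum_sub_distrib]
    apply memLocalIdeal_sum hMp
    intro ξ hξ
    rw [mem_irrFinset] at hξ
    have h1 : MemLocalIdeal M (ε ξ * A ξ - A ξ₀) := by
      have := memLocalIdeal_add hMp (memLocalIdeal_mul_right hMp (hεm ξ) (hAR ξ)) (hAd ξ hξ)
      convert this using 1
      ring
    have h2 : MemLocalRing M ((n ξ : ℂ) * r ξ) :=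
      memLocalRing_mul hMp (memLocalRing_natCast hMp _) (hrR ξ hξ)
    have h3 := memLocalIdeal_mul_left hMp h2 h1
    convert h3 using 1
    ring
  have h6 := memLocalIdeal_sub hMp hcon hfin
  rw [sub_sub_cancel] at h6
  have hSR : MemLocalRing M (∑ ξ ∈ irrFinset (blockOf M (ψ₀ : C → ℂ)), (n ξ : ℂ) * r ξ) :=
    memLocalRing_sum hMp _ _ (fun ξ hξ =>
      memLocalRing_mul hMp (memLocalRing_natCast hMp _) (hrR ξ (mem_irrFinset.mp hξ)))
  exact not_memLocalIdeal_mul hMp (hAR ξ₀) hSR hA0 hS h6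

end UnitProp

end Cfsg.Agent.H84
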