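/-
helper84 library: the bound `k₀(B)² ≤ p^{2q} l(b)` for a subsection `(x, b)` with `b` of
defect `q` inducing `B` (Héthelyi–Külshammer–Sambale), and the data needed for refinements.

* `exists_zpow_eq_of_coprime`, `subsection_pow`: the subsection `(x^γ, b)` for `γ` prime to the
  order of `x`.
* `exists_contrib_poly`: integer polynomials `f χ ψ` with `f χ ψ (ζ^γ) = p^d m_{χψ}^{(x^γ,b)}`.
* `card_sq_le_of_height_zero`: the bound.
-/
import Mathlib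
import Cfsg.Prelude.Def_Blocks
import Cfsg.Prelude.Def_BlockRank
import Cfsg.Agent.H84.Contrib3
import Cfsg.Agent.H79.Cyclo

set_option autoImplicit false
set_option linter.style.haveILetI false
set_option linter.unusedSectionVars false
set_option linter.unusedVariables false

namespace Cfsg.Agent.H84

open Cfsg Cfsg.Agent.H4 Cfsg.Agent.H20
open scoped ComplexConjugate

universe u

section Bound

variable {G : Type u} [Group G] [Fintype G] {p : ℕ} [Fact p.Prime] {M : Ideal AlgInt}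

omit [Fact p.Prime] in
/-- `x` is a power of `x^γ` when `γ` is prime to the order of `x`. -/
theorem exists_zpow_eq_of_coprime (x : G) (γ : ℕ) (h : γ.Coprime (orderOf x)) :
    ∃ m : ℤ, (x ^ γ) ^ m = x := by
  have h1 : orderOf (x ^ γ) = orderOf x := Nat.Coprime.orderOf_pow h.symm
  have h2 : Subgroup.zpowers (x ^ γ) ≤ Subgroup.zpowers x :=
    Subgroup.zpowers_le.mpr (Subgroup.pow_mem _ (Subgroup.mem_zpowers x) γ)
  have h3 : Subgroup.zpowers (x ^ γ) = Subgroup.zpowers x := by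
    apply Subgroup.eq_of_le_of_card_ge h2
    rw [Nat.card_zpowers, Nat.card_zpowers, h1]
  have h4 : x ∈ Subgroup.zpowers (x ^ γ) := by
    rw [h3]
    exact Subgroup.mem_zpowers x
  exact Subgroup.mem_zpowers_iff.mp h4

omit [Fact p.Prime] in
/-- The element `x^γ`, `γ` prime to the order of the `p`-element `x`, has the same centralizer
and is again a `p`-element. -/
theorem subsection_pow (x : G) (hx : ∃ k : ℕ, orderOf x = p ^ k) (C : Subgroup G)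
    (hxC : ∀ c ∈ C, x * c = c * x) (hCx : ∀ g : G, g * x = x * g → g ∈ C)
    (γ : ℕ) (hγ : γ.Coprime (orderOf x)) :
    (∃ k : ℕ, orderOf (x ^ γ) = p ^ k) ∧ (∀ c ∈ C, x ^ γ * c = c * x ^ γ) ∧
      (∀ g : G, g * x ^ γ = x ^ γ * g → g ∈ C) := by
  refine ⟨?_, ?_, ?_⟩
  · rw [Nat.Coprime.orderOf_pow hγ.symm]
    exact hx
  · intro c hc
    have h1 : Commute x c := hxC c hc
    exact h1.pow_left γ
  · intro g hg
    obtain ⟨m, hm⟩ := exists_zpow_eq_of_coprime x γ hγ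
    apply hCx
    have h1 : Commute g (x ^ γ) := hg
    have h2 := h1.zpow_right m
    rw [hm] at h2
    exact h2

/-- Integer polynomials whose values at the powers of a primitive root of unity are the
normalized contribution numbers of the subsections `(x^γ, b)`. -/
theorem exists_contrib_poly (hM : IsPModular p M) (x : G) (N : ℕ) (hN : 0 < N)
    (hxN : x ^ N = 1) (C : Subgroup G) [Fintype C] (hxmem : x ∈ C)
    (hxC : ∀ c ∈ C, x * c = c * x) (ψ₀ : IrrCharacter C) (ζ : ℂ) (hζ : IsPrimitiveRoot ζ N) :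
    ∃ f : IrrCharacter G → IrrCharacter G → Polynomial ℤ, ∀ (χ ψ : IrrCharacter G) (γ : ℕ),
      Polynomial.aeval (ζ ^ γ) (f χ ψ) =
        (p : ℂ) ^ blockDefect p (blockOf M (ψ₀ : C → ℂ)) *
          contrib p C (blockOf M (ψ₀ : C → ℂ)) (x ^ γ) χ ψ := by
  obtain ⟨n, e, Q, -, -, hdata⟩ := exists_contrib_data hM x N hN hxN C hxmem hxC ψ₀ ζ hζ
  refine ⟨fun χ ψ => ∑ ξ ∈ irrFinset (blockOf M (ψ₀ : C → ℂ)),
      ∑ ξ' ∈ irrFinset (blockOf M (ψ₀ : C → ℂ)),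
        Polynomial.C ((n χ ξ : ℤ) * (n ψ ξ' : ℤ) * Q ξ ξ') *
          Polynomial.X ^ (e ξ + (N - e ξ')), ?_⟩
  intro χ ψ γ
  rw [hdata, map_sum]
  apply Finset.sum_congr rfl
  intro ξ _
  rw [map_sum]
  apply Finset.sum_congr rfl
  intro ξ' _
  rw [map_mul, Polynomial.aeval_C, map_pow, Polynomial.aeval_X, eq_intCast]
  push_cast
  rfl

/-- **Héthelyi–Külshammer–Sambale**: if `(x, b)` is a subsection of `B` (`b` a block of
`C = C_G(x)` inducing `B`), then the number of height zero characters of `B` is at most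
`p^q √l(b)`, `q` the defect of `b`. -/
theorem card_sq_le_of_height_zero (hM : IsPModular p M) (h2 : SecondMain p M G) (x : G)
    (hx : ∃ k : ℕ, orderOf x = p ^ k) (C : Subgroup G) [Fintype C]
    (hxC : ∀ c ∈ C, x * c = c * x) (hCx : ∀ g : G, g * x = x * g → g ∈ C)
    (ψ₀ : IrrCharacter C) (B : Set (IrrCharacter G))
    (hind : IsInducedBlock M C (blockOf M (ψ₀ : C → ℂ)) B)
    (S : Finset (IrrCharacter G))
    (hS : ∀ χ ∈ S, χ ∈ B ∧ blockHeight p B (χ : G → ℂ) = 0) :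
    S.card ^ 2 ≤ p ^ (2 * blockDefect p (blockOf M (ψ₀ : C → ℂ))) *
      blockRank p (blockOf M (ψ₀ : C → ℂ)) := by
  classical
  have hp : p.Prime := hM.1
  have hMp := isPrime_of_isPModular hM
  obtain ⟨N, hNdef⟩ : ∃ N : ℕ, N = orderOf x := ⟨_, rfl⟩
  have hN : 0 < N := by rw [hNdef]; exact orderOf_pos x
  have hxN : x ^ N = 1 := by rw [hNdef]; exact pow_orderOf_eq_one x
  have hxmem : x ∈ C := hCx x rfl
  obtain ⟨ζ, hζ⟩ : ∃ ζ : ℂ, IsPrimitiveRoot ζ N := ⟨_, Complex.isPrimitiveRoot_exp N hN.ne'⟩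
  obtain ⟨f, hf⟩ := exists_contrib_poly hM x N hN hxN C hxmem hxC ψ₀ ζ hζ
  obtain ⟨d, hd⟩ : ∃ d : ℕ, d = blockDefect p (blockOf M (ψ₀ : C → ℂ)) := ⟨_, rfl⟩
  rw [← hd] at hf ⊢
  obtain ⟨I, hI⟩ : ∃ I : Finset ℕ, I = (Finset.range N).filter (fun i => i.Coprime N) :=
    ⟨_, rfl⟩
  have hIpos : 0 < I.card := by
    rw [Finset.card_pos]
    by_cases h1 : N = 1
    · refine ⟨0, ?_⟩
      rw [hI, Finset.mem_filter, Finset.mem_range, h1]
      exact ⟨Nat.one_pos, Nat.coprime_one_right 0⟩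
    · refine ⟨1, ?_⟩
      rw [hI, Finset.mem_filter, Finset.mem_range]
      exact ⟨by omega, Nat.coprime_one_left N⟩
  have hB : IsPBlock M B := hind.2.1
  have hSB : S ⊆ irrFinset B := by
    intro χ hχ
    rw [mem_irrFinset]
    exact (hS χ hχ).1
  obtain ⟨k, hk⟩ := hx
  have hxk : x ^ p ^ k = 1 := by rw [← hk]; exact pow_orderOf_eq_one x
  -- lower bound for each pair
  have hlow : ∀ χ ∈ S, ∀ ψ ∈ S, (I.card : ℝ) ≤
      ∑ γ ∈ I, ‖Polynomial.aeval (ζ ^ γ) (f χ ψ)‖ ^ 2 := by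
    intro χ hχ ψ hψ
    rw [hI]
    apply Cfsg.Agent.H79.card_le_sum_sq_norm_aeval_pow hN hζ
    have h1 := hf χ ψ 1
    rw [pow_one, pow_one] at h1
    rw [h1]
    intro h0
    have h3 := not_memLocalIdeal_contrib hM x hxk C hxmem hxC ψ₀ B hind χ ψ (hS χ hχ).1
      (hS ψ hψ).1 (hS χ hχ).2 (hS ψ hψ).2
    rw [← hd, h0] at h3
    exact h3 (memLocalIdeal_zero hMp)
  -- upper bound for each exponent
  have hup : ∀ γ ∈ I, ∑ χ ∈ S, ∑ ψ ∈ S, ‖Polynomial.aeval (ζ ^ γ) (f χ ψ)‖ ^ 2 ≤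
      (p : ℝ) ^ (2 * d) * (blockRank p (blockOf M (ψ₀ : C → ℂ)) : ℝ) := by
    intro γ hγ
    rw [hI, Finset.mem_filter] at hγ
    have hγ' : γ.Coprime (orderOf x) := by rw [← hNdef]; exact hγ.2
    obtain ⟨hxγ, hxCγ, hCxγ⟩ := subsection_pow x ⟨k, hk⟩ C hxC hCx γ hγ'
    have hCγ : C = Subgroup.centralizer ({x ^ γ} : Set G) := by
      ext g
      rw [Subgroup.mem_centralizer_singleton_iff]
      exact ⟨fun hg => (hxCγ g hg).symm, fun hg => hCxγ g hg⟩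
    have h0 : ∀ χ : IrrCharacter G, χ ∉ B → ∀ y : C, ¬ p ∣ orderOf y →
        blockPart (blockOf M (ψ₀ : C → ℂ)) (fun c : C => (χ : G → ℂ) (x ^ γ * (c : G))) y = 0 :=
      fun χ hχ y hy =>
        (secondMain_both' hM h2 (x ^ γ) hxγ C hCγ B hB χ _ ⟨ψ₀, rfl⟩).2 hχ hind y hy
    have htot := sum_sum_norm_sq_contrib hM (x ^ γ) hxγ C hxCγ hCxγ B ψ₀ h0
    have h1 : ∀ χ ψ : IrrCharacter G, ‖Polynomial.aeval (ζ ^ γ) (f χ ψ)‖ ^ 2 =
        (p : ℝ) ^ (2 * d) * ‖contrib p C (blockOf M (ψ₀ : C → ℂ)) (x ^ γ) χ ψ‖ ^ 2 := by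
      intro χ ψ
      rw [hf, norm_mul, mul_pow, norm_pow, Complex.norm_natCast, ← pow_mul, mul_comm d 2]
    simp only [h1]
    simp only [← Finset.mul_sum]
    apply mul_le_mul_of_nonneg_left _ (by positivity)
    rw [← htot]
    calc ∑ χ ∈ S, ∑ ψ ∈ S, ‖contrib p C (blockOf M (ψ₀ : C → ℂ)) (x ^ γ) χ ψ‖ ^ 2
        ≤ ∑ χ ∈ S, ∑ ψ ∈ irrFinset B,
            ‖contrib p C (blockOf M (ψ₀ : C → ℂ)) (x ^ γ) χ ψ‖ ^ 2 := by
          apply Finset.sum_le_sum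
          intro χ _
          exact Finset.sum_le_sum_of_subset_of_nonneg hSB (fun _ _ _ => by positivity)
      _ ≤ ∑ χ ∈ irrFinset B, ∑ ψ ∈ irrFinset B,
            ‖contrib p C (blockOf M (ψ₀ : C → ℂ)) (x ^ γ) χ ψ‖ ^ 2 :=
          Finset.sum_le_sum_of_subset_of_nonneg hSB
            (fun _ _ _ => Finset.sum_nonneg (fun _ _ => by positivity))
  -- combine
  have hmain : ((S.card : ℝ) ^ 2) * (I.card : ℝ) ≤
      (I.card : ℝ) * ((p : ℝ) ^ (2 * d) * (blockRank p (blockOf M (ψ₀ : C → ℂ)) : ℝ)) := by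
    calc ((S.card : ℝ) ^ 2) * (I.card : ℝ)
        = ∑ χ ∈ S, ∑ ψ ∈ S, (I.card : ℝ) := by
          rw [Finset.sum_const, Finset.sum_const, nsmul_eq_mul, nsmul_eq_mul]
          ring
      _ ≤ ∑ χ ∈ S, ∑ ψ ∈ S, ∑ γ ∈ I, ‖Polynomial.aeval (ζ ^ γ) (f χ ψ)‖ ^ 2 :=
          Finset.sum_le_sum (fun χ hχ => Finset.sum_le_sum (fun ψ hψ => hlow χ hχ ψ hψ))
      _ = ∑ χ ∈ S, ∑ γ ∈ I, ∑ ψ ∈ S, ‖Polynomial.aeval (ζ ^ γ) (f χ ψ)‖ ^ 2 := by
          apply Finset.sum_congr rfl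
          intro χ _
          rw [Finset.sum_comm]
      _ = ∑ γ ∈ I, ∑ χ ∈ S, ∑ ψ ∈ S, ‖Polynomial.aeval (ζ ^ γ) (f χ ψ)‖ ^ 2 :=
          Finset.sum_comm
      _ ≤ ∑ γ ∈ I, (p : ℝ) ^ (2 * d) * (blockRank p (blockOf M (ψ₀ : C → ℂ)) : ℝ) :=
          Finset.sum_le_sum hup
      _ = _ := by rw [Finset.sum_const, nsmul_eq_mul]
  have hIpos' : (0 : ℝ) < (I.card : ℝ) := by exact_mod_cast hIpos
  have hfin : ((S.card : ℝ) ^ 2) ≤
      (p : ℝ) ^ (2 * d) * (blockRank p (blockOf M (ψ₀ : C → ℂ)) : ℝ) := by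
    rw [mul_comm ((S.card : ℝ) ^ 2)] at hmain
    exact le_of_mul_le_mul_left hmain hIpos'
  exact_mod_cast hfin

end Bound

end Cfsg.Agent.H84
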