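import Cfsg.Agent.H26.AIC.L1

set_option autoImplicit false
set_option linter.style.haveILetI false
set_option linter.unusedSectionVars false
set_option linter.unusedVariables false

/-! S2202 piece J (helper26's project, layer 2): the set `JSet P t` of elements of `NT P`
inverted by an involution `t ∉ NT P` is a transversal of `MT P` in `NT P`. -/

namespace Cfsg.Agent.H84.AIC

open Subgroup Cfsg.Agent.H26 Cfsg.Agent.H26.AIC

variable {G : Type*} [Group G] [Finite G]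

/-- the elements of `NT P` inverted by `t` (a verbatim copy of `Cfsg.Agent.H26.AIC.JSet`, which
lives in the layer-2 skeleton) -/
def JSet (P : Sylow 2 G) (t : G) : Set G := {d | d ∈ NT P ∧ t * d * t⁻¹ = d⁻¹}

theorem J_sub_Dg (P : Sylow 2 G) {t d : G} (ht : orderOf t = 2) (hd : d ∈ JSet P t) :
    d ∈ Dg (NT P) t := by
  rw [mem_Dg]
  refine ⟨hd.1, ?_⟩
  have htinv : t⁻¹ = t := inv_inv_eq ht
  have h1 : t⁻¹ * d * t = d⁻¹ := by
    have h2 : t * d * t⁻¹ = d⁻¹ := hd.2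
    rw [htinv] at h2 ⊢
    exact h2
  rw [h1]
  exact (NT P).inv_mem hd.1

theorem Dg_odd (hH : Hyp G) (P : Sylow 2 G) (hP : Good P) {g : G} (hg : g ∉ NT P) :
    Odd (Nat.card (Dg (NT P) g)) :=
  (NT_se hH P hP).2.2 g hg

/-- `t * d` is an involution for `d ∈ JSet P t`, `t ∉ NT P` -/
theorem J_mul_inv (P : Sylow 2 G) {t d : G} (ht : orderOf t = 2) (htN : t ∉ NT P)
    (hd : d ∈ JSet P t) : orderOf (t * d) = 2 := by
  have htinv : t⁻¹ = t := inv_inv_eq ht
  have h2 : t * d * t = d⁻¹ := by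
    have := hd.2
    rw [htinv] at this
    exact this
  apply orderOf_eq_two_of
  · calc t * d * (t * d) = (t * d * t) * d := by group
      _ = 1 := by rw [h2, inv_mul_cancel]
  · intro h1
    apply htN
    have hd' : d = t⁻¹ := by
      rw [eq_inv_iff_mul_eq_one]
      have : d * t = t⁻¹ * (t * d) * t := by group
      rw [this, h1]; group
    rw [← htinv, ← hd']
    exact hd.1

theorem J_card (hH : Hyp G) (P : Sylow 2 G) (hP : Good P) {t : G} (ht : orderOf t = 2)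
    (htN : t ∉ NT P) :
    Nat.card (JSet P t) = Nat.card {s : G // orderOf s = 2 ∧ s ∈ (P : Subgroup G)} := by
  have hse := NT_se hH P hP
  have hcard := se_card_swap hse htN
  have htinv : t⁻¹ = t := inv_inv_eq ht
  have htt : t * t = 1 := inv_sq ht
  let e1 : JSet P t ≃ {i : G // orderOf i = 2 ∧ i⁻¹ * t ∈ NT P} :=
    { toFun := fun d => ⟨t * d.1, J_mul_inv P ht htN d.2, by
        have : (t * d.1)⁻¹ * t = d.1⁻¹ := by group
        rw [this]; exact (NT P).inv_mem d.2.1⟩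
      invFun := fun i => ⟨t * i.1, by
        have hiinv : i.1⁻¹ = i.1 := inv_inv_eq i.2.1
        refine ⟨?_, ?_⟩
        · have h1 : t * i.1 = (i.1⁻¹ * t)⁻¹ := by rw [mul_inv_rev, inv_inv, htinv]
          rw [h1]; exact (NT P).inv_mem i.2.2
        · show t * (t * i.1) * t⁻¹ = (t * i.1)⁻¹
          rw [mul_inv_rev, htinv, hiinv, ← mul_assoc, htt, one_mul]⟩
      left_inv := fun d => by
        apply Subtype.ext
        show t * (t * d.1) = d.1
        rw [← mul_assoc, htt, one_mul]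
      right_inv := fun i => by
        apply Subtype.ext
        show t * (t * i.1) = i.1
        rw [← mul_assoc, htt, one_mul] }
  let e2 : {s : G // orderOf s = 2 ∧ s ∈ NT P} ≃ {s : G // orderOf s = 2 ∧ s ∈ (P : Subgroup G)} :=
    Equiv.subtypeEquivRight fun s =>
      ⟨fun h => ⟨h.1, inv_NT_mem P h.1 h.2⟩, fun h => ⟨h.1, Subgroup.le_normalizer h.2⟩⟩
  rw [Nat.card_congr e1, hcard, Nat.card_congr e2]

theorem J_inj (hH : Hyp G) (P : Sylow 2 G) (hP : Good P) {t : G} (ht : orderOf t = 2)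
    (htN : t ∉ NT P) {d d' : G} (hd : d ∈ JSet P t) (hd' : d' ∈ JSet P t)
    (h : d⁻¹ * d' ∈ MT P) : d = d' := by
  set c := d⁻¹ * d' with hc
  have ha := J_mul_inv P ht htN hd
  have hb := J_mul_inv P ht htN hd'
  have hainv : (t * d)⁻¹ = t * d := inv_inv_eq ha
  have hbinv : (t * d')⁻¹ = t * d' := inv_inv_eq hb
  have hbc : t * d' = t * d * c := by rw [hc]; group
  have hinv : (t * d) * c * (t * d)⁻¹ = c⁻¹ := by
    have h1 : c⁻¹ = (t * d')⁻¹ * (t * d) := by rw [hc]; group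
    rw [h1, hbinv, hainv, ← hbc]
  have hcc : c * c = 1 := no_invert hH P h ha hinv
  have hcD : c ∈ Dg (NT P) t :=
    (Dg (NT P) t).mul_mem ((Dg (NT P) t).inv_mem (J_sub_Dg P ht hd)) (J_sub_Dg P ht hd')
  have hodd := Dg_odd hH P hP htN
  have hc1 : c = 1 := by
    have h2 : orderOf c ∣ 2 := orderOf_dvd_of_pow_eq_one (by rw [pow_two]; exact hcc)
    have h3 : orderOf (⟨c, hcD⟩ : Dg (NT P) t) ∣ Nat.card (Dg (NT P) t) := orderOf_dvd_natCard _
    rw [Subgroup.orderOf_mk] at h3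
    have h4 : orderOf c ∣ Nat.gcd 2 (Nat.card (Dg (NT P) t)) := Nat.dvd_gcd h2 h3
    have h5 : Nat.gcd 2 (Nat.card (Dg (NT P) t)) = 1 := Nat.coprime_two_left.mpr hodd
    rw [h5, Nat.dvd_one] at h4
    exact orderOf_eq_one_iff.mp h4
  have : d' = d * c := by rw [hc]; group
  rw [this, hc1, mul_one]

theorem J_surj (hH : Hyp G) (P : Sylow 2 G) (hP : Good P) {t : G} (ht : orderOf t = 2)
    (htN : t ∉ NT P) {h : G} (hh : h ∈ NT P) : ∃ d ∈ JSet P t, d⁻¹ * h ∈ MT P := by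
  set M' : Subgroup (NT P) := (MT P).subgroupOf (NT P) with hM'
  let f : JSet P t → (NT P) ⧸ M' := fun d => QuotientGroup.mk ⟨d.1, d.2.1⟩
  have hf : Function.Injective f := by
    intro d d' hdd
    have h1 : (⟨d.1, d.2.1⟩ : NT P)⁻¹ * ⟨d'.1, d'.2.1⟩ ∈ M' := QuotientGroup.eq.mp hdd
    have h2 : d.1⁻¹ * d'.1 ∈ MT P := Subgroup.mem_subgroupOf.mp h1
    exact Subtype.ext (J_inj hH P hP ht htN d.2 d'.2 h2)
  have hcardM : Nat.card M' = Nat.card (MT P) :=
    Nat.card_congr (Subgroup.subgroupOfEquivOfLe (MT_le_NT P)).toEquiv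
  have hlag : Nat.card ((NT P) ⧸ M') * Nat.card M' = Nat.card (NT P) :=
    (Subgroup.card_eq_card_quotient_mul_card_subgroup M').symm
  have hpos : 0 < Nat.card (MT P) := Nat.card_pos
  have hq : Nat.card ((NT P) ⧸ M') = Nat.card (JSet P t) := by
    rw [hcardM, card_NT hH P hP, ← J_card hH P hP ht htN, mul_comm] at hlag
    exact Nat.eq_of_mul_eq_mul_left hpos hlag
  have hbij : Function.Bijective f := hf.bijective_of_nat_card_le hq.le
  obtain ⟨d, hd⟩ := hbij.2 (QuotientGroup.mk ⟨h, hh⟩)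
  refine ⟨d.1, d.2, ?_⟩
  have h1 : (⟨d.1, d.2.1⟩ : NT P)⁻¹ * ⟨h, hh⟩ ∈ M' := QuotientGroup.eq.mp hd
  exact Subgroup.mem_subgroupOf.mp h1

example (P : Sylow 2 G) {t d : G} (ht : orderOf t = 2)
    (hd : d ∈ ({d | d ∈ NT P ∧ t * d * t⁻¹ = d⁻¹} : Set G)) : d ∈ Dg (NT P) t :=
  J_sub_Dg P ht hd

example (hH : Hyp G) (P : Sylow 2 G) (hP : Good P) {t : G} (ht : orderOf t = 2)
    (htN : t ∉ NT P) :
    Nat.card ({d | d ∈ NT P ∧ t * d * t⁻¹ = d⁻¹} : Set G) =
      Nat.card {s : G // orderOf s = 2 ∧ s ∈ (P : Subgroup G)} :=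
  J_card hH P hP ht htN

end Cfsg.Agent.H84.AIC
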