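import Mathlib
import Cfsg.Prelude.Def_KGroupFacts
import Cfsg.Agent.H33.C2.Abs
import Cfsg.Agent.H73.C3RigidCore

/-!
# S2070 (team project, helper33): piece C2-RIGID — the abstract rigidity argument for `Co₂`.

`x` of prime order `p` generating a self-centralising Sylow subgroup, `z` normalising `⟨x⟩`
non-trivially, of odd order and self-centralising, `t` an involution inverting `z`.  Every
automorphism, multiplied by inner automorphisms, maps `x ↦ x ^ m`, `z ↦ z`, `t ↦ t`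
(Sylow; then a power of `x`; then a power of `z`, using that `z` has odd order).
-/

set_option autoImplicit false

namespace Cfsg.Agent.H84.C2

open Cfsg.Agent.H73.C3

/-- an automorphism normalising `⟨x⟩` can be corrected by a power of `x` so as to fix `z` -/
theorem fix_z {G : Type} [Group G] [Finite G] (x z : G) (p k : ℕ) (hp : p.Prime)
    (hx : orderOf x = p) (hC : ∀ s : G, s * x = x * s → s ∈ Subgroup.zpowers x)
    (hz : z * x * z⁻¹ = x ^ k) (hk : ¬ k % p = 1)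
    (β : MulAut G) (j : ℕ) (hj0 : 0 < j) (hjp : j < p) (hβx : β x = x ^ j) :
    ∃ n : ℕ, (MulAut.conj (x ^ (k * n)) * β) x = x ^ j ∧
      (MulAut.conj (x ^ (k * n)) * β) z = z := by
  have hp1 : 1 < p := hp.one_lt
  have hcop : Nat.Coprime j p :=
    Nat.Coprime.symm ((Nat.Prime.coprime_iff_not_dvd hp).mpr (Nat.not_dvd_of_pos_of_lt hj0 hjp))
  obtain ⟨j', -, hj'⟩ := Nat.exists_mul_mod_eq_one_of_coprime hcop hp1
  have hxj : (x ^ j) ^ j' = x := by
    rw [← pow_mul, pow_eq_of_mod hx (b := 1) (by rw [hj', Nat.mod_eq_of_lt hp1]), pow_one]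
  have hw : β z * x ^ j * (β z)⁻¹ = (x ^ j) ^ k := by
    calc β z * x ^ j * (β z)⁻¹ = β (z * x * z⁻¹) := by rw [map_mul, map_mul, map_inv, hβx]
      _ = (x ^ j) ^ k := by rw [hz, map_pow, hβx]
  have hw2 : β z * x * (β z)⁻¹ = x ^ k := by
    calc β z * x * (β z)⁻¹ = β z * (x ^ j) ^ j' * (β z)⁻¹ := by rw [hxj]
      _ = (β z * x ^ j * (β z)⁻¹) ^ j' := (conj_pow).symm
      _ = ((x ^ j) ^ k) ^ j' := by rw [hw]
      _ = ((x ^ j) ^ j') ^ k := pow_right_comm (x ^ j) k j'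
      _ = x ^ k := by rw [hxj]
  have hs : (z⁻¹ * β z) * x = x * (z⁻¹ * β z) := by
    have e1 : β z * x = x ^ k * β z := by
      rw [← hw2, inv_mul_cancel_right]
    have e2 : z⁻¹ * x ^ k = x * z⁻¹ := by
      rw [← hz, mul_assoc, inv_mul_cancel_left]
    calc (z⁻¹ * β z) * x = z⁻¹ * (β z * x) := mul_assoc _ _ _
      _ = z⁻¹ * (x ^ k * β z) := by rw [e1]
      _ = (z⁻¹ * x ^ k) * β z := (mul_assoc _ _ _).symm
      _ = x * z⁻¹ * β z := by rw [e2]
      _ = x * (z⁻¹ * β z) := mul_assoc _ _ _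
  obtain ⟨i, -, hi⟩ := exists_pow_lt_of_mem_zpowers hx hp.pos (hC _ hs)
  have hβz : β z = z * x ^ i := by
    rw [← hi, mul_inv_cancel_left]
  have : Fact p.Prime := ⟨hp⟩
  have hk1 : (k : ZMod p) - 1 ≠ 0 := by
    intro h
    apply hk
    have h' : (k : ZMod p) = ((1 : ℕ) : ZMod p) := by
      rw [Nat.cast_one]
      exact sub_eq_zero.mp h
    have h'' := (ZMod.natCast_eq_natCast_iff' k 1 p).mp h'
    rw [h'', Nat.mod_eq_of_lt hp1]
  obtain ⟨n, hn⟩ : ∃ n : ℕ, x ^ (k * n) = x ^ (n + i) := by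
    refine ⟨((i : ZMod p) * ((k : ZMod p) - 1)⁻¹).val, ?_⟩
    apply pow_eq_of_mod hx
    rw [← ZMod.natCast_eq_natCast_iff']
    push_cast
    rw [ZMod.natCast_zmod_val]
    field_simp
    ring
  refine ⟨n, ?_, ?_⟩
  · rw [MulAut.mul_apply, MulAut.conj_apply, hβx, ← pow_add, add_comm, pow_add,
      mul_inv_cancel_right]
  · rw [MulAut.mul_apply, MulAut.conj_apply, hβz]
    have e3 : x ^ (k * n) * z = z * x ^ n := by
      have e4 : z * x ^ n * z⁻¹ = x ^ (k * n) := by rw [← conj_pow, hz, ← pow_mul]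
      rw [← e4, inv_mul_cancel_right]
    calc x ^ (k * n) * (z * x ^ i) * (x ^ (k * n))⁻¹
        = (x ^ (k * n) * z) * x ^ i * (x ^ (k * n))⁻¹ := by rw [mul_assoc (x ^ (k * n)) z]
      _ = z * (x ^ n * x ^ i) * (x ^ (k * n))⁻¹ := by rw [e3, mul_assoc z]
      _ = z * x ^ (n + i) * (x ^ (k * n))⁻¹ := by rw [← pow_add]
      _ = z := by rw [← hn, mul_inv_cancel_right]

/-- an automorphism fixing `z` can be corrected by a power of `z` so as to fix `t` -/
theorem fix_t {G : Type} [Group G] [Finite G] (z t : G) (hodd : Odd (orderOf z))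
    (hCz : ∀ s : G, s * z = z * s → s ∈ Subgroup.zpowers z) (htz : t * z * t⁻¹ = z⁻¹)
    (β : MulAut G) (hβz : β z = z) :
    ∃ e : ℕ, (MulAut.conj (z ^ e) * β) t = t := by
  have h1 : β t * z * (β t)⁻¹ = z⁻¹ := by
    have := congrArg β htz
    rw [map_mul, map_mul, map_inv, map_inv, hβz] at this
    exact this
  have hs : (t⁻¹ * β t) * z = z * (t⁻¹ * β t) := by
    have e1 : β t * z = z⁻¹ * β t := by
      have : z⁻¹ * β t = β t * z * (β t)⁻¹ * β t := by rw [h1]
      rw [this, inv_mul_cancel_right]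
    have e2 : z * t⁻¹ = t⁻¹ * z⁻¹ := by
      have : t⁻¹ * z⁻¹ = t⁻¹ * (t * z * t⁻¹) := by rw [htz]
      rw [this]
      group
    calc (t⁻¹ * β t) * z = t⁻¹ * (β t * z) := mul_assoc _ _ _
      _ = t⁻¹ * (z⁻¹ * β t) := by rw [e1]
      _ = (t⁻¹ * z⁻¹) * β t := (mul_assoc _ _ _).symm
      _ = z * t⁻¹ * β t := by rw [e2]
      _ = z * (t⁻¹ * β t) := mul_assoc _ _ _
  obtain ⟨i, -, hi⟩ := exists_pow_lt_of_mem_zpowers (rfl : orderOf z = orderOf z)
    (orderOf_pos z) (hCz _ hs)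
  have hβt : β t = t * z ^ i := by
    rw [← hi, mul_inv_cancel_left]
  obtain ⟨r, hr⟩ := hodd
  refine ⟨i * (r + 1), ?_⟩
  rw [MulAut.mul_apply, MulAut.conj_apply, hβt]
  set u := z ^ (i * (r + 1)) with hu
  have htz' : t⁻¹ * z * t = z⁻¹ := by
    have h : t * z⁻¹ * t⁻¹ = z := by
      calc t * z⁻¹ * t⁻¹ = (t * z * t⁻¹)⁻¹ := by group
        _ = (z⁻¹)⁻¹ := by rw [htz]
        _ = z := inv_inv z
    calc t⁻¹ * z * t = t⁻¹ * (t * z⁻¹ * t⁻¹) * t := by rw [h]
      _ = z⁻¹ := by group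
  have h5 : t⁻¹ * u * t = u⁻¹ := by
    have := conj_pow (a := t⁻¹) (b := z) (i := i * (r + 1))
    rw [inv_inv, htz', inv_pow] at this
    exact this.symm
  have hte : u * t = t * u⁻¹ := by
    rw [← h5]
    group
  have huu : u * u = z ^ i := by
    rw [hu, ← pow_add]
    have e : i * (r + 1) + i * (r + 1) = orderOf z * i + i := by
      rw [hr]
      ring
    rw [e, pow_add, pow_mul, pow_orderOf_eq_one, one_pow, one_mul]
  calc u * (t * z ^ i) * u⁻¹ = (u * t) * z ^ i * u⁻¹ := by rw [mul_assoc u t]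
    _ = t * u⁻¹ * (u * u) * u⁻¹ := by rw [hte, huu]
    _ = t := by group

/-- (C2-RIGID) -/
theorem rigid2 : Cfsg.Agent.H33.C2.StRigid2 := by
  intro G _ _ x z t p k hp hx hp2 hC hz hk hodd hCz ht2 htz hgen hno
  have hp1 : 1 < p := hp.one_lt
  have hx1 : x ≠ 1 := by
    intro h
    rw [h, orderOf_one] at hx
    omega
  have hmem : ∀ (c : G) (β : MulAut G), MulAut.conj c * β ∈ Cfsg.Inn G → β ∈ Cfsg.Inn G := by
    intro c β h
    have hc : MulAut.conj c ∈ Cfsg.Inn G := ⟨c, rfl⟩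
    have h' := (Cfsg.Inn G).mul_mem ((Cfsg.Inn G).inv_mem hc) h
    rwa [inv_mul_cancel_left] at h'
  have hD : ∀ α : MulAut G, α ∈ Cfsg.Inn G := by
    intro α
    have hy : orderOf (α x) = p := by rw [MulEquiv.orderOf_eq, hx]
    obtain ⟨c, hc⟩ := exists_conj_mem_zpowers_of_sq_not_dvd hp hp2 x (α x) hx hy
    obtain ⟨j, hjp, hj'⟩ := exists_pow_lt_of_mem_zpowers hx hp.pos hc
    apply hmem c
    have hj0 : 0 < j := by
      rcases Nat.eq_zero_or_pos j with h | h
      · exfalso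
        rw [h, pow_zero] at hj'
        have h1 : α x = 1 := conj_eq_one_iff.mp hj'
        exact hx1 (α.injective (by rw [h1, map_one]))
      · exact h
    set β₁ : MulAut G := MulAut.conj c * α with hβ₁
    have hβ₁x : β₁ x = x ^ j := by
      rw [hβ₁, MulAut.mul_apply, MulAut.conj_apply]
      exact hj'
    obtain ⟨n, hn1, hn2⟩ := fix_z x z p k hp hx hC hz hk β₁ j hj0 hjp hβ₁x
    apply hmem (x ^ (k * n))
    set β₂ : MulAut G := MulAut.conj (x ^ (k * n)) * β₁ with hβ₂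
    obtain ⟨e, he⟩ := fix_t z t hodd hCz htz β₂ hn2
    apply hmem (z ^ e)
    set β₃ : MulAut G := MulAut.conj (z ^ e) * β₂ with hβ₃
    have hβ₃z : β₃ z = z := by
      rw [hβ₃, MulAut.mul_apply, MulAut.conj_apply, hn2, (Commute.pow_self z e).eq,
        mul_inv_cancel_right]
    have hβ₃x : β₃ x = x ^ ((j * k ^ e) % p) := by
      rw [hβ₃, MulAut.mul_apply, MulAut.conj_apply, hn1, ← conj_pow, conj_pow_eq hz e, ← pow_mul,
        mul_comm]
      exact pow_eq_of_mod hx (Nat.mod_mod _ _).symm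
    set m := (j * k ^ e) % p with hm
    have hmp : m < p := Nat.mod_lt _ hp.pos
    have hm1 : m = 1 := by
      by_contra hne
      rcases Nat.lt_or_ge 1 m with h | h
      · exact hno m h hmp ⟨β₃, hβ₃x, hβ₃z, he⟩
      · have h0 : m = 0 := by omega
        rw [h0, pow_zero] at hβ₃x
        exact hx1 (β₃.injective (by rw [hβ₃x, map_one]))
    rw [hm1, pow_one] at hβ₃x
    have hid : (β₃ : G ≃* G).toMonoidHom = MonoidHom.id G := by
      apply MonoidHom.eq_of_eqOn_dense hgen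
      intro g hg
      simp only [Set.mem_insert_iff, Set.mem_singleton_iff] at hg
      rcases hg with rfl | rfl | rfl
      · exact hβ₃x
      · exact hβ₃z
      · exact he
    have h1 : β₃ = 1 := by
      ext g
      exact DFunLike.congr_fun hid g
    rw [h1]
    exact (Cfsg.Inn G).one_mem
  show (Cfsg.Inn G).index = 1
  rw [Subgroup.index_eq_one, eq_top_iff]
  intro α _
  exact hD α

example : Cfsg.Agent.H33.C2.StRigid2 =
    (∀ {G : Type} [Group G] [Finite G] (x z t : G) (p k : ℕ),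
  p.Prime → orderOf x = p → ¬ p ^ 2 ∣ Nat.card G →
  (∀ s : G, s * x = x * s → s ∈ Subgroup.zpowers x) →
  z * x * z⁻¹ = x ^ k → ¬ k % p = 1 →
  Odd (orderOf z) →
  (∀ s : G, s * z = z * s → s ∈ Subgroup.zpowers z) →
  t ^ 2 = 1 → t * z * t⁻¹ = z⁻¹ →
  Subgroup.closure ({x, z, t} : Set G) = ⊤ →
  (∀ m : ℕ, 1 < m → m < p → ¬ ∃ β : G ≃* G, β x = x ^ m ∧ β z = z ∧ β t = t) →
  Nat.card (Cfsg.Out G) = 1) :=
  rfl

end Cfsg.Agent.H84.C2
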