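/-
helper84 library: Brauer, "Some applications of the theory of blocks of characters IV",
the inner-product formula: for a `p`-subgroup `P`, `P ≤ N ≤ N_G(P)`, a set `U ⊆ P` whose
fusion is controlled by `N`, and generalized characters `θ`, `η` of `P` with `θ` vanishing
off `U`,
`∑_{χ ∈ B₀} ⟨χ|_P, θ⟩ conj ⟨χ|_P, η⟩ = w / |P|² ∑_y θ(y) conj (∑_{x ∈ N} η°(x y x⁻¹))`.
-/
import Mathlib
import Cfsg.Prelude.Def_Blocks
import Cfsg.Agent.H84.SectionSum

set_option autoImplicit false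
set_option linter.style.haveILetI false
set_option linter.unusedSectionVars false
set_option linter.unusedVariables false

namespace Cfsg.Agent.H84

open Cfsg Cfsg.Agent.H4 Cfsg.Agent.H20
open scoped ComplexConjugate

universe u

section BrauerIV2

variable {G : Type u} [Group G] [Finite G]

/-- Expanding the product of two multiplicities, summed over a set of characters. -/
theorem sum_coeff_mul_conj_coeff (B : Set (IrrCharacter G)) (P : Subgroup G) (θ η : P → ℂ) :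
    ∑ᶠ χ ∈ B, ((Nat.card P : ℂ)⁻¹ * ∑ᶠ y : P, (χ : G → ℂ) (y : G) * θ y⁻¹) *
        conj ((Nat.card P : ℂ)⁻¹ * ∑ᶠ y : P, (χ : G → ℂ) (y : G) * η y⁻¹) =
      ((Nat.card P : ℂ) ^ 2)⁻¹ * ∑ᶠ u : P, θ u * ∑ᶠ v : P, conj (η v) *
        ∑ᶠ χ ∈ B, (χ : G → ℂ) ((u : G)⁻¹) * conj ((χ : G → ℂ) ((v : G)⁻¹)) := by
  classical
  letI := Fintype.ofFinite G
  letI : Fintype P := Fintype.ofFinite P
  letI := fintypeIrr G
  have hc : conj ((Nat.card P : ℂ)⁻¹) = (Nat.card P : ℂ)⁻¹ := by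
    rw [map_inv₀, Complex.conj_natCast]
  have hre : ∀ (χ : IrrCharacter G) (ζ : P → ℂ), ∑ᶠ y : P, (χ : G → ℂ) (y : G) * ζ y⁻¹ =
      ∑ u : P, (χ : G → ℂ) ((u : G)⁻¹) * ζ u := by
    intro χ ζ
    rw [finsum_eq_sum_of_fintype, ← Equiv.sum_comp (Equiv.inv P)]
    apply Finset.sum_congr rfl
    intro u _
    rw [Equiv.inv_apply, inv_inv, Subgroup.coe_inv]
  rw [finsum_mem_irr]
  have h1 : ∀ χ : IrrCharacter G,
      (if χ ∈ B then ((Nat.card P : ℂ)⁻¹ * ∑ᶠ y : P, (χ : G → ℂ) (y : G) * θ y⁻¹) *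
        conj ((Nat.card P : ℂ)⁻¹ * ∑ᶠ y : P, (χ : G → ℂ) (y : G) * η y⁻¹) else 0) =
      ((Nat.card P : ℂ) ^ 2)⁻¹ * ∑ u : P, θ u * ∑ v : P, conj (η v) *
        (if χ ∈ B then (χ : G → ℂ) ((u : G)⁻¹) * conj ((χ : G → ℂ) ((v : G)⁻¹)) else 0) := by
    intro χ
    split_ifs with hχ
    · rw [hre χ θ, hre χ η, map_mul, hc, map_sum, mul_mul_mul_comm, Finset.sum_mul_sum,
        ← pow_two, inv_pow]
      congr 1
      apply Finset.sum_congr rfl
      intro u _
      rw [Finset.mul_sum]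
      apply Finset.sum_congr rfl
      intro v _
      rw [map_mul]
      ring
    · simp
  rw [Finset.sum_congr rfl (fun χ _ => h1 χ), ← Finset.mul_sum]
  congr 1
  rw [finsum_eq_sum_of_fintype, Finset.sum_comm]
  apply Finset.sum_congr rfl
  intro u _
  rw [← Finset.mul_sum]
  congr 1
  rw [finsum_eq_sum_of_fintype, Finset.sum_comm]
  apply Finset.sum_congr rfl
  intro v _
  rw [← Finset.mul_sum, finsum_mem_irr]

/-- Summing a function against the sizes of the fibres of a map. -/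
theorem sum_mul_card_fiber {α β : Type*} [Fintype α] [Fintype β] [DecidableEq β] (φ : α → β)
    (g : β → ℂ) :
    ∑ b : β, g b * (Nat.card {a : α // φ a = b} : ℂ) = ∑ a : α, g (φ a) := by
  classical
  have h1 : ∀ b : β, (Nat.card {a : α // φ a = b} : ℂ) =
      ∑ a : α, if φ a = b then (1 : ℂ) else 0 := by
    intro b
    rw [Nat.card_eq_fintype_card, Fintype.card_subtype]
    simp
  have h2 : ∀ b : β, g b * (Nat.card {a : α // φ a = b} : ℂ) =
      ∑ a : α, if φ a = b then g b else 0 := by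
    intro b
    rw [h1 b, Finset.mul_sum]
    apply Finset.sum_congr rfl
    intro a _
    split_ifs <;> simp
  rw [Finset.sum_congr rfl (fun b _ => h2 b), Finset.sum_comm]
  apply Finset.sum_congr rfl
  intro a _
  rw [Finset.sum_eq_single (φ a)]
  · rw [if_pos rfl]
  · intro b _ hb
    rw [if_neg (fun h => hb h.symm)]
  · intro h
    exact absurd (Finset.mem_univ _) h

/-- The principal-block part of the second orthogonality relation between two elements of
`P`, in terms of fusion in `N`. -/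
theorem principal_sum_eq_count {p : ℕ} [Fact p.Prime] {M : Ideal AlgInt} (hM : IsPModular p M)
    (h2 : SecondMain p M G)
    (hdef : ∀ u : G, (∃ k : ℕ, orderOf u = p ^ k) →
      ∀ b : Set (IrrCharacter (Subgroup.centralizer ({u} : Set G))), IsPBlock M b →
        InducedBlockDefined M (Subgroup.centralizer ({u} : Set G)) b)
    (P : Subgroup G) (hP : IsPGroup p P) (N : Subgroup G) (U : Set G)
    (hfus : ∀ u ∈ U, ∀ g : G, g * u * g⁻¹ ∈ (P : Set G) → ∃ n ∈ N, n * u * n⁻¹ = g * u * g⁻¹)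
    (w : ℂ)
    (hw : ∀ u ∈ U, ∑ᶠ ψ ∈ principalBlock M (Subgroup.centralizer ({u} : Set G)),
        (ψ : Subgroup.centralizer ({u} : Set G) → ℂ) 1 *
          (ψ : Subgroup.centralizer ({u} : Set G) → ℂ) 1 =
        w * (Nat.card ↥(N ⊓ Subgroup.centralizer ({u} : Set G)) : ℂ))
    (u v : P) (hu : (u : G) ∈ U) :
    ∑ᶠ χ ∈ principalBlock M G, (χ : G → ℂ) ((u : G)⁻¹) * conj ((χ : G → ℂ) ((v : G)⁻¹)) =
      w * (Nat.card {x : N // (x : G) * (u : G) * (x : G)⁻¹ = (v : G)} : ℂ) := by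
  classical
  have hp : p.Prime := hM.1
  have hMp := isPrime_of_isPModular hM
  have hord : ∀ y : P, ∃ k : ℕ, orderOf (y : G) = p ^ k := by
    intro y
    obtain ⟨k, hk⟩ := hP y
    have h1 : orderOf (y : G) ∣ p ^ k := by
      rw [Subgroup.orderOf_coe]
      exact orderOf_dvd_of_pow_eq_one hk
    obtain ⟨j, -, hj⟩ := (Nat.dvd_prime_pow hp).mp h1
    exact ⟨j, hj⟩
  by_cases hex : ∃ x : N, (x : G) * (u : G) * (x : G)⁻¹ = (v : G)
  · obtain ⟨x₀, hx₀⟩ := hex
    have h1 : ∀ χ : IrrCharacter G,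
        (χ : G → ℂ) ((u : G)⁻¹) * conj ((χ : G → ℂ) ((v : G)⁻¹)) =
        (χ : G → ℂ) (u : G) * conj ((χ : G → ℂ) (u : G)) := by
      intro χ
      have h3 : (χ : G → ℂ) ((v : G)⁻¹) = (χ : G → ℂ) ((u : G)⁻¹) := by
        rw [← hx₀]
        have h4 : ((x₀ : G) * (u : G) * (x₀ : G)⁻¹)⁻¹ = (x₀ : G) * (u : G)⁻¹ * (x₀ : G)⁻¹ := by
          group
        rw [h4, Cfsg.Agent.H82.irr_conj]
      rw [h3, irr_inv χ (u : G), Complex.conj_conj, mul_comm]
    rw [finsum_mem_congr rfl (fun χ _ => h1 χ),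
      sum_principal_norm_sq hM h2 (u : G) (hord u) (hdef (u : G) (hord u)), hw (u : G) hu]
    congr 2
    symm
    have e1 : {x : N // (x : G) * (u : G) * (x : G)⁻¹ = (v : G)} ≃
        {g : G // g ∈ N ∧ g * (u : G) * g⁻¹ = (v : G)} :=
      Equiv.subtypeSubtypeEquivSubtypeInter (fun g : G => g ∈ N)
        (fun g : G => g * (u : G) * g⁻¹ = (v : G))
    have e2 : {g : G // g ∈ N ∧ g * (u : G) * g⁻¹ = (v : G)} ≃
        {g : G // g ∈ N ⊓ Subgroup.centralizer ({(u : G)} : Set G)} :=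
      Equiv.subtypeEquiv (Equiv.mulLeft (x₀ : G)⁻¹) (by
        intro a
        rw [Equiv.coe_mulLeft, Subgroup.mem_inf, Subgroup.mem_centralizer_iff]
        constructor
        · rintro ⟨ha, hav⟩
          refine ⟨N.mul_mem (N.inv_mem x₀.2) ha, fun h hh => ?_⟩
          rw [Set.mem_singleton_iff] at hh
          subst hh
          calc (u : G) * ((x₀ : G)⁻¹ * a)
              = (x₀ : G)⁻¹ * ((x₀ : G) * (u : G) * (x₀ : G)⁻¹) * a := by group
            _ = (x₀ : G)⁻¹ * (a * (u : G) * a⁻¹) * a := by rw [hx₀, hav]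
            _ = (x₀ : G)⁻¹ * a * (u : G) := by group
        · rintro ⟨hmem, hcent⟩
          have hc := hcent (u : G) rfl
          refine ⟨?_, ?_⟩
          · have h5 := N.mul_mem x₀.2 hmem
            have h6 : (x₀ : G) * ((x₀ : G)⁻¹ * a) = a := by group
            rwa [h6] at h5
          · calc a * (u : G) * a⁻¹ = (x₀ : G) * ((x₀ : G)⁻¹ * a * (u : G)) * a⁻¹ := by group
              _ = (x₀ : G) * ((u : G) * ((x₀ : G)⁻¹ * a)) * a⁻¹ := by rw [hc]
              _ = (x₀ : G) * (u : G) * (x₀ : G)⁻¹ := by group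
              _ = (v : G) := hx₀)
    exact Nat.card_congr (e1.trans e2)
  · have hemp : IsEmpty {x : N // (x : G) * (u : G) * (x : G)⁻¹ = (v : G)} :=
      ⟨fun x => hex ⟨x.1, x.2⟩⟩
    rw [Nat.card_of_isEmpty, Nat.cast_zero, mul_zero]
    have hnc : ¬ IsConj ((u : G)⁻¹) ((v : G)⁻¹) := by
      intro hc
      obtain ⟨g, hg⟩ := isConj_iff.mp hc
      have h7 : g * (u : G) * g⁻¹ = (v : G) := by
        have h8 : (g * (u : G)⁻¹ * g⁻¹)⁻¹ = ((v : G)⁻¹)⁻¹ := by rw [hg]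
        rw [inv_inv] at h8
        rw [← h8]
        group
      obtain ⟨n, hn, hn'⟩ := hfus (u : G) hu g (by rw [h7]; exact v.2)
      exact hex ⟨⟨n, hn⟩, by rw [← h7, ← hn']⟩
    have hui : ∃ k : ℕ, orderOf ((u : G)⁻¹) = p ^ k := by
      rw [orderOf_inv]
      exact hord u
    have hvi : ∃ k : ℕ, orderOf ((v : G)⁻¹) = p ^ k := by
      rw [orderOf_inv]
      exact hord v
    have h3 := sectionOrth_of_sectionProj hM (sectionProj_of_secondMain hM h2) ((u : G)⁻¹)
      ((v : G)⁻¹) ((u : G)⁻¹) ((v : G)⁻¹) (isPPart_self hp hui) (isPPart_self hp hvi) hnc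
      (principalBlock M G) ⟨Cfsg.Agent.H80.trivChar G, rfl⟩
    rw [← h3]
    apply finsum_mem_congr rfl
    intro χ _
    rw [irr_inv χ ((v : G)⁻¹)]

/-- **Brauer, applications IV, inner-product formula.** -/
theorem brauer_applications_iv_two {p : ℕ} [Fact p.Prime] {M : Ideal AlgInt}
    (hM : IsPModular p M) (h2 : SecondMain p M G)
    (hdef : ∀ u : G, (∃ k : ℕ, orderOf u = p ^ k) →
      ∀ b : Set (IrrCharacter (Subgroup.centralizer ({u} : Set G))), IsPBlock M b →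
        InducedBlockDefined M (Subgroup.centralizer ({u} : Set G)) b)
    (P : Subgroup G) (hP : IsPGroup p P) (N : Subgroup G)
    (hNN : N ≤ Subgroup.normalizer (P : Set G)) (U : Set G)
    (hfus : ∀ u ∈ U, ∀ g : G, g * u * g⁻¹ ∈ (P : Set G) → ∃ n ∈ N, n * u * n⁻¹ = g * u * g⁻¹)
    (w : ℚ)
    (hw : ∀ y ∈ U, ((∑ᶠ ψ ∈ principalBlock M ↥(Subgroup.centralizer ({y} : Set G)),
        charDegree (ψ : ↥(Subgroup.centralizer ({y} : Set G)) → ℂ) ^ 2) : ℚ) =
        w * Nat.card ↥(N ⊓ Subgroup.centralizer ({y} : Set G)))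
    (θ η : ↥P → ℂ) (hθU : ∀ y : ↥P, (y : G) ∉ U → θ y = 0) :
    ∑ᶠ χ ∈ principalBlock M G,
        ((Nat.card ↥P : ℂ)⁻¹ * ∑ᶠ y : ↥P, (χ : G → ℂ) (y : G) * θ y⁻¹) *
        (starRingEnd ℂ) ((Nat.card ↥P : ℂ)⁻¹ * ∑ᶠ y : ↥P, (χ : G → ℂ) (y : G) * η y⁻¹) =
      ((w : ℂ) / ((Nat.card ↥P : ℂ) ^ 2)) * ∑ᶠ y : ↥P, θ y *
        (starRingEnd ℂ) (∑ᶠ x : ↥N, extendByZero P η ((x : G) * (y : G) * (x : G)⁻¹)) := by
  classical
  letI := Fintype.ofFinite G
  letI : Fintype P := Fintype.ofFinite P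
  letI : Fintype N := Fintype.ofFinite N
  -- the hypothesis on degrees, over `ℂ`
  have hwC : ∀ y ∈ U, ∑ᶠ ψ ∈ principalBlock M (Subgroup.centralizer ({y} : Set G)),
        (ψ : Subgroup.centralizer ({y} : Set G) → ℂ) 1 *
          (ψ : Subgroup.centralizer ({y} : Set G) → ℂ) 1 =
        (w : ℂ) * (Nat.card ↥(N ⊓ Subgroup.centralizer ({y} : Set G)) : ℂ) := by
    intro y hy
    have h1 := congrArg (fun q : ℚ => (q : ℂ)) (hw y hy)
    simp only [Rat.cast_mul, Rat.cast_natCast] at h1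
    rw [← h1]
    letI : Fintype (Subgroup.centralizer ({y} : Set G)) := Fintype.ofFinite _
    letI := fintypeIrr (Subgroup.centralizer ({y} : Set G))
    rw [finsum_mem_irr, finsum_mem_def, finsum_irr_eq_sum, Rat.cast_sum]
    apply Finset.sum_congr rfl
    intro ψ _
    rw [Set.indicator_apply]
    split_ifs with hψ
    · rw [Cfsg.Agent.H82.irr_one_eq_charDegree]
      push_cast
      ring
    · simp
  have hX : ∑ᶠ u : P, θ u * ∑ᶠ v : P, conj (η v) *
      ∑ᶠ χ ∈ principalBlock M G, (χ : G → ℂ) ((u : G)⁻¹) * conj ((χ : G → ℂ) ((v : G)⁻¹)) =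
      (w : ℂ) * ∑ᶠ y : ↥P, θ y *
        conj (∑ᶠ x : ↥N, extendByZero P η ((x : G) * (y : G) * (x : G)⁻¹)) := by
    rw [finsum_eq_sum_of_fintype, finsum_eq_sum_of_fintype, Finset.mul_sum]
    apply Finset.sum_congr rfl
    intro u _
    by_cases hu : (u : G) ∈ U
    · have hφ : ∀ x : N, (x : G) * (u : G) * (x : G)⁻¹ ∈ P := fun x =>
        (Subgroup.mem_normalizer_iff.mp (hNN x.2) (u : G)).mp u.2
      have hK : ∀ v : P, ∑ᶠ χ ∈ principalBlock M G,
          (χ : G → ℂ) ((u : G)⁻¹) * conj ((χ : G → ℂ) ((v : G)⁻¹)) = (w : ℂ) *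
          (Nat.card {x : N // (⟨(x : G) * (u : G) * (x : G)⁻¹, hφ x⟩ : P) = v} : ℂ) := by
        intro v
        rw [principal_sum_eq_count hM h2 hdef P hP N U hfus (w : ℂ) hwC u v hu]
        congr 2
        exact Nat.card_congr (Equiv.subtypeEquivRight
          (fun x => ⟨fun h => Subtype.ext h, fun h => congrArg Subtype.val h⟩))
      have h5 : ∑ᶠ v : P, conj (η v) * ∑ᶠ χ ∈ principalBlock M G,
          (χ : G → ℂ) ((u : G)⁻¹) * conj ((χ : G → ℂ) ((v : G)⁻¹)) =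
          (w : ℂ) * conj (∑ᶠ x : ↥N, extendByZero P η ((x : G) * (u : G) * (x : G)⁻¹)) := by
        rw [finsum_eq_sum_of_fintype, finsum_eq_sum_of_fintype, map_sum]
        have h6 := sum_mul_card_fiber
          (fun x : N => (⟨(x : G) * (u : G) * (x : G)⁻¹, hφ x⟩ : P)) (fun v : P => conj (η v))
        have h7 : ∀ v : P, conj (η v) * ∑ᶠ χ ∈ principalBlock M G,
            (χ : G → ℂ) ((u : G)⁻¹) * conj ((χ : G → ℂ) ((v : G)⁻¹)) = (w : ℂ) * (conj (η v) *
            (Nat.card {x : N // (⟨(x : G) * (u : G) * (x : G)⁻¹, hφ x⟩ : P) = v} : ℂ)) := by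
          intro v
          rw [hK v]
          ring
        rw [Finset.sum_congr rfl (fun v _ => h7 v), ← Finset.mul_sum, h6]
        congr 1
        apply Finset.sum_congr rfl
        intro x _
        rw [extendByZero_of_mem P η (hφ x)]
      rw [h5]
      ring
    · rw [hθU u hu, zero_mul, zero_mul, mul_zero]
  rw [sum_coeff_mul_conj_coeff, hX]
  ring

end BrauerIV2

end Cfsg.Agent.H84
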