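/-
helper84 library: the refinement for `p = 2` of the bound `k₀(B) ≤ 2^q √l(b)`.

* `tsign`, `sum_coprime_two_pow`: sums of odd powers of a `2^a`-th root of unity.
* `exists_mu_two`: odd integers `μ χ` (`χ` of height zero, `μ χ` the normalized trace of
  `2^q m_{χχ}`) with `k₀ ≤ 2^q μ χ` and `∑ μ χ ≤ 2^q l(b)`.
* `sqrt_bound_arith`, `two_block_bound`: the resulting bounds.
-/
import Mathlib
import Cfsg.Prelude.Def_Blocks
import Cfsg.Prelude.Def_BlockRank
import Cfsg.Agent.H84.Contrib4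

set_option autoImplicit false
set_option linter.style.haveILetI false
set_option linter.unusedSectionVars false
set_option linter.unusedVariables false

namespace Cfsg.Agent.H84

open Cfsg Cfsg.Agent.H4 Cfsg.Agent.H20
open scoped ComplexConjugate

universe u

section TwoPow

open scoped Classical in
/-- `tsign ω = 1, -1, 0` according to `ω = 1`, `ω = -1`, otherwise. -/
noncomputable def tsign (ω : ℂ) : ℤ := if ω = 1 then 1 else if ω = -1 then -1 else 0

theorem tsign_one : tsign 1 = 1 := by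
  unfold tsign
  rw [if_pos rfl]

theorem tsign_inv (ω : ℂ) : tsign ω⁻¹ = tsign ω := by
  unfold tsign
  have h1 : ω⁻¹ = 1 ↔ ω = 1 := inv_eq_one
  have h2 : ω⁻¹ = -1 ↔ ω = -1 := by
    constructor
    · intro h
      have := congrArg (fun z => z⁻¹) h
      simpa using this
    · intro h
      rw [h]
      norm_num
  simp only [h1, h2]

theorem tsign_cases (ω : ℂ) : tsign ω = 1 ∨ tsign ω = -1 ∨ tsign ω = 0 := by
  unfold tsign
  split_ifs
  · exact Or.inl rfl
  · exact Or.inr (Or.inl rfl)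
  · exact Or.inr (Or.inr rfl)

theorem geom_sum_of_pow_eq_one (r : ℂ) (N : ℕ) (h : r ^ N = 1) (hr : r ≠ 1) :
    ∑ i ∈ Finset.range N, r ^ i = 0 := by
  have h1 := geom_sum_mul r N
  rw [h, sub_self] at h1
  exact (mul_eq_zero.mp h1).resolve_right (sub_ne_zero.mpr hr)

/-- The sum of the `γ`-th powers, `γ` odd below `2^a`, of a `2^a`-th root of unity. -/
theorem sum_coprime_two_pow (a : ℕ) (ω : ℂ) (hω : ω ^ (2 ^ a) = 1) :
    ∑ γ ∈ (Finset.range (2 ^ a)).filter (fun i => i.Coprime (2 ^ a)), ω ^ γ =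
      (((Finset.range (2 ^ a)).filter (fun i => i.Coprime (2 ^ a))).card : ℂ) *
        (tsign ω : ℂ) := by
  classical
  rcases Nat.eq_zero_or_pos a with ha | ha
  · subst ha
    have h1 : ω = 1 := by simpa using hω
    have h2 : (Finset.range (2 ^ 0)).filter (fun i => i.Coprime (2 ^ 0)) = {0} := by
      ext i
      simp
    rw [h2, h1, tsign_one]
    simp
  · have hfilt : (Finset.range (2 ^ a)).filter (fun i => i.Coprime (2 ^ a)) =
        (Finset.range (2 ^ a)).filter (fun i => Odd i) := by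
      apply Finset.filter_congr
      intro i _
      rw [Nat.coprime_pow_right_iff ha, Nat.coprime_two_right]
    rw [hfilt]
    have hNeven : Even (2 ^ a) := (Nat.even_pow' ha.ne').mpr even_two
    have key : ∀ r : ℂ, r ^ (2 ^ a) = 1 →
        (2 : ℂ) * ∑ γ ∈ (Finset.range (2 ^ a)).filter (fun i => Odd i), r ^ γ =
          ∑ γ ∈ Finset.range (2 ^ a), r ^ γ - ∑ γ ∈ Finset.range (2 ^ a), (-r) ^ γ := by
      intro r _
      rw [Finset.mul_sum, Finset.sum_filter, ← Finset.sum_sub_distrib]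
      apply Finset.sum_congr rfl
      intro γ _
      split_ifs with hγ
      · rw [Odd.neg_pow hγ]
        ring
      · rw [Nat.not_odd_iff_even] at hγ
        rw [Even.neg_pow hγ]
        ring
    have hcard : (2 : ℂ) * (((Finset.range (2 ^ a)).filter (fun i => Odd i)).card : ℂ) =
        ((2 ^ a : ℕ) : ℂ) := by
      have h1 := key 1 (one_pow _)
      have h2 : ∑ γ ∈ Finset.range (2 ^ a), (-1 : ℂ) ^ γ = 0 := by
        apply geom_sum_of_pow_eq_one
        · exact Even.neg_one_pow hNeven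
        · norm_num
      simp only [one_pow, Finset.sum_const, nsmul_eq_mul, mul_one, Finset.card_range] at h1
      rw [h2, sub_zero] at h1
      exact h1
    have hneg : (-ω) ^ (2 ^ a) = 1 := by rw [Even.neg_pow hNeven, hω]
    have h3 := key ω hω
    have h4 : (2 : ℂ) * ∑ γ ∈ (Finset.range (2 ^ a)).filter (fun i => Odd i), ω ^ γ =
        (2 : ℂ) * ((((Finset.range (2 ^ a)).filter (fun i => Odd i)).card : ℂ) *
          (tsign ω : ℂ)) := by
      rw [h3, ← mul_assoc, hcard]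
      unfold tsign
      by_cases h1 : ω = 1
      · rw [if_pos h1, h1]
        have h2 : ∑ γ ∈ Finset.range (2 ^ a), (-1 : ℂ) ^ γ = 0 := by
          apply geom_sum_of_pow_eq_one
          · exact Even.neg_one_pow hNeven
          · norm_num
        rw [h2]
        simp
      · rw [if_neg h1, geom_sum_of_pow_eq_one ω _ hω h1]
        by_cases h2 : ω = -1
        · rw [if_pos h2, h2]
          simp
        · rw [if_neg h2]
          have h5 : -ω ≠ 1 := by
            intro h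
            apply h2
            rw [← h]
            ring
          rw [geom_sum_of_pow_eq_one (-ω) _ hneg h5]
          simp
    exact mul_left_cancel₀ (two_ne_zero) h4

end TwoPow

section MuTwo

variable {G : Type u} [Group G] [Fintype G] {M : Ideal AlgInt}

theorem tsign_sub_one_zmod (ω : ℂ) :
    (((tsign ω - 1 : ℤ)) : ZMod 2) = if tsign ω = 0 then 1 else 0 := by
  rcases tsign_cases ω with h | h | h
  · rw [h]
    simp
  · rw [h]
    rw [if_neg (by norm_num)]
    decide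
  · rw [h]
    rw [if_pos rfl]
    decide

/-- Data for the `2`-block refinement: odd integers `μ χ` (`χ` of height zero) with
`k₀ ≤ 2^q μ χ` and `∑ μ χ ≤ 2^q l(b)`. -/
theorem exists_mu_two [Fact (Nat.Prime 2)] (hM : IsPModular 2 M) (h2 : SecondMain 2 M G) (x : G)
    (hx : ∃ k : ℕ, orderOf x = 2 ^ k) (C : Subgroup G) [Fintype C]
    (hxC : ∀ c ∈ C, x * c = c * x) (hCx : ∀ g : G, g * x = x * g → g ∈ C)
    (ψ₀ : IrrCharacter C) (B : Set (IrrCharacter G))
    (hind : IsInducedBlock M C (blockOf M (ψ₀ : C → ℂ)) B)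
    (S : Finset (IrrCharacter G))
    (hS : ∀ χ ∈ S, χ ∈ B ∧ blockHeight 2 B (χ : G → ℂ) = 0) :
    ∃ μ : IrrCharacter G → ℤ, (∀ χ ∈ S, Odd (μ χ)) ∧
      (∀ χ ∈ S, (S.card : ℤ) ≤ 2 ^ blockDefect 2 (blockOf M (ψ₀ : C → ℂ)) * μ χ) ∧
      ∑ χ ∈ S, μ χ ≤ 2 ^ blockDefect 2 (blockOf M (ψ₀ : C → ℂ)) *
        (blockRank 2 (blockOf M (ψ₀ : C → ℂ)) : ℤ) := by
  classical
  have hMp := isPrime_of_isPModular hM
  obtain ⟨k, hk⟩ := hx
  have hN : 0 < 2 ^ k := by positivity
  have hxN : x ^ 2 ^ k = 1 := by rw [← hk]; exact pow_orderOf_eq_one x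
  have hxmem : x ∈ C := hCx x rfl
  obtain ⟨ζ, hζ⟩ : ∃ ζ : ℂ, IsPrimitiveRoot ζ (2 ^ k) :=
    ⟨_, Complex.isPrimitiveRoot_exp _ hN.ne'⟩
  obtain ⟨n, e, Q, hQsym, he, hdata⟩ :=
    exists_contrib_data hM x (2 ^ k) hN hxN C hxmem hxC ψ₀ ζ hζ
  obtain ⟨d, hd⟩ : ∃ d : ℕ, d = blockDefect 2 (blockOf M (ψ₀ : C → ℂ)) := ⟨_, rfl⟩
  rw [← hd] at hdata ⊢
  obtain ⟨bf, hbf⟩ : ∃ bf : Finset (IrrCharacter C), bf = irrFinset (blockOf M (ψ₀ : C → ℂ)) :=
    ⟨_, rfl⟩
  rw [← hbf] at hdata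
  obtain ⟨I, hI⟩ : ∃ I : Finset ℕ,
      I = (Finset.range (2 ^ k)).filter (fun i => i.Coprime (2 ^ k)) := ⟨_, rfl⟩
  have hIpos : 0 < I.card := by
    rw [Finset.card_pos]
    by_cases h1 : 2 ^ k = 1
    · refine ⟨0, ?_⟩
      rw [hI, Finset.mem_filter, Finset.mem_range, h1]
      exact ⟨Nat.one_pos, Nat.coprime_one_right 0⟩
    · refine ⟨1, ?_⟩
      rw [hI, Finset.mem_filter, Finset.mem_range]
      exact ⟨by omega, Nat.coprime_one_left _⟩
  have hIpos' : (0 : ℝ) < (I.card : ℝ) := by exact_mod_cast hIpos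
  obtain ⟨j, hj⟩ : ∃ j : IrrCharacter C → IrrCharacter C → ℕ,
      ∀ ξ ξ', j ξ ξ' = e ξ + (2 ^ k - e ξ') := ⟨_, fun _ _ => rfl⟩
  obtain ⟨μ, hμ⟩ : ∃ μ : IrrCharacter G → ℤ, ∀ χ, μ χ = ∑ ξ ∈ bf, ∑ ξ' ∈ bf,
      (n χ ξ : ℤ) * (n χ ξ' : ℤ) * Q ξ ξ' * tsign (ζ ^ j ξ ξ') := ⟨_, fun _ => rfl⟩
  have hB : IsPBlock M B := hind.2.1
  have hSB : S ⊆ irrFinset B := by
    intro χ hχ
    rw [mem_irrFinset]
    exact (hS χ hχ).1
  -- sums over the Galois conjugates of the diagonal contributions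
  have hK1 : ∀ χ : IrrCharacter G,
      ∑ γ ∈ I, ((2 : ℕ) : ℂ) ^ d * contrib 2 C (blockOf M (ψ₀ : C → ℂ)) (x ^ γ) χ χ =
        (I.card : ℂ) * (μ χ : ℂ) := by
    intro χ
    simp only [hdata]
    rw [Finset.sum_comm, hμ]
    push_cast
    rw [Finset.mul_sum]
    apply Finset.sum_congr rfl
    intro ξ _
    rw [Finset.sum_comm, Finset.mul_sum]
    apply Finset.sum_congr rfl
    intro ξ' _
    rw [← Finset.mul_sum]
    have h1 : ∑ γ ∈ I, (ζ ^ γ) ^ (e ξ + (2 ^ k - e ξ')) =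
        (I.card : ℂ) * (tsign (ζ ^ j ξ ξ') : ℂ) := by
      rw [hI, ← sum_coprime_two_pow k (ζ ^ j ξ ξ')
        (by rw [← pow_mul, mul_comm, pow_mul, hζ.pow_eq_one, one_pow])]
      apply Finset.sum_congr rfl
      intro γ _
      rw [hj, ← pow_mul, ← pow_mul, mul_comm]
    rw [h1]
    ring
  -- the subsections (x^γ, b)
  have hsub : ∀ γ ∈ I,
      (∀ χ : IrrCharacter G, ((∑ ψ ∈ irrFinset B,
          ‖contrib 2 C (blockOf M (ψ₀ : C → ℂ)) (x ^ γ) χ ψ‖ ^ 2 : ℝ) : ℂ) =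
        contrib 2 C (blockOf M (ψ₀ : C → ℂ)) (x ^ γ) χ χ) ∧
      ∑ χ ∈ irrFinset B, contrib 2 C (blockOf M (ψ₀ : C → ℂ)) (x ^ γ) χ χ =
        (blockRank 2 (blockOf M (ψ₀ : C → ℂ)) : ℂ) := by
    intro γ hγ
    rw [hI, Finset.mem_filter] at hγ
    have hγ' : γ.Coprime (orderOf x) := by rw [hk]; exact hγ.2
    obtain ⟨hxγ, hxCγ, hCxγ⟩ := subsection_pow x ⟨k, hk⟩ C hxC hCx γ hγ'
    have hCγ : C = Subgroup.centralizer ({x ^ γ} : Set G) := by
      ext g
      rw [Subgroup.mem_centralizer_singleton_iff]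
      exact ⟨fun hg => (hxCγ g hg).symm, fun hg => hCxγ g hg⟩
    have h0 : ∀ χ : IrrCharacter G, χ ∉ B → ∀ y : C, ¬ 2 ∣ orderOf y →
        blockPart (blockOf M (ψ₀ : C → ℂ)) (fun c : C => (χ : G → ℂ) (x ^ γ * (c : G))) y = 0 :=
      fun χ hχ y hy =>
        (secondMain_both' hM h2 (x ^ γ) hxγ C hCγ B hB χ _ ⟨ψ₀, rfl⟩).2 hχ hind y hy
    exact ⟨fun χ => sum_norm_sq_contrib hM (x ^ γ) hxγ C hxCγ hCxγ B ψ₀ h0 χ,
      sum_contrib_self hM (x ^ γ) hxγ C hxCγ hCxγ B ψ₀ h0⟩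
  obtain ⟨c, hc⟩ : ∃ c : ℕ → IrrCharacter G → ℝ, ∀ γ χ, c γ χ = ∑ ψ ∈ irrFinset B,
      ‖contrib 2 C (blockOf M (ψ₀ : C → ℂ)) (x ^ γ) χ ψ‖ ^ 2 := ⟨_, fun _ _ => rfl⟩
  have hc0 : ∀ γ χ, 0 ≤ c γ χ := by
    intro γ χ
    rw [hc]
    exact Finset.sum_nonneg (fun _ _ => by positivity)
  have hcC : ∀ γ ∈ I, ∀ χ : IrrCharacter G,
      ((c γ χ : ℝ) : ℂ) = contrib 2 C (blockOf M (ψ₀ : C → ℂ)) (x ^ γ) χ χ := by
    intro γ hγ χ
    rw [hc]
    exact (hsub γ hγ).1 χ
  have hK1' : ∀ χ : IrrCharacter G,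
      ∑ γ ∈ I, (2 : ℝ) ^ d * c γ χ = (I.card : ℝ) * (μ χ : ℝ) := by
    intro χ
    apply Complex.ofReal_injective
    push_cast
    rw [← hK1 χ]
    apply Finset.sum_congr rfl
    intro γ hγ
    rw [hcC γ hγ χ]
    norm_num
  -- the polynomials
  obtain ⟨f, hf⟩ : ∃ f : IrrCharacter G → IrrCharacter G → Polynomial ℤ,
      ∀ (χ ψ : IrrCharacter G) (γ : ℕ), Polynomial.aeval (ζ ^ γ) (f χ ψ) =
        ((2 : ℕ) : ℂ) ^ d * contrib 2 C (blockOf M (ψ₀ : C → ℂ)) (x ^ γ) χ ψ := by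
    refine ⟨fun χ ψ => ∑ ξ ∈ bf, ∑ ξ' ∈ bf,
        Polynomial.C ((n χ ξ : ℤ) * (n ψ ξ' : ℤ) * Q ξ ξ') *
          Polynomial.X ^ (e ξ + (2 ^ k - e ξ')), ?_⟩
    intro χ ψ γ
    rw [hdata, map_sum]
    apply Finset.sum_congr rfl
    intro ξ _
    rw [map_sum]
    apply Finset.sum_congr rfl
    intro ξ' _
    rw [map_mul, Polynomial.aeval_C, map_pow, Polynomial.aeval_X, eq_intCast]
    push_cast
    rfl
  have hunit : ∀ χ ∈ S, ∀ ψ ∈ S, ¬ MemLocalIdeal M
      (((2 : ℕ) : ℂ) ^ d * contrib 2 C (blockOf M (ψ₀ : C → ℂ)) x χ ψ) := by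
    intro χ hχ ψ hψ
    have h3 := not_memLocalIdeal_contrib hM x hxN C hxmem hxC ψ₀ B hind χ ψ (hS χ hχ).1
      (hS ψ hψ).1 (hS χ hχ).2 (hS ψ hψ).2
    rw [← hd] at h3
    exact h3
  refine ⟨μ, ?_, ?_, ?_⟩
  · -- parity
    intro χ hχ
    obtain ⟨F, hF⟩ : ∃ F : ℤ, F = ∑ ξ ∈ bf, ∑ ξ' ∈ bf,
        (n χ ξ : ℤ) * (n χ ξ' : ℤ) * Q ξ ξ' := ⟨_, rfl⟩
    have hF1 : MemLocalIdeal M ((F : ℂ) -
        ((2 : ℕ) : ℂ) ^ d * contrib 2 C (blockOf M (ψ₀ : C → ℂ)) x χ χ) := by
      have h1 := hdata χ χ 1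
      rw [pow_one, pow_one] at h1
      rw [h1, hF]
      push_cast
      rw [← Finset.sum_sub_distrib]
      apply memLocalIdeal_sum hMp
      intro ξ _
      rw [← Finset.sum_sub_distrib]
      apply memLocalIdeal_sum hMp
      intro ξ' _
      have h2 : MemLocalIdeal M (ζ ^ (e ξ + (2 ^ k - e ξ')) - 1) := by
        apply memLocalIdeal_sub_one_of_pow_eq_one hM (k := k)
        rw [← pow_mul, mul_comm, pow_mul, hζ.pow_eq_one, one_pow]
      have h3 : MemLocalRing M ((n χ ξ : ℂ) * (n χ ξ' : ℂ) * (Q ξ ξ' : ℂ)) :=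
        memLocalRing_mul hMp (memLocalRing_mul hMp (memLocalRing_natCast hMp _)
          (memLocalRing_natCast hMp _)) (memLocalRing_intCast hMp _)
      have h4 := memLocalIdeal_mul_left hMp h3 (memLocalIdeal_neg h2)
      convert h4 using 1
      ring
    have hF2 : ¬ MemLocalIdeal M (F : ℂ) := by
      intro hcon
      apply hunit χ hχ χ hχ
      have := memLocalIdeal_sub hMp hcon hF1
      rwa [sub_sub_cancel] at this
    have hFodd : Odd F := by
      rw [← Int.not_even_iff_odd]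
      intro hev
      apply hF2
      rw [memLocalIdeal_intCast_iff hM]
      exact_mod_cast even_iff_two_dvd.mp hev
    have hdiff : Even (μ χ - F) := by
      rw [even_iff_two_dvd]
      have h1 : (((μ χ - F : ℤ)) : ZMod 2) = 0 := by
        have h2 : μ χ - F = ∑ t ∈ bf ×ˢ bf,
            ((n χ t.1 : ℤ) * (n χ t.2 : ℤ) * Q t.1 t.2) * (tsign (ζ ^ j t.1 t.2) - 1) := by
          rw [hμ, hF, Finset.sum_product, ← Finset.sum_sub_distrib]
          apply Finset.sum_congr rfl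
          intro ξ _
          rw [← Finset.sum_sub_distrib]
          apply Finset.sum_congr rfl
          intro ξ' _
          ring
        rw [h2]
        push_cast
        have h3 : ∀ t : IrrCharacter C × IrrCharacter C,
            ((n χ t.1 : ZMod 2) * (n χ t.2 : ZMod 2) * (Q t.1 t.2 : ZMod 2)) *
              ((tsign (ζ ^ j t.1 t.2) : ZMod 2) - 1) =
            if tsign (ζ ^ j t.1 t.2) = 0 then
              ((n χ t.1 : ZMod 2) * (n χ t.2 : ZMod 2) * (Q t.1 t.2 : ZMod 2)) else 0 := by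
          intro t
          have h4 := tsign_sub_one_zmod (ζ ^ j t.1 t.2)
          push_cast at h4
          rw [h4]
          split_ifs
          · rw [mul_one]
          · rw [mul_zero]
        rw [Finset.sum_congr rfl (fun t _ => h3 t), ← Finset.sum_filter]
        apply Finset.sum_involution (fun t _ => Prod.swap t)
        · intro t ht
          rw [Finset.mem_filter, Finset.mem_product] at ht
          have hm1 : t.1 ∈ blockOf M (ψ₀ : C → ℂ) := by
            rw [← mem_irrFinset, ← hbf]; exact ht.1.1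
          have hm2 : t.2 ∈ blockOf M (ψ₀ : C → ℂ) := by
            rw [← mem_irrFinset, ← hbf]; exact ht.1.2
          rw [Prod.fst_swap, Prod.snd_swap, hQsym t.2 hm2 t.1 hm1,
            mul_comm (n χ t.2 : ZMod 2) (n χ t.1 : ZMod 2)]
          exact CharTwo.add_self_eq_zero _
        · intro t ht _ hswap
          rw [Finset.mem_filter] at ht
          have h5 : t.1 = t.2 := by
            have := congrArg Prod.fst hswap
            simpa using this.symm
          have h6 : ζ ^ j t.1 t.2 = 1 := by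
            rw [hj, h5, Nat.add_sub_cancel' (he t.2).le, hζ.pow_eq_one]
          rw [h6, tsign_one] at ht
          exact one_ne_zero ht.2
        · intro t ht
          rw [Finset.mem_filter, Finset.mem_product] at ht ⊢
          refine ⟨⟨ht.1.2, ht.1.1⟩, ?_⟩
          rw [Prod.fst_swap, Prod.snd_swap]
          have h7 : ζ ^ j t.2 t.1 = (ζ ^ j t.1 t.2)⁻¹ := by
            apply eq_inv_of_mul_eq_one_left
            rw [← pow_add, hj, hj]
            have h8 : e t.2 + (2 ^ k - e t.1) + (e t.1 + (2 ^ k - e t.2)) = 2 ^ k * 2 := by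
              have := he t.1
              have := he t.2
              omega
            rw [h8, pow_mul, hζ.pow_eq_one, one_pow]
          rw [h7, tsign_inv]
          exact ht.2
        · intro t _
          exact Prod.swap_swap t
      exact_mod_cast (ZMod.intCast_zmod_eq_zero_iff_dvd (μ χ - F) 2).mp h1
    have := hFodd.add_even hdiff
    rwa [add_sub_cancel] at this
  · -- row sums
    intro χ hχ
    have hlow : ∀ ψ ∈ S, (I.card : ℝ) ≤ ∑ γ ∈ I, ‖Polynomial.aeval (ζ ^ γ) (f χ ψ)‖ ^ 2 := by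
      intro ψ hψ
      rw [hI]
      apply Cfsg.Agent.H79.card_le_sum_sq_norm_aeval_pow hN hζ
      have h1 := hf χ ψ 1
      rw [pow_one, pow_one] at h1
      rw [h1]
      intro h0
      apply hunit χ hχ ψ hψ
      rw [h0]
      exact memLocalIdeal_zero hMp
    have h1 : ∀ (ψ : IrrCharacter G) (γ : ℕ), ‖Polynomial.aeval (ζ ^ γ) (f χ ψ)‖ ^ 2 =
        (2 : ℝ) ^ (2 * d) * ‖contrib 2 C (blockOf M (ψ₀ : C → ℂ)) (x ^ γ) χ ψ‖ ^ 2 := by
      intro ψ γ
      rw [hf, norm_mul, mul_pow, norm_pow, Complex.norm_natCast, ← pow_mul, mul_comm d 2]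
      norm_num
    have hmain : (S.card : ℝ) * (I.card : ℝ) ≤ (I.card : ℝ) * ((2 : ℝ) ^ d * (μ χ : ℝ)) := by
      calc (S.card : ℝ) * (I.card : ℝ) = ∑ ψ ∈ S, (I.card : ℝ) := by
            rw [Finset.sum_const, nsmul_eq_mul]
        _ ≤ ∑ ψ ∈ S, ∑ γ ∈ I, ‖Polynomial.aeval (ζ ^ γ) (f χ ψ)‖ ^ 2 :=
            Finset.sum_le_sum hlow
        _ = ∑ γ ∈ I, ∑ ψ ∈ S, (2 : ℝ) ^ (2 * d) *
              ‖contrib 2 C (blockOf M (ψ₀ : C → ℂ)) (x ^ γ) χ ψ‖ ^ 2 := by
            rw [Finset.sum_comm]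
            apply Finset.sum_congr rfl
            intro γ _
            apply Finset.sum_congr rfl
            intro ψ _
            exact h1 ψ γ
        _ ≤ ∑ γ ∈ I, (2 : ℝ) ^ (2 * d) * c γ χ := by
            apply Finset.sum_le_sum
            intro γ _
            rw [← Finset.mul_sum, hc]
            apply mul_le_mul_of_nonneg_left _ (by positivity)
            exact Finset.sum_le_sum_of_subset_of_nonneg hSB (fun _ _ _ => by positivity)
        _ = (2 : ℝ) ^ d * ∑ γ ∈ I, (2 : ℝ) ^ d * c γ χ := by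
            rw [Finset.mul_sum]
            apply Finset.sum_congr rfl
            intro γ _
            rw [two_mul, pow_add]
            ring
        _ = (I.card : ℝ) * ((2 : ℝ) ^ d * (μ χ : ℝ)) := by
            rw [hK1' χ]
            ring
    have hfin : (S.card : ℝ) ≤ (2 : ℝ) ^ d * (μ χ : ℝ) := by
      rw [mul_comm (S.card : ℝ)] at hmain
      exact le_of_mul_le_mul_left hmain hIpos'
    exact_mod_cast hfin
  · -- trace
    have htr : ∀ γ ∈ I, ∑ χ ∈ irrFinset B, c γ χ =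
        (blockRank 2 (blockOf M (ψ₀ : C → ℂ)) : ℝ) := by
      intro γ hγ
      apply Complex.ofReal_injective
      push_cast
      rw [← (hsub γ hγ).2]
      apply Finset.sum_congr rfl
      intro χ _
      exact hcC γ hγ χ
    have hmain : (I.card : ℝ) * ((∑ χ ∈ S, μ χ : ℤ) : ℝ) ≤
        (I.card : ℝ) * ((2 : ℝ) ^ d * (blockRank 2 (blockOf M (ψ₀ : C → ℂ)) : ℝ)) := by
      calc (I.card : ℝ) * ((∑ χ ∈ S, μ χ : ℤ) : ℝ)
          = ∑ χ ∈ S, ∑ γ ∈ I, (2 : ℝ) ^ d * c γ χ := by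
            push_cast
            rw [Finset.mul_sum]
            apply Finset.sum_congr rfl
            intro χ _
            rw [hK1' χ]
        _ = ∑ γ ∈ I, (2 : ℝ) ^ d * ∑ χ ∈ S, c γ χ := by
            rw [Finset.sum_comm]
            apply Finset.sum_congr rfl
            intro γ _
            rw [Finset.mul_sum]
        _ ≤ ∑ γ ∈ I, (2 : ℝ) ^ d * (blockRank 2 (blockOf M (ψ₀ : C → ℂ)) : ℝ) := by
            apply Finset.sum_le_sum
            intro γ hγ
            apply mul_le_mul_of_nonneg_left _ (by positivity)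
            rw [← htr γ hγ]
            exact Finset.sum_le_sum_of_subset_of_nonneg hSB (fun χ _ _ => hc0 γ χ)
        _ = _ := by rw [Finset.sum_const, nsmul_eq_mul]
    have hfin := le_of_mul_le_mul_left hmain hIpos'
    exact_mod_cast hfin

end MuTwo

section Arith

/-- The arithmetic behind the `2`-block bounds. -/
theorem sqrt_bound_arith (k₀ P l m : ℕ) (hm : Odd m) (hA : k₀ ≤ P * m) (hB : k₀ * m ≤ P * l)
    (hk : 0 < k₀) :
    (Odd (Nat.sqrt l) → k₀ ≤ Nat.sqrt l * P) ∧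
      (¬ Odd (Nat.sqrt l) → (Nat.sqrt l + 1) * k₀ ≤ l * P) ∧ (l ≤ 3 → k₀ ≤ P) := by
  obtain ⟨s, hs⟩ : ∃ s : ℕ, s = Nat.sqrt l := ⟨_, rfl⟩
  rw [← hs]
  have hs1 : s * s ≤ l := by rw [hs]; exact Nat.sqrt_le l
  have hs2 : l < (s + 1) * (s + 1) := by rw [hs]; exact Nat.lt_succ_sqrt l
  have hmpos : 0 < m := hm.pos
  have hm2 : m % 2 = 1 := Nat.odd_iff.mp hm
  have h1 : Odd s → k₀ ≤ s * P := by
    intro hso
    have hs3 : s % 2 = 1 := Nat.odd_iff.mp hso
    by_cases hms : m ≤ s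
    · calc k₀ ≤ P * m := hA
        _ ≤ P * s := Nat.mul_le_mul_left _ hms
        _ = s * P := mul_comm _ _
    · have h3 : s + 2 ≤ m := by omega
      have hl : l ≤ s * (s + 2) := by nlinarith
      have h4 : k₀ * m ≤ (s * P) * m := by
        calc k₀ * m ≤ P * l := hB
          _ ≤ P * (s * (s + 2)) := Nat.mul_le_mul_left _ hl
          _ ≤ P * (s * m) := Nat.mul_le_mul_left _ (Nat.mul_le_mul_left _ h3)
          _ = (s * P) * m := by ring
      exact Nat.le_of_mul_le_mul_right h4 hmpos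
  refine ⟨h1, ?_, ?_⟩
  · intro hso
    have hs3 : s % 2 = 0 := by
      rcases Nat.mod_two_eq_zero_or_one s with h | h
      · exact h
      · exact absurd (Nat.odd_iff.mpr h) hso
    by_cases hms : s + 1 ≤ m
    · calc (s + 1) * k₀ ≤ m * k₀ := Nat.mul_le_mul_right _ hms
        _ = k₀ * m := mul_comm _ _
        _ ≤ P * l := hB
        _ = l * P := mul_comm _ _
    · have h3 : m + 1 ≤ s := by omega
      have h4 : (s + 1) * m ≤ s * s := by nlinarith [Nat.mul_le_mul_left (s + 1) h3]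
      calc (s + 1) * k₀ ≤ (s + 1) * (P * m) := Nat.mul_le_mul_left _ hA
        _ = P * ((s + 1) * m) := by ring
        _ ≤ P * (s * s) := Nat.mul_le_mul_left _ h4
        _ ≤ P * l := Nat.mul_le_mul_left _ hs1
        _ = l * P := mul_comm _ _
  · intro hl3
    have hl1 : 1 ≤ l := by
      by_contra hcon
      have hl0 : l = 0 := by omega
      rw [hl0, mul_zero] at hB
      have : 0 < k₀ * m := Nat.mul_pos hk hmpos
      omega
    have hs4 : s = 1 := by
      have h5 : s ≤ 1 := by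
        by_contra hcon
        have : 2 ≤ s := by omega
        nlinarith
      have h6 : 1 ≤ s := by
        by_contra hcon
        have : s = 0 := by omega
        rw [this] at hs2
        omega
      omega
    have := h1 (by rw [hs4]; exact odd_one)
    rw [hs4, one_mul] at this
    exact this

end Arith

section TwoBound

variable {G : Type u} [Group G] [Fintype G] {M : Ideal AlgInt}

/-- The bounds for `2`-blocks: for a subsection `(x, b)` with `b` of defect `q` and `2`-regular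
rank `l`, `s = ⌊√l⌋` and `k₀` height zero characters in `B`. -/
theorem two_block_bound [Fact (Nat.Prime 2)] (hM : IsPModular 2 M) (h2 : SecondMain 2 M G)
    (x : G) (hx : ∃ k : ℕ, orderOf x = 2 ^ k) (C : Subgroup G) [Fintype C]
    (hxC : ∀ c ∈ C, x * c = c * x) (hCx : ∀ g : G, g * x = x * g → g ∈ C)
    (ψ₀ : IrrCharacter C) (B : Set (IrrCharacter G))
    (hind : IsInducedBlock M C (blockOf M (ψ₀ : C → ℂ)) B)
    (S : Finset (IrrCharacter G))
    (hS : ∀ χ ∈ S, χ ∈ B ∧ blockHeight 2 B (χ : G → ℂ) = 0) :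
    (Odd (Nat.sqrt (blockRank 2 (blockOf M (ψ₀ : C → ℂ)))) →
        S.card ≤ Nat.sqrt (blockRank 2 (blockOf M (ψ₀ : C → ℂ))) *
          2 ^ blockDefect 2 (blockOf M (ψ₀ : C → ℂ))) ∧
      (¬ Odd (Nat.sqrt (blockRank 2 (blockOf M (ψ₀ : C → ℂ)))) →
        (Nat.sqrt (blockRank 2 (blockOf M (ψ₀ : C → ℂ))) + 1) * S.card ≤
          blockRank 2 (blockOf M (ψ₀ : C → ℂ)) * 2 ^ blockDefect 2 (blockOf M (ψ₀ : C → ℂ))) ∧
      (blockRank 2 (blockOf M (ψ₀ : C → ℂ)) ≤ 3 →
        S.card ≤ 2 ^ blockDefect 2 (blockOf M (ψ₀ : C → ℂ))) := by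
  classical
  rcases S.eq_empty_or_nonempty with hempty | hne
  · rw [hempty, Finset.card_empty]
    exact ⟨fun _ => Nat.zero_le _, fun _ => by simp, fun _ => Nat.zero_le _⟩
  · obtain ⟨μ, hodd, hrow, htr⟩ := exists_mu_two hM h2 x hx C hxC hCx ψ₀ B hind S hS
    obtain ⟨χ₁, hχ₁, hmin⟩ := Finset.exists_min_image S μ hne
    have hk : 0 < S.card := Finset.card_pos.mpr hne
    have hrow1 := hrow χ₁ hχ₁
    have hμpos : 0 < μ χ₁ := by
      by_contra hcon
      have h1 : μ χ₁ ≤ 0 := not_lt.mp hcon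
      have h2 : (2 : ℤ) ^ blockDefect 2 (blockOf M (ψ₀ : C → ℂ)) * μ χ₁ ≤ 0 :=
        mul_nonpos_of_nonneg_of_nonpos (by positivity) h1
      have h3 : (0 : ℤ) < (S.card : ℤ) := by exact_mod_cast hk
      omega
    obtain ⟨m, hm⟩ : ∃ m : ℕ, μ χ₁ = (m : ℤ) := ⟨(μ χ₁).toNat, (Int.toNat_of_nonneg hμpos.le).symm⟩
    have hmodd : Odd m := by
      have := hodd χ₁ hχ₁
      rw [hm] at this
      exact_mod_cast this
    have hA : S.card ≤ 2 ^ blockDefect 2 (blockOf M (ψ₀ : C → ℂ)) * m := by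
      rw [hm] at hrow1
      exact_mod_cast hrow1
    have hB : S.card * m ≤ 2 ^ blockDefect 2 (blockOf M (ψ₀ : C → ℂ)) *
        blockRank 2 (blockOf M (ψ₀ : C → ℂ)) := by
      have h1 : (S.card : ℤ) * (m : ℤ) ≤ ∑ χ ∈ S, μ χ := by
        rw [← hm]
        have := Finset.card_nsmul_le_sum S μ (μ χ₁) hmin
        rw [nsmul_eq_mul] at this
        exact this
      have h2 := h1.trans htr
      exact_mod_cast h2
    exact sqrt_bound_arith S.card _ _ m hmodd hA hB hk

end TwoBound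

end Cfsg.Agent.H84
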