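import Cfsg.Agent.H81.CycDefs
import Cfsg.Agent.H32.Dual
import Cfsg.Agent.H32.SNC2

/-! S1502 piece EQON (helper81's project): a pre-family (the cyclic TI family without `eq_on`)
automatically satisfies `χ ω w = ω w` for `w ∈ W` outside `W₁ ∪ W₂`. -/

set_option autoImplicit false
open Cfsg

namespace Cfsg.Agent.H84.Cyc

open Cfsg.Agent.H4 Cfsg.Agent.H32 Cfsg.Agent.H81.Cyc

universe u

theorem eqOn : StmtEqOn.{u} := by
  intro G _ _ W₁ W₂ hW χ hχ ω w hw₁ hw₂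
  classical
  have : Fintype ↥(W₁ ⊔ W₂) := Fintype.ofFinite _
  have : Fintype (↥(W₁ ⊔ W₂) →* ℂˣ) := Fintype.ofFinite _
  have hcomm : ∀ a b : ↥(W₁ ⊔ W₂), a * b = b * a := by
    intro a b
    exact Subtype.ext (snc_comm W₁ W₂ hW a.2 b.2)
  have hcard : (Nat.card ↥(W₁ ⊔ W₂) : ℂ) ≠ 0 := by
    have : 0 < Nat.card ↥(W₁ ⊔ W₂) := Nat.card_pos
    exact_mod_cast this.ne'
  set N : ℂ := (Nat.card ↥(W₁ ⊔ W₂) : ℂ) with hN
  set H₁ : Subgroup ↥(W₁ ⊔ W₂) := W₁.subgroupOf (W₁ ⊔ W₂) with hH₁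
  set H₂ : Subgroup ↥(W₁ ⊔ W₂) := W₂.subgroupOf (W₁ ⊔ W₂) with hH₂
  set SA := Finset.univ.filter (fun φ : ↥(W₁ ⊔ W₂) →* ℂˣ => ∀ y ∈ H₂, φ y = 1) with hSA
  set SB := Finset.univ.filter (fun ψ : ↥(W₁ ⊔ W₂) →* ℂˣ => ∀ y ∈ H₁, ψ y = 1) with hSB
  have hwH₁ : w ∉ H₁ := fun h => hw₁ (Subgroup.mem_subgroupOf.mp h)
  have hwH₂ : w ∉ H₂ := fun h => hw₂ (Subgroup.mem_subgroupOf.mp h)
  have memSA : ∀ φ : ↥(W₁ ⊔ W₂) →* ℂˣ, φ ∈ SA ↔ ∀ y : ↥(W₁ ⊔ W₂), (y : G) ∈ W₂ → φ y = 1 := by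
    intro φ
    rw [hSA, Finset.mem_filter]
    constructor
    · intro h y hy
      exact h.2 y (Subgroup.mem_subgroupOf.mpr hy)
    · intro h
      exact ⟨Finset.mem_univ _, fun y hy => h y (Subgroup.mem_subgroupOf.mp hy)⟩
  have memSB : ∀ ψ : ↥(W₁ ⊔ W₂) →* ℂˣ, ψ ∈ SB ↔ ∀ y : ↥(W₁ ⊔ W₂), (y : G) ∈ W₁ → ψ y = 1 := by
    intro ψ
    rw [hSB, Finset.mem_filter]
    constructor
    · intro h y hy
      exact h.2 y (Subgroup.mem_subgroupOf.mpr hy)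
    · intro h
      exact ⟨Finset.mem_univ _, fun y hy => h y (Subgroup.mem_subgroupOf.mp hy)⟩
  -- decomposition of `ω`
  obtain ⟨φ₀, ψ₀, hφ₀, hψ₀, hω⟩ := snc_decomp W₁ W₂ hW ω
  have huniq : ∀ φ ψ : ↥(W₁ ⊔ W₂) →* ℂˣ, φ ∈ SA → ψ ∈ SB → φ * ψ = ω → φ = φ₀ ∧ ψ = ψ₀ := by
    intro φ ψ hφ hψ h
    exact snc_mul_eq_mul W₁ W₂ φ φ₀ ψ ψ₀ ((memSA φ).mp hφ) hφ₀ ((memSB ψ).mp hψ) hψ₀
      (h.trans hω)
  set c : (↥(W₁ ⊔ W₂) →* ℂˣ) → ℂ := fun ν => if ν = ω then 1 else 0 with hc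
  have hA0 : ∑ φ ∈ SA, (starRingEnd ℂ) (φ w : ℂ) = 0 := by
    rw [← map_sum, sum_dual_eq_zero hcomm H₂ hwH₂, map_zero]
  have hB0 : ∑ ψ ∈ SB, (starRingEnd ℂ) (ψ w : ℂ) = 0 := by
    rw [← map_sum, sum_dual_eq_zero hcomm H₁ hwH₁, map_zero]
  -- the main identity, for an arbitrary function `θ` on `W`
  have main : ∀ θ : ↥(W₁ ⊔ W₂) → ℂ,
      (∀ φ ψ : ↥(W₁ ⊔ W₂) →* ℂˣ, φ ∈ SA → ψ ∈ SB →
        ∑ x : ↥(W₁ ⊔ W₂), (1 - (φ x : ℂ) - (ψ x : ℂ) + (φ x : ℂ) * (ψ x : ℂ)) *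
          (starRingEnd ℂ) (θ x) = N * (c (φ * ψ) + c 1 - c φ - c ψ)) →
      (SA.card : ℂ) * (SB.card : ℂ) * (starRingEnd ℂ) (θ w) =
        N * (starRingEnd ℂ) (ω w : ℂ) := by
    intro θ key
    have hLHS : ∑ φ ∈ SA, ∑ ψ ∈ SB, (starRingEnd ℂ) (φ w : ℂ) * (starRingEnd ℂ) (ψ w : ℂ) *
        ∑ x : ↥(W₁ ⊔ W₂), (1 - (φ x : ℂ) - (ψ x : ℂ) + (φ x : ℂ) * (ψ x : ℂ)) *
          (starRingEnd ℂ) (θ x) =
        ∑ x : ↥(W₁ ⊔ W₂), (∑ φ ∈ SA, (starRingEnd ℂ) (φ w : ℂ) * (1 - (φ x : ℂ))) *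
          (∑ ψ ∈ SB, (starRingEnd ℂ) (ψ w : ℂ) * (1 - (ψ x : ℂ))) * (starRingEnd ℂ) (θ x) := by
      calc ∑ φ ∈ SA, ∑ ψ ∈ SB, (starRingEnd ℂ) (φ w : ℂ) * (starRingEnd ℂ) (ψ w : ℂ) *
            ∑ x : ↥(W₁ ⊔ W₂), (1 - (φ x : ℂ) - (ψ x : ℂ) + (φ x : ℂ) * (ψ x : ℂ)) *
              (starRingEnd ℂ) (θ x)
          = ∑ φ ∈ SA, ∑ ψ ∈ SB, ∑ x : ↥(W₁ ⊔ W₂),
              ((starRingEnd ℂ) (φ w : ℂ) * (1 - (φ x : ℂ))) *
              ((starRingEnd ℂ) (ψ w : ℂ) * (1 - (ψ x : ℂ))) * (starRingEnd ℂ) (θ x) := by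
            apply Finset.sum_congr rfl
            intro φ _
            apply Finset.sum_congr rfl
            intro ψ _
            rw [Finset.mul_sum]
            apply Finset.sum_congr rfl
            intro x _
            ring
        _ = ∑ φ ∈ SA, ∑ x : ↥(W₁ ⊔ W₂), ∑ ψ ∈ SB,
              ((starRingEnd ℂ) (φ w : ℂ) * (1 - (φ x : ℂ))) *
              ((starRingEnd ℂ) (ψ w : ℂ) * (1 - (ψ x : ℂ))) * (starRingEnd ℂ) (θ x) := by
            apply Finset.sum_congr rfl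
            intro φ _
            exact Finset.sum_comm
        _ = ∑ x : ↥(W₁ ⊔ W₂), ∑ φ ∈ SA, ∑ ψ ∈ SB,
              ((starRingEnd ℂ) (φ w : ℂ) * (1 - (φ x : ℂ))) *
              ((starRingEnd ℂ) (ψ w : ℂ) * (1 - (ψ x : ℂ))) * (starRingEnd ℂ) (θ x) :=
            Finset.sum_comm
        _ = _ := by
            apply Finset.sum_congr rfl
            intro x _
            rw [Finset.sum_mul_sum, Finset.sum_mul]
            apply Finset.sum_congr rfl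
            intro φ _
            rw [Finset.sum_mul]
    have hP : ∀ x : ↥(W₁ ⊔ W₂), ∑ φ ∈ SA, (starRingEnd ℂ) (φ w : ℂ) * (1 - (φ x : ℂ)) =
        if w⁻¹ * x ∈ H₂ then -(SA.card : ℂ) else 0 := by
      intro x
      exact sum_dual_conj_one_sub hcomm H₂ hwH₂ x
    have hQ : ∀ x : ↥(W₁ ⊔ W₂), ∑ ψ ∈ SB, (starRingEnd ℂ) (ψ w : ℂ) * (1 - (ψ x : ℂ)) =
        if w⁻¹ * x ∈ H₁ then -(SB.card : ℂ) else 0 := by
      intro x
      exact sum_dual_conj_one_sub hcomm H₁ hwH₁ x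
    have hR : ∑ x : ↥(W₁ ⊔ W₂), (∑ φ ∈ SA, (starRingEnd ℂ) (φ w : ℂ) * (1 - (φ x : ℂ))) *
          (∑ ψ ∈ SB, (starRingEnd ℂ) (ψ w : ℂ) * (1 - (ψ x : ℂ))) * (starRingEnd ℂ) (θ x) =
        (SA.card : ℂ) * (SB.card : ℂ) * (starRingEnd ℂ) (θ w) := by
      rw [Finset.sum_congr rfl (fun x _ => by rw [hP x, hQ x])]
      rw [Finset.sum_eq_single w]
      · have h1 : w⁻¹ * w ∈ H₁ := by rw [inv_mul_cancel]; exact H₁.one_mem
        have h2 : w⁻¹ * w ∈ H₂ := by rw [inv_mul_cancel]; exact H₂.one_mem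
        rw [if_pos h1, if_pos h2]
        ring
      · intro x _ hx
        by_cases h2 : w⁻¹ * x ∈ H₂
        · by_cases h1 : w⁻¹ * x ∈ H₁
          · exfalso
            apply hx
            have hinf := hW.2.2.1
            have hmem : ((w⁻¹ * x : ↥(W₁ ⊔ W₂)) : G) ∈ W₁ ⊓ W₂ :=
              ⟨Subgroup.mem_subgroupOf.mp h1, Subgroup.mem_subgroupOf.mp h2⟩
            rw [hinf, Subgroup.mem_bot] at hmem
            have h5 : w⁻¹ * x = 1 := Subtype.ext hmem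
            exact (inv_mul_eq_one.mp h5).symm
          · rw [if_neg h1, mul_zero, zero_mul]
        · rw [if_neg h2, zero_mul, zero_mul]
      · intro h
        exact absurd (Finset.mem_univ w) h
    -- the other evaluation
    have hS : ∑ φ ∈ SA, ∑ ψ ∈ SB, (starRingEnd ℂ) (φ w : ℂ) * (starRingEnd ℂ) (ψ w : ℂ) *
        ∑ x : ↥(W₁ ⊔ W₂), (1 - (φ x : ℂ) - (ψ x : ℂ) + (φ x : ℂ) * (ψ x : ℂ)) *
          (starRingEnd ℂ) (θ x) = N * (starRingEnd ℂ) (ω w : ℂ) := by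
      have e1 : ∀ φ ∈ SA, ∑ ψ ∈ SB, (starRingEnd ℂ) (φ w : ℂ) * (starRingEnd ℂ) (ψ w : ℂ) *
          ∑ x : ↥(W₁ ⊔ W₂), (1 - (φ x : ℂ) - (ψ x : ℂ) + (φ x : ℂ) * (ψ x : ℂ)) *
            (starRingEnd ℂ) (θ x) =
          N * ((starRingEnd ℂ) (φ w : ℂ) * ∑ ψ ∈ SB, (starRingEnd ℂ) (ψ w : ℂ) * c (φ * ψ)) -
            N * (starRingEnd ℂ) (φ w : ℂ) * ∑ ψ ∈ SB, (starRingEnd ℂ) (ψ w : ℂ) * c ψ := by
        intro φ hφ
        have e2 : ∀ ψ ∈ SB, (starRingEnd ℂ) (φ w : ℂ) * (starRingEnd ℂ) (ψ w : ℂ) *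
            ∑ x : ↥(W₁ ⊔ W₂), (1 - (φ x : ℂ) - (ψ x : ℂ) + (φ x : ℂ) * (ψ x : ℂ)) *
              (starRingEnd ℂ) (θ x) =
            N * (starRingEnd ℂ) (φ w : ℂ) * ((starRingEnd ℂ) (ψ w : ℂ) * c (φ * ψ)) +
              N * (starRingEnd ℂ) (φ w : ℂ) * (c 1 - c φ) * (starRingEnd ℂ) (ψ w : ℂ) -
              N * (starRingEnd ℂ) (φ w : ℂ) * ((starRingEnd ℂ) (ψ w : ℂ) * c ψ) := by
          intro ψ hψ
          rw [key φ ψ hφ hψ]
          ring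
        rw [Finset.sum_congr rfl e2, Finset.sum_sub_distrib, Finset.sum_add_distrib,
          ← Finset.mul_sum, ← Finset.mul_sum, ← Finset.mul_sum, hB0]
        ring
      rw [Finset.sum_congr rfl e1, Finset.sum_sub_distrib, ← Finset.mul_sum, ← Finset.sum_mul,
        ← Finset.mul_sum, hA0]
      have e3 : ∑ φ ∈ SA, (starRingEnd ℂ) (φ w : ℂ) *
          ∑ ψ ∈ SB, (starRingEnd ℂ) (ψ w : ℂ) * c (φ * ψ) =
          (starRingEnd ℂ) (ω w : ℂ) := by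
        rw [Finset.sum_eq_single φ₀]
        · rw [Finset.sum_eq_single ψ₀]
          · have : c (φ₀ * ψ₀) = 1 := by
              rw [hc]
              simp only
              rw [if_pos hω.symm]
            rw [this, mul_one, hω, MonoidHom.mul_apply, Units.val_mul, map_mul]
          · intro ψ hψ hne
            have : c (φ₀ * ψ) = 0 := by
              rw [hc]
              simp only
              rw [if_neg]
              intro h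
              exact hne (huniq φ₀ ψ ((memSA φ₀).mpr hφ₀) hψ h).2
            rw [this, mul_zero]
          · intro h
            exact absurd ((memSB ψ₀).mpr hψ₀) h
        · intro φ hφ hne
          have : ∑ ψ ∈ SB, (starRingEnd ℂ) (ψ w : ℂ) * c (φ * ψ) = 0 := by
            apply Finset.sum_eq_zero
            intro ψ hψ
            have : c (φ * ψ) = 0 := by
              rw [hc]
              simp only
              rw [if_neg]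
              intro h
              exact hne (huniq φ ψ hφ hψ h).1
            rw [this, mul_zero]
          rw [this, mul_zero]
        · intro h
          exact absurd ((memSA φ₀).mpr hφ₀) h
      rw [e3]
      ring
    rw [← hR, ← hLHS, hS]
  -- apply to `χ ω`
  have hθc : IsClassFunction G (χ ω) := by
    rcases hχ.irr_or_neg ω with h | h
    · exact isClassFunction_of_isCharacter (isCharacter_of_isIrrCharacter h)
    · intro g h'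
      have := (isClassFunction_of_isCharacter (isCharacter_of_isIrrCharacter h)) g h'
      simpa using this
  have hcχ : ∀ ν : ↥(W₁ ⊔ W₂) →* ℂˣ, classInner (χ ν) (χ ω) = c ν := by
    intro ν
    rw [hc]
    simp only
    by_cases h : ν = ω
    · rw [if_pos h, h]
      exact hχ.norm_one ω
    · rw [if_neg h]
      exact hχ.orth ν ω h
  have key1 : ∀ φ ψ : ↥(W₁ ⊔ W₂) →* ℂˣ, φ ∈ SA → ψ ∈ SB →
      ∑ x : ↥(W₁ ⊔ W₂), (1 - (φ x : ℂ) - (ψ x : ℂ) + (φ x : ℂ) * (ψ x : ℂ)) *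
        (starRingEnd ℂ) (χ ω x) = N * (c (φ * ψ) + c 1 - c φ - c ψ) := by
    intro φ ψ hφ hψ
    by_cases hφ1 : φ = 1
    · subst hφ1
      have e00 : (1 : ↥(W₁ ⊔ W₂) →* ℂˣ) * ψ = ψ := one_mul ψ
      have e0 : c (1 * ψ) + c 1 - c 1 - c ψ = 0 := by rw [e00]; ring
      rw [e0, mul_zero]
      simp
    by_cases hψ1 : ψ = 1
    · subst hψ1
      have e00 : φ * (1 : ↥(W₁ ⊔ W₂) →* ℂˣ) = φ := mul_one φ
      have e0 : c (φ * 1) + c 1 - c φ - c 1 = 0 := by rw [e00]; ring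
      rw [e0, mul_zero]
      simp
    have hind := hχ.induced_eq φ ψ hφ1 hψ1 ((memSA φ).mp hφ) ((memSB ψ).mp hψ)
    have h0 : classInner (indFun (W₁ ⊔ W₂)
        (fun w => 1 - (φ w : ℂ) - (ψ w : ℂ) + (φ w : ℂ) * (ψ w : ℂ))) (χ ω) =
        c (φ * ψ) + c 1 - c φ - c ψ := by
      rw [hind]
      have e : (fun g => 1 - χ φ g - χ ψ g + χ (φ * ψ) g) = χ 1 - χ φ - χ ψ + χ (φ * ψ) := by
        ext g
        simp [hχ.map_one]
      rw [e, classInner_add_left, classInner_sub_left, classInner_sub_left, hcχ, hcχ, hcχ, hcχ]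
      ring
    rw [frobenius_reciprocity _ _ _ hθc] at h0
    unfold classInner at h0
    rw [inv_mul_eq_iff_eq_mul₀ hcard] at h0
    exact h0
  have r1 := main (fun x => χ ω x) key1
  -- apply to `ω` itself
  have hν : ∀ ν : ↥(W₁ ⊔ W₂) →* ℂˣ,
      ∑ x : ↥(W₁ ⊔ W₂), (ν x : ℂ) * (starRingEnd ℂ) (ω x : ℂ) = N * c ν := by
    intro ν
    have h := classInner_unitsHom ν ω
    unfold classInner at h
    rw [inv_mul_eq_iff_eq_mul₀ hcard] at h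
    rw [h, hc]
  have key2 : ∀ φ ψ : ↥(W₁ ⊔ W₂) →* ℂˣ, φ ∈ SA → ψ ∈ SB →
      ∑ x : ↥(W₁ ⊔ W₂), (1 - (φ x : ℂ) - (ψ x : ℂ) + (φ x : ℂ) * (ψ x : ℂ)) *
        (starRingEnd ℂ) (ω x : ℂ) = N * (c (φ * ψ) + c 1 - c φ - c ψ) := by
    intro φ ψ _ _
    have e : ∀ x : ↥(W₁ ⊔ W₂), (1 - (φ x : ℂ) - (ψ x : ℂ) + (φ x : ℂ) * (ψ x : ℂ)) *
        (starRingEnd ℂ) (ω x : ℂ) =
        (((φ * ψ) x : ℂˣ) : ℂ) * (starRingEnd ℂ) (ω x : ℂ) +
          (((1 : ↥(W₁ ⊔ W₂) →* ℂˣ) x : ℂˣ) : ℂ) * (starRingEnd ℂ) (ω x : ℂ) -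
          (φ x : ℂ) * (starRingEnd ℂ) (ω x : ℂ) - (ψ x : ℂ) * (starRingEnd ℂ) (ω x : ℂ) := by
      intro x
      rw [MonoidHom.mul_apply, Units.val_mul, MonoidHom.one_apply, Units.val_one]
      ring
    rw [Finset.sum_congr rfl (fun x _ => e x), Finset.sum_sub_distrib, Finset.sum_sub_distrib,
      Finset.sum_add_distrib, hν, hν, hν, hν]
    ring
  have r2 := main (fun x => (ω x : ℂ)) key2
  have hA : (SA.card : ℂ) ≠ 0 := by
    have : (1 : ↥(W₁ ⊔ W₂) →* ℂˣ) ∈ SA := (memSA 1).mpr (fun _ _ => rfl)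
    have hpos : 0 < SA.card := Finset.card_pos.mpr ⟨1, this⟩
    exact_mod_cast hpos.ne'
  have hB : (SB.card : ℂ) ≠ 0 := by
    have : (1 : ↥(W₁ ⊔ W₂) →* ℂˣ) ∈ SB := (memSB 1).mpr (fun _ _ => rfl)
    have hpos : 0 < SB.card := Finset.card_pos.mpr ⟨1, this⟩
    exact_mod_cast hpos.ne'
  have r3 : (SA.card : ℂ) * (SB.card : ℂ) * (starRingEnd ℂ) (χ ω w) =
      (SA.card : ℂ) * (SB.card : ℂ) * (starRingEnd ℂ) (ω w : ℂ) := by
    rw [r1, r2]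
  have r4 : (starRingEnd ℂ) (χ ω w) = (starRingEnd ℂ) (ω w : ℂ) :=
    mul_left_cancel₀ (mul_ne_zero hA hB) r3
  exact (starRingEnd ℂ).injective r4

example : StmtEqOn.{u} := eqOn

end Cfsg.Agent.H84.Cyc
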