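import Cfsg.Agent.H84.GsGood

/-!
# GS-SPAN (helper84, for helper86's S5665 project)

If `v` is orthogonal to every good vector that is `K`-orthogonal to `u`, then `v` lies in the span of
`u` and `J u`.
-/

set_option autoImplicit false

universe u

namespace Cfsg.Agent.H84.Gs

open Cfsg Cfsg.Geo Cfsg.Agent.H95 Cfsg.Agent.H86.Gs
open scoped MatrixGroups Matrix

lemma span_aux (hGood : Cfsg.Agent.H86.Gs.StGood.{u}) {m : ℕ} {F : Type u} [Field F]
    (J : Mat m F) (δ : F) (C : Ctx J δ) (hm : 3 ≤ m) (u v : V m F)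
    (h : ∀ e₁ : V m F, psi J e₁ ≠ 0 → sympForm m F u e₁ = 0 → sympForm m F u (J *ᵥ e₁) = 0 →
        sympForm m F v e₁ = 0) :
    ∃ a b : F, v = a • u + b • (J *ᵥ u) := by
  have hnd := H17.sympBilin_nondegenerate (F := F) m
  have hrefl : (H17.sympBilin m F).IsRefl := (H17.sympBilin_isAlt (F := F) m).isRefl
  have key : ∀ y : V m F, sympForm m F y u = 0 → sympForm m F y (J *ᵥ u) = 0 →
      sympForm m F v y = 0 := by
    intro y hy1 hy2
    obtain ⟨y₁, y₂, hg1, hg2, h11, h12, h21, h22, rfl⟩ := hGood J δ C hm u y hy1 hy2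
    rw [sympForm_add_right,
      h y₁ hg1 (by rw [sympForm_skew, h11, neg_zero]) (by rw [formJ_symm C y₁ u, h12]),
      h y₂ hg2 (by rw [sympForm_skew, h21, neg_zero]) (by rw [formJ_symm C y₂ u, h22]), add_zero]
  have hv : v ∈ (H17.sympBilin m F).orthogonal
      ((H17.sympBilin m F).orthogonal (Submodule.span F {u, J *ᵥ u})) := by
    rw [LinearMap.BilinForm.mem_orthogonal_iff]
    intro y hy
    rw [LinearMap.BilinForm.mem_orthogonal_iff] at hy
    have h1 := hy u (Submodule.subset_span (by simp))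
    have h2 := hy (J *ᵥ u) (Submodule.subset_span (by simp))
    rw [H17.sympBilin_apply] at h1 h2 ⊢
    rw [sympForm_skew,
      key y (by rw [sympForm_skew, h1, neg_zero]) (by rw [sympForm_skew, h2, neg_zero]), neg_zero]
  rw [LinearMap.BilinForm.orthogonal_orthogonal hnd hrefl] at hv
  obtain ⟨a, b, hab⟩ := Submodule.mem_span_pair.mp hv
  exact ⟨a, b, hab.symm⟩

/-- **GS-SPAN**. -/
theorem gsSpan (hGood : Cfsg.Agent.H86.Gs.StGood.{u}) : Cfsg.Agent.H86.Gs.StSpan.{u} := by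
  intro m F _ J δ C hm u v h
  exact span_aux hGood J δ C hm u v h

example : Cfsg.Agent.H86.Gs.StSpan.{u} =
    (∀ {m : ℕ} {F : Type u} [Field F] (J : Mat m F) (δ : F), Ctx J δ → 3 ≤ m →
    ∀ u v : V m F,
      (∀ e₁ : V m F, psi J e₁ ≠ 0 → sympForm m F u e₁ = 0 → sympForm m F u (J *ᵥ e₁) = 0 →
        sympForm m F v e₁ = 0) →
      ∃ a b : F, v = a • u + b • (J *ᵥ u)) := rfl

end Cfsg.Agent.H84.Gs
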