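import Mathlib
import Cfsg.Agent.H99.I2Defs
import Cfsg.Agent.H42.AltRank

/-!
# I2-POS (helper84, parallel take; for helper99's shared I2 sub-tree of S5974 / S5990)

Characteristic `2`: an isometry `T` with `T * T = 1` and `rank (T - 1)` even of a nondegenerate
quadratic space of type `plV` fixes a nondegenerate plus-type subspace of every even dimension
`2 ≤ m ≤ dim V - 2`, unless `m ≡ 2 (mod 4)` and `dim V ≡ 0 (mod 4)` (`V` plus) resp.
`dim V ≡ 2 (mod 4)` (`V` minus).  Assembly from the pieces PLANE, PERP, X4, ATYPE, ALL and QSUM.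
-/

set_option autoImplicit false

namespace Cfsg.Agent.H84.I2

open Cfsg.Agent.H45 Cfsg.Agent.H48.Ep Cfsg.Agent.H99.I2 Module

universe u v

section

variable {F : Type u} [Field F] {V : Type v} [AddCommGroup V] [Module F V]
  [FiniteDimensional F V]

/-- In characteristic `2` a nondegenerate subspace has even dimension (the polar form is
alternating). -/
theorem even_finrank_of_qnd (Q : QuadraticForm F V) (h2 : (2 : F) = 0) (X : Submodule F V)
    (hX : QNd Q X) : Even (finrank F X) := by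
  let ω : X →ₗ[F] X →ₗ[F] F := (QuadraticMap.polarBilin Q).domRestrict₁₂ X X
  have hω : ∀ x y : X, ω x y = QuadraticMap.polar ⇑Q (x : V) (y : V) := fun x y => rfl
  have halt : ∀ x : X, ω x x = 0 := by
    intro x
    rw [hω, QuadraticMap.polar_self, two_nsmul, ← two_mul, h2, zero_mul]
  have hker : LinearMap.ker ω = ⊥ := by
    rw [LinearMap.ker_eq_bot']
    intro x hx
    have h1 : (x : V) ∈ X ⊓ perp (QuadraticMap.polarBilin Q) X := by
      refine ⟨x.2, fun u hu => ?_⟩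
      have h3 : ω x ⟨u, hu⟩ = 0 := by rw [hx]; rfl
      rw [hω] at h3
      rw [QuadraticMap.polarBilin_apply_apply, QuadraticMap.polar_comm]
      exact h3
    have hX' : X ⊓ perp (QuadraticMap.polarBilin Q) X = ⊥ := hX
    rw [hX'] at h1
    exact Subtype.ext ((Submodule.mem_bot F).mp h1)
  have h := Cfsg.Agent.H42.alt_even_aux (F := F) (finrank F X) X ω halt rfl
  rw [hker, finrank_bot, Nat.sub_zero] at h
  exact h

omit [FiniteDimensional F V] in
/-- The sum of two invariant subspaces is invariant. -/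
theorem invt_sup (T : Module.End F V) (P W : Submodule F V) (hP : P ∈ T.invtSubmodule)
    (hW : W ∈ T.invtSubmodule) : P ⊔ W ∈ T.invtSubmodule := by
  refine (Module.End.mem_invtSubmodule_iff_forall_mem_of_mem T).mpr (fun x hx => ?_)
  obtain ⟨p, hp, w, hw, rfl⟩ := Submodule.mem_sup.mp hx
  rw [map_add]
  exact Submodule.add_mem_sup
    ((Module.End.mem_invtSubmodule_iff_forall_mem_of_mem T).mp hP p hp)
    ((Module.End.mem_invtSubmodule_iff_forall_mem_of_mem T).mp hW w hw)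

end

/-- I2-POS. -/
theorem pos (hPlane : StI2Plane.{u, v}) (hPerp : StI2Perp.{u, v}) (hX4 : StI2X4.{u, v})
    (hA : StI2AType.{u, v}) (hAll : StI2All.{u, v})
    (hSum : Cfsg.Agent.H48.Ep.StQSum.{u, v}) : Cfsg.Agent.H99.Em.StI2Pos.{u, v} := by
  intro F _ _ V _ _ _ Q T plV m h2 hnd hiso hTT hrk hplV hme hm2 hmn hcond
  have C : I2Ctx Q T := ⟨h2, hnd, hiso, hTT⟩
  have hTop : Inv Q T ⊤ :=
    ⟨(Module.End.mem_invtSubmodule_iff_forall_mem_of_mem T).mpr (fun x _ => Submodule.mem_top),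
      hnd⟩
  have hnt : finrank F (⊤ : Submodule F V) = finrank F V := finrank_top F V
  have hrkT : rk T (⊤ : Submodule F V) % 2 = 0 := by
    apply Nat.even_iff.mp
    unfold rk
    rw [Submodule.map_top]
    exact hrk
  have hmev : m % 2 = 0 := Nat.even_iff.mp hme
  have hm4 : m % 4 = 0 ∨ m % 4 = 2 := by omega
  by_cases hAT : AType Q T ⊤
  · -- the whole space is of a-type
    obtain ⟨t, -, h4t, hex⟩ := hA F V Q T C ⊤ hTop hAT
    have key : (∃ j e : ℕ, j ≤ t ∧ m = 4 * j + e ∧ Even e ∧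
        e ≤ finrank F (⊤ : Submodule F V) - 4 * t ∧
        ((0 < e ∧ e < finrank F (⊤ : Submodule F V) - 4 * t) ∨ (e = 0 ∧ True) ∨
          (e = finrank F (⊤ : Submodule F V) - 4 * t ∧ 0 < e ∧ (True ↔ QPlus Q ⊤)))) →
        ∃ W : Submodule F V, W ∈ T.invtSubmodule ∧ QNd Q W ∧ finrank F W = m ∧ QPlus Q W := by
      intro h
      obtain ⟨W, -, hWinv, hWd, hWpl⟩ := hex m True h
      exact ⟨W, hWinv.1, hWinv.2, hWd, hWpl.mpr trivial⟩
    rcases hm4 with hm0 | hm2'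
    · by_cases hle : m ≤ 4 * t
      · exact key ⟨m / 4, 0, by omega, by omega, (⟨0, rfl⟩ : Even 0), by omega,
          Or.inr (Or.inl ⟨rfl, trivial⟩)⟩
      · exact key ⟨t, m - 4 * t, le_refl _, by omega, Nat.even_iff.mpr (by omega), by omega,
          Or.inl ⟨by omega, by omega⟩⟩
    · have hc : (plV ∧ finrank F V % 4 = 2) ∨ (¬ plV ∧ finrank F V % 4 = 0) := by
        rcases hcond with h | h | h
        · omega
        · exact Or.inl h
        · exact Or.inr h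
      have htopplus : finrank F V = 4 * t → QPlus Q ⊤ := by
        intro hn4
        obtain ⟨W, -, -, hWd, hWpl⟩ := hex (finrank F V) True
          ⟨t, 0, le_refl _, by omega, (⟨0, rfl⟩ : Even 0), by omega, Or.inr (Or.inl ⟨rfl, trivial⟩)⟩
        have hW : W = ⊤ := Submodule.eq_top_of_finrank_eq hWd
        rw [← hW]
        exact hWpl.mpr trivial
      have hk0 : 2 ≤ finrank F V - 4 * t ∧ (finrank F V - 4 * t = 2 → QPlus Q ⊤) := by
        rcases hc with ⟨hp, hn2⟩ | ⟨hnp, hn0⟩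
        · exact ⟨by omega, fun _ => hplV.mpr hp⟩
        · have hne : finrank F V ≠ 4 * t := fun h => hnp (hplV.mp (htopplus h))
          exact ⟨by omega, fun h => by omega⟩
      by_cases hle : m ≤ 4 * t + 2
      · by_cases hk2 : finrank F V - 4 * t = 2
        · exact key ⟨(m - 2) / 4, 2, by omega, by omega, even_two, by omega,
            Or.inr (Or.inr ⟨by omega, by omega, ⟨fun _ => hk0.2 hk2, fun _ => trivial⟩⟩)⟩
        · exact key ⟨(m - 2) / 4, 2, by omega, by omega, even_two, by omega,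
            Or.inl ⟨by omega, by omega⟩⟩
      · exact key ⟨t, m - 4 * t, le_refl _, by omega, Nat.even_iff.mpr (by omega), by omega,
          Or.inl ⟨by omega, by omega⟩⟩
  · -- not of a-type: peel two planes
    obtain ⟨P₁, -, hP₁, hP₁2, hP₁rk⟩ := hPlane F V Q T C ⊤ hTop hAT
    obtain ⟨hX₁, hX₁d, -, hX₁o, hX₁rk⟩ := hPerp F V Q T C ⊤ P₁ hTop hP₁ le_top
    generalize hX₁def : (⊤ : Submodule F V) ⊓ perp (QuadraticMap.polarBilin Q) P₁ = X₁
      at hX₁ hX₁d hX₁o hX₁rk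
    have hX₁nA : ¬ AType Q T X₁ := by
      intro h
      obtain ⟨t₁, ht₁, -, -⟩ := hA F V Q T C X₁ hX₁ h
      omega
    obtain ⟨P₂, hP₂X₁, hP₂, hP₂2, hP₂rk⟩ := hPlane F V Q T C X₁ hX₁ hX₁nA
    obtain ⟨hX₂, hX₂d, -, hX₂o, hX₂rk⟩ := hPerp F V Q T C X₁ P₂ hX₁ hP₂ hP₂X₁
    have hX₂X₁ : X₁ ⊓ perp (QuadraticMap.polarBilin Q) P₂ ≤ X₁ := inf_le_left
    generalize hX₂def : X₁ ⊓ perp (QuadraticMap.polarBilin Q) P₂ = X₂
      at hX₂ hX₂d hX₂o hX₂rk hX₂X₁
    have hX₂even : Even (rk T X₂) := Nat.even_iff.mpr (by omega)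
    have hX₂dim : finrank F X₂ + 4 = finrank F V := by omega
    have hX₂ev : finrank F X₂ % 2 = 0 := Nat.even_iff.mp (even_finrank_of_qnd Q h2 X₂ hX₂.2)
    have h12 : ∀ x ∈ P₁, ∀ y ∈ P₂, QuadraticMap.polar ⇑Q x y = 0 :=
      fun x hx y hy => hX₁o x hx y (hP₂X₁ hy)
    -- finishing step: a subspace of `X₂` of dimension `m - 2` and a plane of the same type
    have fin : ∀ W₂ : Submodule F V, W₂ ≤ X₂ → Inv Q T W₂ → finrank F W₂ = m - 2 →
        ∃ W : Submodule F V, W ∈ T.invtSubmodule ∧ QNd Q W ∧ finrank F W = m ∧ QPlus Q W := by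
      intro W₂ hW₂X hW₂ hW₂d
      obtain ⟨P, hPle, hP, hPd, hPpl⟩ :=
        hX4 F V Q T C P₁ P₂ hP₁ hP₂ hP₁2 hP₂2 hP₁rk hP₂rk h12 (QPlus Q W₂)
      have horth : ∀ x ∈ P, ∀ y ∈ W₂, QuadraticMap.polar ⇑Q x y = 0 := by
        intro x hx y hy
        obtain ⟨p₁, hp₁, p₂, hp₂, rfl⟩ := Submodule.mem_sup.mp (hPle hx)
        rw [QuadraticMap.polar_add_left, hX₁o p₁ hp₁ y (hX₂X₁ (hW₂X hy)),
          hX₂o p₂ hp₂ y (hW₂X hy), add_zero]
      obtain ⟨hnd', hd', hpl'⟩ := hSum F V Q P W₂ hP.2 hW₂.2 horth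
        (by rw [hPd]; exact even_two) (by rw [hW₂d]; exact Nat.even_iff.mpr (by omega))
      exact ⟨P ⊔ W₂, invt_sup T P W₂ hP.1 hW₂.1, hnd', by omega, hpl'.mpr hPpl⟩
    rcases hAll F V Q T C X₂ hX₂ hX₂even with hA₂ | hall
    · obtain ⟨t₂, -, h4t₂, hex₂⟩ := hA F V Q T C X₂ hX₂ hA₂
      have key₂ : ∀ pl : Prop, (∃ j e : ℕ, j ≤ t₂ ∧ m - 2 = 4 * j + e ∧ Even e ∧
          e ≤ finrank F X₂ - 4 * t₂ ∧
          ((0 < e ∧ e < finrank F X₂ - 4 * t₂) ∨ (e = 0 ∧ pl) ∨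
            (e = finrank F X₂ - 4 * t₂ ∧ 0 < e ∧ (pl ↔ QPlus Q X₂)))) →
          ∃ W : Submodule F V, W ∈ T.invtSubmodule ∧ QNd Q W ∧ finrank F W = m ∧
            QPlus Q W := by
        intro pl h
        obtain ⟨W₂, hW₂X, hW₂, hW₂d, -⟩ := hex₂ (m - 2) pl h
        exact fin W₂ hW₂X hW₂ hW₂d
      by_cases hle : m - 2 ≤ 4 * t₂
      · rcases hm4 with hm0 | hm2'
        · by_cases hk : finrank F X₂ - 4 * t₂ = 0
          · -- exception: a plus-type subspace of dimension `m` inside `X₂`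
            obtain ⟨W, -, hW, hWd, hWpl⟩ := hex₂ m True
              ⟨m / 4, 0, by omega, by omega, (⟨0, rfl⟩ : Even 0), by omega,
                Or.inr (Or.inl ⟨rfl, trivial⟩)⟩
            exact ⟨W, hW.1, hW.2, hWd, hWpl.mpr trivial⟩
          · by_cases hk2 : finrank F X₂ - 4 * t₂ = 2
            · exact key₂ (QPlus Q X₂) ⟨(m - 4) / 4, 2, by omega, by omega, even_two, by omega,
                Or.inr (Or.inr ⟨by omega, by omega, Iff.rfl⟩)⟩
            · exact key₂ True ⟨(m - 4) / 4, 2, by omega, by omega, even_two, by omega,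
                Or.inl ⟨by omega, by omega⟩⟩
        · exact key₂ True ⟨(m - 2) / 4, 0, by omega, by omega, (⟨0, rfl⟩ : Even 0), by omega,
            Or.inr (Or.inl ⟨rfl, trivial⟩)⟩
      · by_cases hek : m - 2 - 4 * t₂ = finrank F X₂ - 4 * t₂
        · exact key₂ (QPlus Q X₂) ⟨t₂, m - 2 - 4 * t₂, le_refl _, by omega,
            Nat.even_iff.mpr (by omega), by omega, Or.inr (Or.inr ⟨hek, by omega, Iff.rfl⟩)⟩
        · exact key₂ True ⟨t₂, m - 2 - 4 * t₂, le_refl _, by omega,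
            Nat.even_iff.mpr (by omega), by omega, Or.inl ⟨by omega, by omega⟩⟩
    · obtain ⟨W₂, hW₂X, hW₂, hW₂d⟩ := hall (m - 2) (Nat.even_iff.mpr (by omega)) (by omega)
      exact fin W₂ hW₂X hW₂ hW₂d

example (hPlane : Cfsg.Agent.H99.I2.StI2Plane.{u, v}) (hPerp : Cfsg.Agent.H99.I2.StI2Perp.{u, v})
    (hX4 : Cfsg.Agent.H99.I2.StI2X4.{u, v}) (hA : Cfsg.Agent.H99.I2.StI2AType.{u, v})
    (hAll : Cfsg.Agent.H99.I2.StI2All.{u, v}) (hSum : Cfsg.Agent.H48.Ep.StQSum.{u, v}) :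
    Cfsg.Agent.H99.Em.StI2Pos.{u, v} := pos hPlane hPerp hX4 hA hAll hSum

end Cfsg.Agent.H84.I2
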