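import Cfsg.Agent.H84.JtDich

/-!
Abstract core of K-CENT (JZ-KILL, S2951): if a 2-group `S` has "no over-offenders" on its
exponent-2 subgroup `V` (for every exponent-2 subgroup `A₁ ≤ S` acting faithfully on `V`:
`|A₁| * |C_V(A₁)| ≤ |V|`), then every exponent-2 subgroup `A ≤ S` has a companion `B ≤ S` of
exponent 2 containing `V` with `|A| ≤ |B|`  (`B = C_A(V) V`).
-/

set_option autoImplicit false

universe u

namespace Cfsg.Agent.H84.Jk

open Cfsg.Agent.H84.JtDich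

variable {G : Type u} [Group G]

theorem cent_core [Finite G] (S V : Subgroup G) (hVS : V ≤ S) (hV2 : ∀ v ∈ V, v * v = 1)
    (hMI : ∀ A₁ : Subgroup G, A₁ ≤ S → (∀ a ∈ A₁, a * a = 1) →
      (∀ a ∈ A₁, ∀ b ∈ A₁, a * b = b * a) →
      A₁ ⊓ Subgroup.centralizer (V : Set G) = ⊥ →
      Nat.card ↥A₁ * Nat.card ↥(V ⊓ Subgroup.centralizer (A₁ : Set G)) ≤ Nat.card ↥V)
    (A : Subgroup G) (hAS : A ≤ S) (hA2 : ∀ a ∈ A, a * a = 1) :
    ∃ B : Subgroup G, B ≤ S ∧ V ≤ B ∧ (∀ b ∈ B, b * b = 1) ∧ Nat.card ↥A ≤ Nat.card ↥B := by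
  classical
  have hAc := comm_of_exp_two A hA2
  have hVc := comm_of_exp_two V hV2
  have hinv : ∀ x ∈ A, x⁻¹ = x := fun x hx => inv_eq_of_mul_eq_one_right (hA2 x hx)
  -- a faithful subgroup of `A` of largest order
  haveI : Nonempty {A₁ : Subgroup G // A₁ ≤ A ∧ A₁ ⊓ Subgroup.centralizer (V : Set G) = ⊥} :=
    ⟨⟨⊥, bot_le, bot_inf_eq _⟩⟩
  obtain ⟨⟨A₁, hA₁A, hA₁C⟩, hmax⟩ := Finite.exists_max
    (fun x : {A₁ : Subgroup G // A₁ ≤ A ∧ A₁ ⊓ Subgroup.centralizer (V : Set G) = ⊥} =>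
      Nat.card ↥x.1)
  -- `A = A₁ C`
  have hsurj : ∀ a ∈ A, ∃ a₁ ∈ A₁, ∃ c ∈ A ⊓ Subgroup.centralizer (V : Set G), a = a₁ * c := by
    intro a ha
    by_contra hcon
    have haA₁ : a ∉ A₁ := by
      intro h
      exact hcon ⟨a, h, 1, Subgroup.one_mem _, (mul_one a).symm⟩
    let A₂ : Subgroup G :=
      { carrier := {x | x ∈ A₁ ∨ x * a ∈ A₁}
        mul_mem' := by
          intro x y hx hy
          have hxA : x ∈ A := by
            rcases hx with hx | hx
            · exact hA₁A hx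
            · have h := A.mul_mem (hA₁A hx) (A.inv_mem ha)
              rwa [mul_inv_cancel_right] at h
          have hyA : y ∈ A := by
            rcases hy with hy | hy
            · exact hA₁A hy
            · have h := A.mul_mem (hA₁A hy) (A.inv_mem ha)
              rwa [mul_inv_cancel_right] at h
          have hya : y * a = a * y := hAc y hyA a ha
          rcases hx with hx | hx
          · rcases hy with hy | hy
            · exact Or.inl (A₁.mul_mem hx hy)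
            · right
              have h := A₁.mul_mem hx hy
              rwa [← mul_assoc] at h
          · rcases hy with hy | hy
            · right
              have h := A₁.mul_mem hx hy
              have e : x * a * y = x * y * a := by
                rw [mul_assoc, ← hya, ← mul_assoc]
              rwa [e] at h
            · left
              have h := A₁.mul_mem hx hy
              have e : x * a * (y * a) = x * y := by
                rw [hya, mul_assoc, ← mul_assoc a a y, hA2 a ha, one_mul]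
              rwa [e] at h
        one_mem' := Or.inl A₁.one_mem
        inv_mem' := by
          intro x hx
          have hxA : x ∈ A := by
            rcases hx with hx | hx
            · exact hA₁A hx
            · have h := A.mul_mem (hA₁A hx) (A.inv_mem ha)
              rwa [mul_inv_cancel_right] at h
          show x⁻¹ ∈ A₁ ∨ x⁻¹ * a ∈ A₁
          rw [hinv x hxA]
          exact hx }
    have hmem₂ : ∀ x, x ∈ A₂ ↔ x ∈ A₁ ∨ x * a ∈ A₁ := fun x => Iff.rfl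
    have hA₂A : A₂ ≤ A := by
      intro x hx
      rcases (hmem₂ x).mp hx with hx | hx
      · exact hA₁A hx
      · have h := A.mul_mem (hA₁A hx) (A.inv_mem ha)
        rwa [mul_inv_cancel_right] at h
    have hA₂C : A₂ ⊓ Subgroup.centralizer (V : Set G) = ⊥ := by
      rw [eq_bot_iff]
      intro x hx
      obtain ⟨hx2, hxC⟩ := Subgroup.mem_inf.mp hx
      rcases (hmem₂ x).mp hx2 with hx1 | hx1
      · have : x ∈ A₁ ⊓ Subgroup.centralizer (V : Set G) := Subgroup.mem_inf.mpr ⟨hx1, hxC⟩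
        rw [hA₁C] at this
        exact this
      · exfalso
        apply hcon
        have hxA := hA₂A hx2
        refine ⟨x * a, hx1, x, Subgroup.mem_inf.mpr ⟨hxA, hxC⟩, ?_⟩
        rw [hAc x hxA a ha, mul_assoc, hA2 x hxA, mul_one]
    have hle : A₁ ≤ A₂ := fun x hx => (hmem₂ x).mpr (Or.inl hx)
    have hcard := hmax ⟨A₂, hA₂A, hA₂C⟩
    have heq : A₁ = A₂ := Subgroup.eq_of_le_of_card_ge hle hcard
    apply haA₁
    rw [heq]
    exact (hmem₂ a).mpr (Or.inr (by rw [hA2 a ha]; exact A₁.one_mem))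
  -- `|A| ≤ |A₁| |C|`
  have hcount1 : Nat.card ↥A ≤
      Nat.card ↥A₁ * Nat.card ↥(A ⊓ Subgroup.centralizer (V : Set G)) := by
    rw [← Nat.card_prod]
    apply Nat.card_le_card_of_surjective
      (fun p : ↥A₁ × ↥(A ⊓ Subgroup.centralizer (V : Set G)) =>
        (⟨p.1.1 * p.2.1, A.mul_mem (hA₁A p.1.2) (Subgroup.mem_inf.mp p.2.2).1⟩ : ↥A))
    intro a
    obtain ⟨a₁, ha₁, c, hc, hac⟩ := hsurj a.1 a.2
    exact ⟨(⟨a₁, ha₁⟩, ⟨c, hc⟩), Subtype.ext hac.symm⟩
  -- the companion `B = C V`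
  have hCV : ∀ c ∈ A ⊓ Subgroup.centralizer (V : Set G), ∀ v ∈ V, v * c = c * v := by
    intro c hc v hv
    exact Subgroup.mem_centralizer_iff.mp (Subgroup.mem_inf.mp hc).2 v hv
  have hsq : ∀ c ∈ A ⊓ Subgroup.centralizer (V : Set G), ∀ v ∈ V, (c * v) * (c * v) = 1 := by
    intro c hc v hv
    have e : c * v * (c * v) = (c * c) * (v * v) := by
      rw [mul_assoc, ← mul_assoc v c v, hCV c hc v hv, mul_assoc, ← mul_assoc]
    rw [e, hA2 c (Subgroup.mem_inf.mp hc).1, hV2 v hv, one_mul]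
  let B : Subgroup G :=
    { carrier := {x | ∃ c ∈ A ⊓ Subgroup.centralizer (V : Set G), ∃ v ∈ V, x = c * v}
      mul_mem' := by
        rintro x y ⟨c, hc, v, hv, rfl⟩ ⟨c', hc', v', hv', rfl⟩
        refine ⟨c * c', Subgroup.mul_mem _ hc hc', v * v', V.mul_mem hv hv', ?_⟩
        rw [mul_assoc, ← mul_assoc v c' v', hCV c' hc' v hv, mul_assoc, ← mul_assoc]
      one_mem' := ⟨1, Subgroup.one_mem _, 1, V.one_mem, (mul_one 1).symm⟩
      inv_mem' := by
        rintro x ⟨c, hc, v, hv, rfl⟩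
        refine ⟨c, hc, v, hv, ?_⟩
        exact inv_eq_of_mul_eq_one_right (hsq c hc v hv) }
  have hmemB : ∀ x, x ∈ B ↔ ∃ c ∈ A ⊓ Subgroup.centralizer (V : Set G), ∃ v ∈ V, x = c * v :=
    fun x => Iff.rfl
  refine ⟨B, ?_, ?_, ?_, ?_⟩
  · intro x hx
    obtain ⟨c, hc, v, hv, rfl⟩ := (hmemB x).mp hx
    exact S.mul_mem (hAS (Subgroup.mem_inf.mp hc).1) (hVS hv)
  · intro v hv
    exact (hmemB v).mpr ⟨1, Subgroup.one_mem _, v, hv, (one_mul v).symm⟩
  · intro x hx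
    obtain ⟨c, hc, v, hv, rfl⟩ := (hmemB x).mp hx
    exact hsq c hc v hv
  · -- `|C| |V| ≤ |B| |C ∩ V|`
    have hrep : ∀ b : ↥B, ∃ c ∈ A ⊓ Subgroup.centralizer (V : Set G), ∃ v ∈ V, b.1 = c * v :=
      fun b => (hmemB b.1).mp b.2
    choose rc hrc rv hrv hrb using hrep
    have hcount2 : Nat.card ↥(A ⊓ Subgroup.centralizer (V : Set G)) * Nat.card ↥V ≤
        Nat.card ↥B * Nat.card ↥((A ⊓ Subgroup.centralizer (V : Set G)) ⊓ V) := by
      rw [← Nat.card_prod, ← Nat.card_prod]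
      apply Nat.card_le_card_of_injective
        (fun p : ↥(A ⊓ Subgroup.centralizer (V : Set G)) × ↥V =>
          ((⟨p.1.1 * p.2.1, (hmemB _).mpr ⟨p.1.1, p.1.2, p.2.1, p.2.2, rfl⟩⟩ : ↥B),
            (⟨(rc ⟨p.1.1 * p.2.1, (hmemB _).mpr ⟨p.1.1, p.1.2, p.2.1, p.2.2, rfl⟩⟩)⁻¹ * p.1.1,
              by
                have hb := hrb ⟨p.1.1 * p.2.1, (hmemB _).mpr ⟨p.1.1, p.1.2, p.2.1, p.2.2, rfl⟩⟩
                have h1 := hrc ⟨p.1.1 * p.2.1, (hmemB _).mpr ⟨p.1.1, p.1.2, p.2.1, p.2.2, rfl⟩⟩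
                have h2 := hrv ⟨p.1.1 * p.2.1, (hmemB _).mpr ⟨p.1.1, p.1.2, p.2.1, p.2.2, rfl⟩⟩
                refine Subgroup.mem_inf.mpr ⟨Subgroup.mul_mem _ (Subgroup.inv_mem _ h1) p.1.2, ?_⟩
                have e : (rc ⟨p.1.1 * p.2.1,
                    (hmemB _).mpr ⟨p.1.1, p.1.2, p.2.1, p.2.2, rfl⟩⟩)⁻¹ * p.1.1 =
                    rv ⟨p.1.1 * p.2.1, (hmemB _).mpr ⟨p.1.1, p.1.2, p.2.1, p.2.2, rfl⟩⟩ *
                      (p.2.1)⁻¹ := by
                  have hb' : p.1.1 * p.2.1 =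
                      rc ⟨p.1.1 * p.2.1, (hmemB _).mpr ⟨p.1.1, p.1.2, p.2.1, p.2.2, rfl⟩⟩ *
                      rv ⟨p.1.1 * p.2.1, (hmemB _).mpr ⟨p.1.1, p.1.2, p.2.1, p.2.2, rfl⟩⟩ := hb
                  rw [inv_mul_eq_iff_eq_mul, ← mul_assoc, ← hb', mul_inv_cancel_right]
                rw [e]
                exact V.mul_mem h2 (V.inv_mem p.2.2)⟩ :
              ↥((A ⊓ Subgroup.centralizer (V : Set G)) ⊓ V))))
      intro p q hpq
      have h1 : p.1.1 * p.2.1 = q.1.1 * q.2.1 := congrArg (fun t => (t.1 : G)) hpq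
      have h2 : (rc ⟨p.1.1 * p.2.1, (hmemB _).mpr ⟨p.1.1, p.1.2, p.2.1, p.2.2, rfl⟩⟩)⁻¹ * p.1.1 =
          (rc ⟨q.1.1 * q.2.1, (hmemB _).mpr ⟨q.1.1, q.1.2, q.2.1, q.2.2, rfl⟩⟩)⁻¹ * q.1.1 :=
        congrArg (fun t => (t.2 : G)) hpq
      have h3 : (⟨p.1.1 * p.2.1, (hmemB _).mpr ⟨p.1.1, p.1.2, p.2.1, p.2.2, rfl⟩⟩ : ↥B) =
          ⟨q.1.1 * q.2.1, (hmemB _).mpr ⟨q.1.1, q.1.2, q.2.1, q.2.2, rfl⟩⟩ := Subtype.ext h1
      rw [h3] at h2
      have h4 : p.1.1 = q.1.1 := mul_left_cancel h2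
      have h5 : p.2.1 = q.2.1 := by
        rw [h4] at h1
        exact mul_left_cancel h1
      exact Prod.ext (Subtype.ext h4) (Subtype.ext h5)
    have hcount3 : Nat.card ↥((A ⊓ Subgroup.centralizer (V : Set G)) ⊓ V) ≤
        Nat.card ↥(V ⊓ Subgroup.centralizer (A₁ : Set G)) := by
      apply Subgroup.card_le_of_le
      intro x hx
      obtain ⟨hxC, hxV⟩ := Subgroup.mem_inf.mp hx
      refine Subgroup.mem_inf.mpr ⟨hxV, ?_⟩
      rw [Subgroup.mem_centralizer_iff]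
      intro h hh
      exact hAc h (hA₁A hh) x (Subgroup.mem_inf.mp hxC).1
    have hMI₁ := hMI A₁ (hA₁A.trans hAS) (fun a ha => hA2 a (hA₁A ha))
      (fun a ha b hb => hAc a (hA₁A ha) b (hA₁A hb)) hA₁C
    have hpos : 0 < Nat.card ↥(V ⊓ Subgroup.centralizer (A₁ : Set G)) := Nat.card_pos
    have hfin : Nat.card ↥A * Nat.card ↥(V ⊓ Subgroup.centralizer (A₁ : Set G)) ≤
        Nat.card ↥B * Nat.card ↥(V ⊓ Subgroup.centralizer (A₁ : Set G)) := by
      calc Nat.card ↥A * Nat.card ↥(V ⊓ Subgroup.centralizer (A₁ : Set G))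
          ≤ (Nat.card ↥A₁ * Nat.card ↥(A ⊓ Subgroup.centralizer (V : Set G))) *
              Nat.card ↥(V ⊓ Subgroup.centralizer (A₁ : Set G)) :=
            Nat.mul_le_mul_right _ hcount1
        _ = Nat.card ↥(A ⊓ Subgroup.centralizer (V : Set G)) *
              (Nat.card ↥A₁ * Nat.card ↥(V ⊓ Subgroup.centralizer (A₁ : Set G))) := by ring
        _ ≤ Nat.card ↥(A ⊓ Subgroup.centralizer (V : Set G)) * Nat.card ↥V :=
            Nat.mul_le_mul_left _ hMI₁
        _ ≤ Nat.card ↥B * Nat.card ↥((A ⊓ Subgroup.centralizer (V : Set G)) ⊓ V) := hcount2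
        _ ≤ Nat.card ↥B * Nat.card ↥(V ⊓ Subgroup.centralizer (A₁ : Set G)) :=
            Nat.mul_le_mul_left _ hcount3
    exact Nat.le_of_mul_le_mul_right hfin hpos

end Cfsg.Agent.H84.Jk
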