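import Cfsg.Agent.H59.JzKillDefs
import Cfsg.Agent.H84.JkCentCore
import Cfsg.Agent.Helper55.J48

/-!
K-CENT of the JZ-KILL sub-project (S2951 / S2952): `C_G(u) ≤ N_G(V)` for `1 ≠ u ∈ V = Ω₁Z(O₂(L))`
in the situation (R) with `a(T') ≠ a(S)`, from the "no over-offender" property K-MI of `S` on
`V` (+ K-NV, K-BASIC, K-EXP).
-/

set_option autoImplicit false
open Cfsg

namespace Cfsg.Agent.H84.Jk

open Cfsg.Agent.H64.Jz Cfsg.Agent.H59.JzK

universe u

/-- K-MI: no over-offenders of `S` on `V = Ω₁Z(O₂(L))`: an exponent-2 subgroup `A₁` of `S`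
acting faithfully on `V` has `|A₁| * |C_V(A₁)| ≤ |V|`. -/
def StKMI : Prop := ∀ {G : Type u} [Group G] [Finite G] (S : Sylow 2 G)
    (M K L T' K' L' : Subgroup G), RCtx S M K L T' K' L' →
  ∀ A₁ : Subgroup G, A₁ ≤ (S : Subgroup G) → (∀ a ∈ A₁, a * a = 1) →
    (∀ a ∈ A₁, ∀ b ∈ A₁, a * b = b * a) →
    A₁ ⊓ Subgroup.centralizer (Vof L : Set G) = ⊥ →
    Nat.card ↥A₁ * Nat.card ↥(Vof L ⊓ Subgroup.centralizer (A₁ : Set G)) ≤ Nat.card ↥(Vof L)

/-- The centralizer of an involution is a 2-local subgroup. -/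
theorem centralizer_involution_twoLocal {G : Type u} [Group G] (u : G) (hu : u * u = 1)
    (hu1 : u ≠ 1) : IsTwoLocal (Subgroup.centralizer ({u} : Set G)) := by
  refine ⟨Subgroup.zpowers u, ?_, ?_, ?_⟩
  · intro x
    refine ⟨1, ?_⟩
    apply Subtype.ext
    obtain ⟨k, hk⟩ := Subgroup.mem_zpowers_iff.mp x.2
    simp only [pow_one, Subgroup.coe_pow, Subgroup.coe_one]
    rw [← hk, ← zpow_natCast, ← zpow_mul, mul_comm, zpow_mul, zpow_natCast, sq, hu, one_zpow]
  · intro h
    apply hu1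
    have h0 : u ∈ Subgroup.zpowers u := Subgroup.mem_zpowers u
    rw [h] at h0
    exact Subgroup.mem_bot.mp h0
  · ext n
    constructor
    · intro hn
      have hnu : u * n = n * u := Subgroup.mem_centralizer_iff.mp hn u (Set.mem_singleton u)
      have hc : Commute n u := hnu.symm
      rw [Subgroup.mem_normalizer_iff]
      intro h
      constructor
      · intro hh
        obtain ⟨k, rfl⟩ := Subgroup.mem_zpowers_iff.mp hh
        have e : n * u ^ k * n⁻¹ = u ^ k := by
          rw [(hc.zpow_right k).eq, mul_inv_cancel_right]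
        rw [e]
        exact hh
      · intro hh
        obtain ⟨k, hk⟩ := Subgroup.mem_zpowers_iff.mp hh
        have hc' : Commute n⁻¹ u := hc.inv_left
        have e : h = u ^ k := by
          have e0 : h = n⁻¹ * (n * h * n⁻¹) * n := by group
          rw [e0, ← hk, (hc'.zpow_right k).eq, inv_mul_cancel_right]
        rw [e]
        exact Subgroup.zpow_mem_zpowers u k
    · intro hn
      rw [Subgroup.mem_centralizer_iff]
      intro h hh
      rw [Set.mem_singleton_iff] at hh
      rw [hh]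
      have h1 : n * u * n⁻¹ ∈ Subgroup.zpowers u :=
        (Subgroup.mem_normalizer_iff.mp hn u).mp (Subgroup.mem_zpowers u)
      obtain ⟨k, hk⟩ := Subgroup.mem_zpowers_iff.mp h1
      have h2 : u ^ k = 1 ∨ u ^ k = u := by
        rcases Int.even_or_odd' k with ⟨m, rfl | rfl⟩
        · left
          rw [zpow_mul, zpow_two, hu, one_zpow]
        · right
          rw [zpow_add, zpow_mul, zpow_two, hu, one_zpow, one_mul, zpow_one]
      rcases h2 with h2 | h2
      · exfalso
        apply hu1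
        rw [h2] at hk
        have e0 : u = n⁻¹ * (n * u * n⁻¹) * n := by group
        rw [e0, ← hk]
        group
      · rw [h2] at hk
        have e0 : u * n = (n * u * n⁻¹) * n := by rw [← hk]
        rw [e0]
        group

/-- K-CENT from K-MI, K-NV, K-BASIC, K-EXP. -/
theorem kCent (hMI : StKMI.{u}) (hNV : StKNV.{u}) (hBasic : StKBasic.{u}) (hExp : StKExp.{u}) :
    StKCent.{u} := by
  intro G _ _ S M K L T' K' L' hR ha u hu hu1
  classical
  have hNVeq : Subgroup.normalizer (Vof L : Set G) = L := hNV S M K L T' K' L' hR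
  rw [hNVeq]
  by_contra hnot
  obtain ⟨hSL, -⟩ := hBasic S M K L T' K' L' hR
  have hexp := hExp (pCoreOf 2 L)
  have huu : u * u = 1 := hexp u hu
  have hodd : Odd ((S : Subgroup G).relIndex L) := by
    rw [← Nat.not_even_iff_odd]
    intro he
    have h1 : (S : Subgroup G).relIndex L * L.index = (S : Subgroup G).index :=
      Subgroup.relIndex_mul_index hSL
    have h2 : ¬ 2 ∣ (S : Subgroup G).index := S.not_dvd_index
    apply h2
    rw [← h1]
    exact Dvd.dvd.mul_right (even_iff_two_dvd.mp he) _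
  have hsyl : IsSylowTwoIn (S : Subgroup G) L := ⟨hSL, S.isPGroup', hodd⟩
  have hQS : pCoreOf 2 L ≤ (S : Subgroup G) :=
    Cfsg.Agent.Helper55.J48.pCoreOf_le_of_sylowIn hsyl
  have hVQ : Vof L ≤ pCoreOf 2 L := by
    unfold Vof omegaCenterOf omegaOne
    rw [Subgroup.closure_le]
    intro x hx
    exact hx.1.1
  have hVS : Vof L ≤ (S : Subgroup G) := hVQ.trans hQS
  have hB' : Base S L T' K' L' := hR.2.2.1
  have hT'max : T' ∈ maxStraddlingTwoSubgroups L := hB'.2.2.2.2.1
  have hT'S : T' ≤ (S : Subgroup G) := hB'.2.2.2.2.2.1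
  have hRstr : (S : Subgroup G) ⊓ Subgroup.centralizer ({u} : Set G) ∈
      straddlingTwoSubgroups L := by
    refine ⟨S.isPGroup'.to_le inf_le_left, ?_, inf_le_left.trans hSL,
      Subgroup.centralizer ({u} : Set G), centralizer_involution_twoLocal u huu hu1,
      inf_le_right, hnot⟩
    intro hbot
    have h0 : u ∈ (S : Subgroup G) ⊓ Subgroup.centralizer ({u} : Set G) := by
      refine Subgroup.mem_inf.mpr ⟨hVS hu, ?_⟩
      rw [Subgroup.mem_centralizer_iff]
      intro h hh
      rw [Set.mem_singleton_iff] at hh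
      rw [hh]
    rw [hbot] at h0
    exact hu1 (Subgroup.mem_bot.mp h0)
  have h1 : maxElemAbelianOrder ((S : Subgroup G) ⊓ Subgroup.centralizer ({u} : Set G)) ≤
      maxElemAbelianOrder T' := (hT'max.2 _ hRstr).1
  have h2 : maxElemAbelianOrder T' ≤ maxElemAbelianOrder (S : Subgroup G) :=
    Cfsg.Agent.Helper55.ThJ.a_mono hT'S
  obtain ⟨A, hAS, hAel, hAcard⟩ := Cfsg.Agent.Helper55.ThJ.gens_nonempty (S : Subgroup G)
  have hA2 : ∀ a ∈ A, a * a = 1 := by
    intro a ha'
    have h0 := hAel.2 a ha'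
    rwa [sq] at h0
  obtain ⟨B, hBS, hVB, hB2, hAB⟩ := cent_core (S : Subgroup G) (Vof L) hVS hexp
    (hMI S M K L T' K' L' hR) A hAS hA2
  have hBc := Cfsg.Agent.H84.JtDich.comm_of_exp_two B hB2
  have hBR : B ≤ (S : Subgroup G) ⊓ Subgroup.centralizer ({u} : Set G) := by
    intro b hb
    refine Subgroup.mem_inf.mpr ⟨hBS hb, ?_⟩
    rw [Subgroup.mem_centralizer_iff]
    intro h hh
    rw [Set.mem_singleton_iff] at hh
    rw [hh]
    exact hBc u (hVB hu) b hb
  have hBel : IsElementaryAbelian 2 B :=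
    ⟨⟨⟨fun a b => Subtype.ext (hBc a.1 a.2 b.1 b.2)⟩⟩, fun b hb => by rw [sq]; exact hB2 b hb⟩
  have h3 := Cfsg.Agent.Helper55.ThJ.card_le_a _ hBR hBel
  apply ha
  have h4 : maxElemAbelianOrder (S : Subgroup G) ≤ maxElemAbelianOrder T' := by
    rw [← hAcard]
    exact (hAB.trans h3).trans h1
  exact le_antisymm h2 h4

example : ∀ (_ : StKMI.{u}) (_ : Cfsg.Agent.H59.JzK.StKNV.{u})
    (_ : Cfsg.Agent.H59.JzK.StKBasic.{u}) (_ : Cfsg.Agent.H59.JzK.StKExp.{u}),
    Cfsg.Agent.H59.JzK.StKCent.{u} := kCent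

end Cfsg.Agent.H84.Jk
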