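import Cfsg.Agent.H84.JtDich

/-!
Supplement to `JtDich`: hypothesis (H4) of the dichotomy is automatic when `V` is finite of
order `> 4` (an element `b` of `N_G(V)` with `b * b = 1` has `|C_V(b)|² ≥ |V|`).
-/

set_option autoImplicit false

universe u

namespace Cfsg.Agent.H84.JtDich

variable {G : Type u} [Group G]

/-- An element `b` of `N_G(V)` with `b * b = 1` fixes at least two distinct nontrivial elements of
the finite exponent-2 group `V` as soon as `|V| > 4`. -/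
theorem fix_two_of_card (V : Subgroup G) [Finite ↥V]
    (hexp : ∀ v ∈ V, v * v = 1) (hcard : 4 < Nat.card ↥V)
    (b : G) (hbN : b ∈ Subgroup.normalizer (V : Set G)) (hbb : b * b = 1) :
    ∃ v₁ ∈ V, ∃ v₂ ∈ V, v₁ ≠ 1 ∧ v₂ ≠ 1 ∧ v₁ ≠ v₂ ∧ b * v₁ = v₁ * b ∧ b * v₂ = v₂ * b := by
  classical
  have hcomm := comm_of_exp_two V hexp
  have hbinv : b⁻¹ = b := inv_eq_of_mul_eq_one_right hbb
  have hconj : ∀ v ∈ V, b * v * b ∈ V := by
    intro v hv
    have h0 := (Subgroup.mem_normalizer_iff.mp hbN v).mp hv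
    rwa [hbinv] at h0
  have hF : ∀ x, x ∈ V ⊓ Subgroup.centralizer ({b} : Set G) ↔ x ∈ V ∧ b * x = x * b := by
    intro x
    simp only [Subgroup.mem_inf, Subgroup.mem_centralizer_iff, Set.mem_singleton_iff, forall_eq]
  let φ : ↥V →* ↥V := MonoidHom.mk'
    (fun v => ⟨v.1 * (b * v.1 * b), V.mul_mem v.2 (hconj v.1 v.2)⟩) (by
    intro v w
    apply Subtype.ext
    show (v.1 * w.1) * (b * (v.1 * w.1) * b) = (v.1 * (b * v.1 * b)) * (w.1 * (b * w.1 * b))
    have e1 : b * (v.1 * w.1) * b = (b * v.1 * b) * (b * w.1 * b) := by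
      have e0 : b * v.1 * b * (b * w.1 * b) = b * v.1 * (b * b) * w.1 * b := by
        simp only [mul_assoc]
      rw [e0, hbb]
      simp only [mul_assoc, mul_one]
    rw [e1]
    have e2 := hcomm w.1 w.2 (b * v.1 * b) (hconj v.1 v.2)
    calc v.1 * w.1 * (b * v.1 * b * (b * w.1 * b))
        = v.1 * (w.1 * (b * v.1 * b)) * (b * w.1 * b) := by simp only [mul_assoc]
      _ = v.1 * ((b * v.1 * b) * w.1) * (b * w.1 * b) := by rw [e2]
      _ = v.1 * (b * v.1 * b) * (w.1 * (b * w.1 * b)) := by simp only [mul_assoc])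
  have hφ : ∀ v : ↥V, (φ v).1 = v.1 * (b * v.1 * b) := fun v => rfl
  have hker : ∀ v : ↥V, φ v = 1 → v.1 ∈ V ⊓ Subgroup.centralizer ({b} : Set G) := by
    intro v hv
    have h1 : v.1 * (b * v.1 * b) = 1 := by
      rw [← hφ v, hv]
      rfl
    rw [hF]
    refine ⟨v.2, ?_⟩
    have h2 : b * v.1 * b = v.1⁻¹ := eq_inv_of_mul_eq_one_right h1
    have h3 : v.1⁻¹ = v.1 := inv_eq_of_mul_eq_one_right (hexp v.1 v.2)
    rw [h3] at h2
    calc b * v.1 = b * v.1 * (b * b) := by rw [hbb, mul_one]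
      _ = (b * v.1 * b) * b := by simp only [mul_assoc]
      _ = v.1 * b := by rw [h2]
  have hran : ∀ v : ↥V, (φ v).1 ∈ V ⊓ Subgroup.centralizer ({b} : Set G) := by
    intro v
    rw [hF]
    refine ⟨(φ v).2, ?_⟩
    rw [hφ v]
    have e2 := hcomm v.1 v.2 (b * v.1 * b) (hconj v.1 v.2)
    calc b * (v.1 * (b * v.1 * b)) = (b * v.1 * b) * v.1 * b := by simp only [mul_assoc]
      _ = v.1 * (b * v.1 * b) * b := by rw [← e2]
  have : Finite ↥(V ⊓ Subgroup.centralizer ({b} : Set G)) :=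
    Finite.of_injective
      (fun x : ↥(V ⊓ Subgroup.centralizer ({b} : Set G)) => (⟨x.1, ((hF x.1).mp x.2).1⟩ : ↥V))
      (by
        intro x y h
        apply Subtype.ext
        have h' := congrArg Subtype.val h
        exact h')
  have hk : Nat.card ↥φ.ker ≤ Nat.card ↥(V ⊓ Subgroup.centralizer ({b} : Set G)) :=
    Nat.card_le_card_of_injective
      (fun x : ↥φ.ker => (⟨x.1.1, hker x.1 (MonoidHom.mem_ker.mp x.2)⟩ :
        ↥(V ⊓ Subgroup.centralizer ({b} : Set G))))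
      (by
        intro x y h
        apply Subtype.ext
        apply Subtype.ext
        have h' := congrArg Subtype.val h
        exact h')
  have hr : Nat.card ↥φ.range ≤ Nat.card ↥(V ⊓ Subgroup.centralizer ({b} : Set G)) :=
    Nat.card_le_card_of_injective
      (fun x : ↥φ.range => (⟨x.1.1, by
          obtain ⟨v, hv⟩ := x.2
          rw [← hv]
          exact hran v⟩ : ↥(V ⊓ Subgroup.centralizer ({b} : Set G))))
      (by
        intro x y h
        apply Subtype.ext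
        apply Subtype.ext
        have h' := congrArg Subtype.val h
        exact h')
  have hmul : Nat.card ↥φ.ker * Nat.card ↥φ.range = Nat.card ↥V := by
    rw [← Subgroup.index_ker, Subgroup.card_mul_index]
  have hF3 : 2 < Nat.card ↥(V ⊓ Subgroup.centralizer ({b} : Set G)) := by
    by_contra hle
    have hle' : Nat.card ↥(V ⊓ Subgroup.centralizer ({b} : Set G)) ≤ 2 := by omega
    have h4 : Nat.card ↥V ≤ 2 * 2 := by
      rw [← hmul]
      exact Nat.mul_le_mul (hk.trans hle') (hr.trans hle')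
    omega
  letI : Fintype ↥(V ⊓ Subgroup.centralizer ({b} : Set G)) := Fintype.ofFinite _
  rw [Nat.card_eq_fintype_card, Fintype.two_lt_card_iff] at hF3
  obtain ⟨x, y, w, hxy, hxw, hyw⟩ := hF3
  have pick : ∀ p q : ↥(V ⊓ Subgroup.centralizer ({b} : Set G)), p ≠ 1 → q ≠ 1 → p ≠ q →
      ∃ v₁ ∈ V, ∃ v₂ ∈ V, v₁ ≠ 1 ∧ v₂ ≠ 1 ∧ v₁ ≠ v₂ ∧ b * v₁ = v₁ * b ∧ b * v₂ = v₂ * b := by
    intro p q hp hq hpq
    refine ⟨p.1, ((hF p.1).mp p.2).1, q.1, ((hF q.1).mp q.2).1, ?_, ?_, ?_,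
      ((hF p.1).mp p.2).2, ((hF q.1).mp q.2).2⟩
    · intro h
      exact hp (Subtype.ext h)
    · intro h
      exact hq (Subtype.ext h)
    · intro h
      exact hpq (Subtype.ext h)
  by_cases hx : x = 1
  · have hy : y ≠ 1 := fun h => hxy (hx.trans h.symm)
    have hw : w ≠ 1 := fun h => hxw (hx.trans h.symm)
    exact pick y w hy hw hyw
  · by_cases hy : y = 1
    · have hw : w ≠ 1 := fun h => hyw (hy.trans h.symm)
      exact pick x w hx hw hxw
    · exact pick x y hx hy hxy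

/-- The dichotomy (F1), element form, with (H4) replaced by `4 < |V|`. -/
theorem dich_F1_card (V : Subgroup G) [Finite ↥V]
    (hexp : ∀ v ∈ V, v * v = 1) (hcard : 4 < Nat.card ↥V)
    (H1 : ∀ u ∈ V, u ≠ 1 →
      Subgroup.centralizer ({u} : Set G) ≤ Subgroup.normalizer (V : Set G))
    (H2 : ∀ g : G, V ⊓ V.map (MulAut.conj g).toMonoidHom ≠ ⊥ →
      g ∈ Subgroup.normalizer (V : Set G))
    (H3 : ∀ b₁ ∈ Subgroup.normalizer (V : Set G), ∀ b₂ ∈ Subgroup.normalizer (V : Set G),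
      b₁ * b₁ = 1 → b₂ * b₂ = 1 → b₁ * b₂ = b₂ * b₁ →
      (∀ v ∈ V, (b₁ * v = v * b₁ ↔ b₂ * v = v * b₂) ∧
        (b₁ * v = v * b₁ ↔ (b₁ * b₂) * v = v * (b₁ * b₂))) →
      b₁ ∈ Subgroup.centralizer (V : Set G) ∨ b₂ ∈ Subgroup.centralizer (V : Set G) ∨
        b₁ * b₂ ∈ Subgroup.centralizer (V : Set G)) :
    ∀ a b : G, V.map (MulAut.conj a).toMonoidHom ⊓
      Subgroup.normalizer ((V.map (MulAut.conj b).toMonoidHom : Subgroup G) : Set G) ≠ ⊥ →
      ∀ u ∈ V.map (MulAut.conj a).toMonoidHom, ∀ v ∈ V.map (MulAut.conj b).toMonoidHom,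
        u * v = v * u :=
  dich_F1 V hexp H1 H2 H3 (fun b hbN hbb => fix_two_of_card V hexp hcard b hbN hbb)

/-- One-sided form with (H4) replaced by `4 < |V|`. -/
theorem dich_card (V : Subgroup G) [Finite ↥V]
    (hexp : ∀ v ∈ V, v * v = 1) (hcard : 4 < Nat.card ↥V)
    (H1 : ∀ u ∈ V, u ≠ 1 →
      Subgroup.centralizer ({u} : Set G) ≤ Subgroup.normalizer (V : Set G))
    (H2 : ∀ g : G, V ⊓ V.map (MulAut.conj g).toMonoidHom ≠ ⊥ →
      g ∈ Subgroup.normalizer (V : Set G))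
    (H3 : ∀ b₁ ∈ Subgroup.normalizer (V : Set G), ∀ b₂ ∈ Subgroup.normalizer (V : Set G),
      b₁ * b₁ = 1 → b₂ * b₂ = 1 → b₁ * b₂ = b₂ * b₁ →
      (∀ v ∈ V, (b₁ * v = v * b₁ ↔ b₂ * v = v * b₂) ∧
        (b₁ * v = v * b₁ ↔ (b₁ * b₂) * v = v * (b₁ * b₂))) →
      b₁ ∈ Subgroup.centralizer (V : Set G) ∨ b₂ ∈ Subgroup.centralizer (V : Set G) ∨
        b₁ * b₂ ∈ Subgroup.centralizer (V : Set G))
    (g : G)
    (hne : V.map (MulAut.conj g).toMonoidHom ⊓ Subgroup.normalizer (V : Set G) ≠ ⊥) :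
    V.map (MulAut.conj g).toMonoidHom ≤ Subgroup.centralizer (V : Set G) :=
  dich V hexp H1 H2 H3 (fun b hbN hbb => fix_two_of_card V hexp hcard b hbN hbb) g hne

end Cfsg.Agent.H84.JtDich
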