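import Cfsg.Agent.H84.JtDichCard

/-!
The dichotomy (F1) with hypothesis (H3) in the negated "four-group" shape (Q4)
(the shape of `Cfsg.Agent.H1.Jt.four_group`): no `a`, `b` in `N_G(V)` with `a * a = 1`,
`b * b = 1`, `a * b = b * a`, none of `a`, `b`, `a * b` centralizing `V`, such that `a`, `b`,
`a * b` have the same fixed points on `V`.
-/

set_option autoImplicit false

universe u

namespace Cfsg.Agent.H84.JtDich

variable {G : Type u} [Group G]

/-- (Q4) in negated form gives (H3) in disjunctive form. -/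
theorem h3_of_q4 (V : Subgroup G)
    (hQ4 : ∀ a b : G, a ∈ Subgroup.normalizer (V : Set G) → b ∈ Subgroup.normalizer (V : Set G) →
      a * a = 1 → b * b = 1 → a * b = b * a →
      a ∉ Subgroup.centralizer (V : Set G) → b ∉ Subgroup.centralizer (V : Set G) →
      a * b ∉ Subgroup.centralizer (V : Set G) →
      ¬ (∀ v ∈ V, (a * v = v * a ↔ b * v = v * b) ∧
        (a * v = v * a ↔ (a * b) * v = v * (a * b)))) :
    ∀ b₁ ∈ Subgroup.normalizer (V : Set G), ∀ b₂ ∈ Subgroup.normalizer (V : Set G),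
      b₁ * b₁ = 1 → b₂ * b₂ = 1 → b₁ * b₂ = b₂ * b₁ →
      (∀ v ∈ V, (b₁ * v = v * b₁ ↔ b₂ * v = v * b₂) ∧
        (b₁ * v = v * b₁ ↔ (b₁ * b₂) * v = v * (b₁ * b₂))) →
      b₁ ∈ Subgroup.centralizer (V : Set G) ∨ b₂ ∈ Subgroup.centralizer (V : Set G) ∨
        b₁ * b₂ ∈ Subgroup.centralizer (V : Set G) := by
  intro b₁ hb₁ b₂ hb₂ h11 h22 h12 hfix
  by_contra hcon
  have h1 : b₁ ∉ Subgroup.centralizer (V : Set G) := fun h => hcon (Or.inl h)
  have h2 : b₂ ∉ Subgroup.centralizer (V : Set G) := fun h => hcon (Or.inr (Or.inl h))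
  have h3 : b₁ * b₂ ∉ Subgroup.centralizer (V : Set G) := fun h => hcon (Or.inr (Or.inr h))
  exact hQ4 b₁ b₂ hb₁ hb₂ h11 h22 h12 h1 h2 h3 hfix

/-- The dichotomy (F1), element form (= `hF1` of `Cfsg.Agent.H59.PushKill`), from (Q4). -/
theorem dich_F1_q4 (V : Subgroup G) [Finite ↥V]
    (hexp : ∀ v ∈ V, v * v = 1) (hcard : 4 < Nat.card ↥V)
    (H1 : ∀ u ∈ V, u ≠ 1 →
      Subgroup.centralizer ({u} : Set G) ≤ Subgroup.normalizer (V : Set G))
    (H2 : ∀ g : G, V ⊓ V.map (MulAut.conj g).toMonoidHom ≠ ⊥ →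
      g ∈ Subgroup.normalizer (V : Set G))
    (hQ4 : ∀ a b : G, a ∈ Subgroup.normalizer (V : Set G) → b ∈ Subgroup.normalizer (V : Set G) →
      a * a = 1 → b * b = 1 → a * b = b * a →
      a ∉ Subgroup.centralizer (V : Set G) → b ∉ Subgroup.centralizer (V : Set G) →
      a * b ∉ Subgroup.centralizer (V : Set G) →
      ¬ (∀ v ∈ V, (a * v = v * a ↔ b * v = v * b) ∧
        (a * v = v * a ↔ (a * b) * v = v * (a * b)))) :
    ∀ a b : G, V.map (MulAut.conj a).toMonoidHom ⊓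
      Subgroup.normalizer ((V.map (MulAut.conj b).toMonoidHom : Subgroup G) : Set G) ≠ ⊥ →
      ∀ u ∈ V.map (MulAut.conj a).toMonoidHom, ∀ v ∈ V.map (MulAut.conj b).toMonoidHom,
        u * v = v * u :=
  dich_F1_card V hexp hcard H1 H2 (h3_of_q4 V hQ4)

/-- One-sided subgroup form from (Q4). -/
theorem dich_q4 (V : Subgroup G) [Finite ↥V]
    (hexp : ∀ v ∈ V, v * v = 1) (hcard : 4 < Nat.card ↥V)
    (H1 : ∀ u ∈ V, u ≠ 1 →
      Subgroup.centralizer ({u} : Set G) ≤ Subgroup.normalizer (V : Set G))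
    (H2 : ∀ g : G, V ⊓ V.map (MulAut.conj g).toMonoidHom ≠ ⊥ →
      g ∈ Subgroup.normalizer (V : Set G))
    (hQ4 : ∀ a b : G, a ∈ Subgroup.normalizer (V : Set G) → b ∈ Subgroup.normalizer (V : Set G) →
      a * a = 1 → b * b = 1 → a * b = b * a →
      a ∉ Subgroup.centralizer (V : Set G) → b ∉ Subgroup.centralizer (V : Set G) →
      a * b ∉ Subgroup.centralizer (V : Set G) →
      ¬ (∀ v ∈ V, (a * v = v * a ↔ b * v = v * b) ∧
        (a * v = v * a ↔ (a * b) * v = v * (a * b))))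
    (g : G)
    (hne : V.map (MulAut.conj g).toMonoidHom ⊓ Subgroup.normalizer (V : Set G) ≠ ⊥) :
    V.map (MulAut.conj g).toMonoidHom ≤ Subgroup.centralizer (V : Set G) :=
  dich_card V hexp hcard H1 H2 (h3_of_q4 V hQ4) g hne

end Cfsg.Agent.H84.JtDich
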