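/-
helper84 library: arithmetic for Galois averages of integral quadratic forms over the
`p^a`-th cyclotomic integers.

* `sum_coprime_prime_pow`: the sum of the `γ`-th powers (`γ` prime to `p`) of a `p^(a+1)`-th
  root of unity.
* `galW`, `sum_pow_galW`: the resulting weights.
* `class_bound`, `galW_sum_eq`, `galW_sum_bound`, `galW_sum_bound_rank_one`: lower bounds for
  the trace of a Gram matrix.
-/
import Mathlib
import Cfsg.Agent.H84.Contrib5

set_option autoImplicit false
set_option linter.style.haveILetI false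
set_option linter.unusedSectionVars false
set_option linter.unusedVariables false

namespace Cfsg.Agent.H84

section GalArith

/-- The sum of the `γ`-th powers, `γ < p^(a+1)` prime to `p`, of a `p^(a+1)`-th root of unity. -/
theorem sum_coprime_prime_pow (p a : ℕ) (hp : p.Prime) (ω : ℂ) (hω : ω ^ (p ^ (a + 1)) = 1) :
    ∑ γ ∈ (Finset.range (p ^ (a + 1))).filter (fun i => i.Coprime (p ^ (a + 1))), ω ^ γ =
      (if ω = 1 then ((p ^ (a + 1) : ℕ) : ℂ) else 0) -
        (if ω ^ p = 1 then ((p ^ a : ℕ) : ℂ) else 0) := by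
  classical
  have hfilt : (Finset.range (p ^ (a + 1))).filter (fun i => i.Coprime (p ^ (a + 1))) =
      (Finset.range (p ^ (a + 1))).filter (fun i => ¬ p ∣ i) := by
    apply Finset.filter_congr
    intro i _
    rw [Nat.coprime_pow_right_iff (Nat.succ_pos a), Nat.coprime_comm, hp.coprime_iff_not_dvd]
  rw [hfilt]
  have h1 : ∑ γ ∈ (Finset.range (p ^ (a + 1))).filter (fun i => ¬ p ∣ i), ω ^ γ =
      ∑ γ ∈ Finset.range (p ^ (a + 1)), ω ^ γ -
        ∑ γ ∈ (Finset.range (p ^ (a + 1))).filter (fun i => p ∣ i), ω ^ γ := by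
    rw [eq_sub_iff_add_eq, add_comm]
    exact Finset.sum_filter_add_sum_filter_not _ _ _
  have h2 : ∑ γ ∈ Finset.range (p ^ (a + 1)), ω ^ γ =
      if ω = 1 then ((p ^ (a + 1) : ℕ) : ℂ) else 0 := by
    split_ifs with h
    · rw [h]
      simp
    · exact geom_sum_of_pow_eq_one ω _ hω h
  have h3 : ∑ γ ∈ (Finset.range (p ^ (a + 1))).filter (fun i => p ∣ i), ω ^ γ =
      ∑ δ ∈ Finset.range (p ^ a), (ω ^ p) ^ δ := by
    symm
    apply Finset.sum_bij (fun δ _ => p * δ)
    · intro δ hδ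
      rw [Finset.mem_filter, Finset.mem_range]
      rw [Finset.mem_range] at hδ
      refine ⟨?_, dvd_mul_right p δ⟩
      rw [pow_succ, mul_comm (p ^ a) p]
      exact Nat.mul_lt_mul_of_pos_left hδ hp.pos
    · intro δ₁ _ δ₂ _ h
      exact Nat.eq_of_mul_eq_mul_left hp.pos h
    · intro γ hγ
      rw [Finset.mem_filter, Finset.mem_range] at hγ
      obtain ⟨δ, rfl⟩ := hγ.2
      refine ⟨δ, ?_, rfl⟩
      rw [Finset.mem_range]
      have := hγ.1
      rw [pow_succ, mul_comm (p ^ a) p] at this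
      exact Nat.lt_of_mul_lt_mul_left this
    · intro δ _
      rw [← pow_mul]
  have h4 : ∑ δ ∈ Finset.range (p ^ a), (ω ^ p) ^ δ =
      if ω ^ p = 1 then ((p ^ a : ℕ) : ℂ) else 0 := by
    split_ifs with h
    · rw [h]
      simp
    · apply geom_sum_of_pow_eq_one _ _ _ h
      rw [← pow_mul, ← pow_succ']
      exact hω
  rw [h1, h2, h3, h4]

/-- The Galois weights. -/
def galW (q p i j : ℕ) : ℤ :=
  (if i = j then ((q * p : ℕ) : ℤ) else 0) - (if i % q = j % q then (q : ℤ) else 0)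

theorem sum_pow_galW (p a : ℕ) (hp : p.Prime) (ζ : ℂ) (hζ : IsPrimitiveRoot ζ (p ^ (a + 1)))
    (i j : ℕ) (hi : i < p ^ (a + 1)) (hj : j < p ^ (a + 1)) :
    ∑ γ ∈ (Finset.range (p ^ (a + 1))).filter (fun i => i.Coprime (p ^ (a + 1))),
        (ζ ^ γ) ^ (i + (p ^ (a + 1) - j)) = ((galW (p ^ a) p i j : ℤ) : ℂ) := by
  classical
  obtain ⟨m, hm⟩ : ∃ m : ℕ, m = i + (p ^ (a + 1) - j) := ⟨_, rfl⟩
  rw [← hm]
  have h1 : ∀ γ : ℕ, (ζ ^ γ) ^ m = (ζ ^ m) ^ γ := by
    intro γ
    rw [← pow_mul, ← pow_mul, mul_comm]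
  simp only [h1]
  have hω : (ζ ^ m) ^ (p ^ (a + 1)) = 1 := by
    rw [← pow_mul, mul_comm, pow_mul, hζ.pow_eq_one, one_pow]
  rw [sum_coprime_prime_pow p a hp _ hω]
  have hN : p ^ (a + 1) = p ^ a * p := pow_succ p a
  have hq : 0 < p ^ a := pow_pos hp.pos a
  have e1 : ζ ^ m = 1 ↔ i = j := by
    rw [hζ.pow_eq_one_iff_dvd]
    constructor
    · rintro ⟨c, hc⟩
      rcases c with _ | _ | c
      · omega
      · omega
      · exfalso
        have : p ^ (a + 1) * (c + 1 + 1) = p ^ (a + 1) * c + 2 * p ^ (a + 1) := by ring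
        have h3 : 0 ≤ p ^ (a + 1) * c := Nat.zero_le _
        omega
    · intro h
      refine ⟨1, ?_⟩
      omega
  have e2 : (ζ ^ m) ^ p = 1 ↔ i % p ^ a = j % p ^ a := by
    rw [← pow_mul, hζ.pow_eq_one_iff_dvd, hN, Nat.mul_dvd_mul_iff_right hp.pos]
    have hjN : j + (p ^ a * p - j) = p ^ a * p := by omega
    have hmod : (p ^ a * p) ≡ 0 [MOD p ^ a] := by
      rw [Nat.modEq_zero_iff_dvd]
      exact dvd_mul_right _ _
    constructor
    · intro h
      have h3 : i + (p ^ a * p - j) ≡ j + (p ^ a * p - j) [MOD p ^ a] := by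
        rw [hjN]
        have h4 : m ≡ 0 [MOD p ^ a] := (Nat.modEq_zero_iff_dvd).mpr h
        rw [hm, hN] at h4
        exact h4.trans hmod.symm
      exact Nat.ModEq.add_right_cancel' _ h3
    · intro h
      have h3 : i ≡ j [MOD p ^ a] := h
      have h4 : i + (p ^ a * p - j) ≡ j + (p ^ a * p - j) [MOD p ^ a] := h3.add_right _
      rw [hjN] at h4
      rw [hm, hN]
      exact (Nat.modEq_zero_iff_dvd).mp (h4.trans hmod)
  unfold galW
  simp only [e1, e2]
  rw [← hN]
  push_cast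
  split_ifs <;> simp

/-- The residue classes modulo `q` below `q * p` have `p` elements. -/
theorem card_filter_mod (q p r : ℕ) (hr : r < q) :
    ((Finset.range (q * p)).filter (fun i => i % q = r)).card = p := by
  classical
  have h : (Finset.range (q * p)).filter (fun i => i % q = r) =
      (Finset.range p).image (fun t => r + q * t) := by
    ext i
    simp only [Finset.mem_filter, Finset.mem_range, Finset.mem_image]
    constructor
    · rintro ⟨h1, h2⟩
      refine ⟨i / q, ?_, ?_⟩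
      · exact Nat.div_lt_of_lt_mul h1
      · rw [← h2]
        exact Nat.mod_add_div i q
    · rintro ⟨t, ht, rfl⟩
      refine ⟨?_, ?_⟩
      · calc r + q * t < q + q * t := by omega
          _ = q * (t + 1) := by ring
          _ ≤ q * p := Nat.mul_le_mul_left q ht
      · rw [Nat.add_mul_mod_self_left, Nat.mod_eq_of_lt hr]
  rw [h, Finset.card_image_of_injective, Finset.card_range]
  intro t₁ t₂ h
  have hq : 0 < q := by omega
  exact Nat.eq_of_mul_eq_mul_left hq (Nat.add_left_cancel h)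

/-- Lower bound for the sum of a "squared distance" function over a class of `p` elements. -/
theorem class_bound (p : ℕ) (K : Finset ℕ) (hK : K.card = p) (d : ℕ → ℕ → ℤ) (α : ℤ)
    (hα : 0 ≤ α) (hdiag : ∀ i, d i i = 0) (hsym : ∀ i j, d i j = d j i)
    (hd : ∀ i j, d i j = 0 ∨ α ≤ d i j)
    (htr : ∀ i j k, d k i = 0 → d k j = 0 → d i j = 0) :
    (∑ i ∈ K, ∑ j ∈ K, d i j) = 0 ∨ 2 * ((p : ℤ) - 1) * α ≤ ∑ i ∈ K, ∑ j ∈ K, d i j := by
  classical
  have hnn : ∀ i j, 0 ≤ d i j := by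
    intro i j
    rcases hd i j with h | h
    · rw [h]
    · exact hα.trans h
  by_cases hall : ∀ i ∈ K, ∀ j ∈ K, d i j = 0
  · left
    apply Finset.sum_eq_zero
    intro i hi
    apply Finset.sum_eq_zero
    intro j hj
    exact hall i hi j hj
  · right
    push Not at hall
    obtain ⟨i₀, hi₀, j₀, hj₀, h0⟩ := hall
    have hne : j₀ ≠ i₀ := by
      intro h
      rw [h] at h0
      exact h0 (hdiag i₀)
    have hrow : ∀ k, α ≤ d k i₀ + d k j₀ := by
      intro k
      rcases hd k i₀ with h1 | h1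
      · rcases hd k j₀ with h2 | h2
        · exact absurd (htr i₀ j₀ k h1 h2) h0
        · have := hnn k i₀
          linarith
      · have := hnn k j₀
        linarith
    obtain ⟨col, hcol⟩ : ∃ col : ℕ → ℤ, ∀ j, col j = ∑ i ∈ K, d i j := ⟨_, fun _ => rfl⟩
    have hW : ∑ i ∈ K, ∑ j ∈ K, d i j = ∑ j ∈ K, col j := by
      rw [Finset.sum_comm]
      apply Finset.sum_congr rfl
      intro j _
      rw [hcol]
    have hj₀' : j₀ ∈ K.erase i₀ := Finset.mem_erase.mpr ⟨hne, hj₀⟩
    have hsplit : ∑ j ∈ K, col j =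
        col i₀ + (col j₀ + ∑ j ∈ (K.erase i₀).erase j₀, col j) := by
      rw [Finset.add_sum_erase _ _ hj₀', Finset.add_sum_erase _ _ hi₀]
    have hc1 : (p : ℤ) * α ≤ col i₀ + col j₀ := by
      rw [hcol, hcol, ← Finset.sum_add_distrib]
      have := Finset.card_nsmul_le_sum K (fun k => d k i₀ + d k j₀) α (fun k _ => hrow k)
      rw [hK, nsmul_eq_mul] at this
      exact this
    have hc2 : ∀ j ∈ (K.erase i₀).erase j₀, α ≤ col j := by
      intro j hj
      rw [hcol]
      have hsub : ({i₀, j₀} : Finset ℕ) ⊆ K := by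
        intro t ht
        rw [Finset.mem_insert, Finset.mem_singleton] at ht
        rcases ht with rfl | rfl
        · exact hi₀
        · exact hj₀
      have h1 := Finset.sum_le_sum_of_subset_of_nonneg (f := fun i => d i j) hsub
        (fun i _ _ => hnn i j)
      rw [Finset.sum_pair hne.symm] at h1
      have h2 := hrow j
      rw [hsym j i₀, hsym j j₀] at h2
      exact h2.trans h1
    have hc3 : ((p : ℤ) - 2) * α ≤ ∑ j ∈ (K.erase i₀).erase j₀, col j := by
      have := Finset.card_nsmul_le_sum _ col α hc2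
      rw [nsmul_eq_mul] at this
      have hcard : (((K.erase i₀).erase j₀).card : ℤ) = (p : ℤ) - 2 := by
        have h1 := Finset.card_erase_add_one hj₀'
        have h2 := Finset.card_erase_add_one hi₀
        rw [hK] at h2
        have h3 : ((K.erase i₀).erase j₀).card + 2 = p := by omega
        rw [← h3]
        push_cast
        ring
      rw [hcard] at this
      exact this
    rw [hW, hsplit]
    linarith

/-- The classes modulo `q`. -/
def modClass (q p r : ℕ) : Finset ℕ := (Finset.range (q * p)).filter (fun i => i % q = r)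

theorem galW_sum_eq (q p : ℕ) (hq : 0 < q) (a : ℕ → ℕ → ℤ) :
    ∑ i ∈ Finset.range (q * p), ∑ j ∈ Finset.range (q * p), a i j * galW q p i j =
      (q : ℤ) * ∑ r ∈ Finset.range q, ((p : ℤ) * ∑ i ∈ modClass q p r, a i i -
        ∑ i ∈ modClass q p r, ∑ j ∈ modClass q p r, a i j) := by
  classical
  have hmaps : ∀ i ∈ Finset.range (q * p), i % q ∈ Finset.range q := fun i _ =>
    Finset.mem_range.mpr (Nat.mod_lt i hq)
  have h1 : ∀ i ∈ Finset.range (q * p), ∑ j ∈ Finset.range (q * p), a i j * galW q p i j =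
      ((q * p : ℕ) : ℤ) * a i i - (q : ℤ) * ∑ j ∈ modClass q p (i % q), a i j := by
    intro i hi
    unfold galW
    simp only [mul_sub, Finset.sum_sub_distrib, mul_ite, mul_zero]
    rw [Finset.sum_ite_eq (Finset.range (q * p)) i, if_pos hi]
    congr 1
    · ring
    · unfold modClass
      rw [Finset.sum_filter, Finset.mul_sum]
      apply Finset.sum_congr rfl
      intro j _
      by_cases h : i % q = j % q
      · rw [if_pos h, if_pos h.symm]
        ring
      · rw [if_neg h, if_neg (fun h' => h h'.symm)]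
        ring
  rw [Finset.sum_congr rfl h1, Finset.sum_sub_distrib,
    ← Finset.sum_fiberwise_of_maps_to hmaps (fun i => ((q * p : ℕ) : ℤ) * a i i),
    ← Finset.sum_fiberwise_of_maps_to hmaps
      (fun i => (q : ℤ) * ∑ j ∈ modClass q p (i % q), a i j),
    ← Finset.sum_sub_distrib, Finset.mul_sum]
  apply Finset.sum_congr rfl
  intro r _
  have h2 : ∑ i ∈ (Finset.range (q * p)).filter (fun i => i % q = r),
      (q : ℤ) * ∑ j ∈ modClass q p (i % q), a i j =
      (q : ℤ) * ∑ i ∈ modClass q p r, ∑ j ∈ modClass q p r, a i j := by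
    unfold modClass
    rw [Finset.mul_sum]
    apply Finset.sum_congr rfl
    intro i hi
    rw [(Finset.mem_filter.mp hi).2]
  rw [h2]
  unfold modClass
  rw [← Finset.mul_sum]
  push_cast
  ring

/-- Twice the class term is the sum of the squared distances. -/
theorem class_term_eq (p : ℕ) (K : Finset ℕ) (hK : K.card = p) (a : ℕ → ℕ → ℤ) :
    ∑ i ∈ K, ∑ j ∈ K, (a i i + a j j - a i j - a j i) =
      2 * ((p : ℤ) * ∑ i ∈ K, a i i - ∑ i ∈ K, ∑ j ∈ K, a i j) := by
  have h1 : ∑ i ∈ K, ∑ j ∈ K, a i i = (p : ℤ) * ∑ i ∈ K, a i i := by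
    rw [Finset.mul_sum]
    apply Finset.sum_congr rfl
    intro i _
    rw [Finset.sum_const, hK, nsmul_eq_mul]
  have h2 : ∑ i ∈ K, ∑ j ∈ K, a j j = (p : ℤ) * ∑ i ∈ K, a i i := by
    rw [Finset.sum_const, hK, nsmul_eq_mul]
  have h3 : ∑ i ∈ K, ∑ j ∈ K, a j i = ∑ i ∈ K, ∑ j ∈ K, a i j := Finset.sum_comm
  simp only [Finset.sum_sub_distrib, Finset.sum_add_distrib]
  rw [h1, h2, h3]
  ring

/-- Lower bound for the Galois trace of an integral Gram matrix. -/
theorem galW_sum_bound (q p : ℕ) (hq : 0 < q) (a : ℕ → ℕ → ℤ) (α : ℤ) (hα : 0 ≤ α)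
    (hd : ∀ i j, a i i + a j j - a i j - a j i = 0 ∨ α ≤ a i i + a j j - a i j - a j i)
    (htr : ∀ i j k, a k k + a i i - a k i - a i k = 0 → a k k + a j j - a k j - a j k = 0 →
      a i i + a j j - a i j - a j i = 0) :
    (∑ i ∈ Finset.range (q * p), ∑ j ∈ Finset.range (q * p), a i j * galW q p i j) = 0 ∨
      α * ((q : ℤ) * ((p : ℤ) - 1)) ≤
        ∑ i ∈ Finset.range (q * p), ∑ j ∈ Finset.range (q * p), a i j * galW q p i j := by
  classical
  rw [galW_sum_eq q p hq a]
  obtain ⟨g, hg⟩ : ∃ g : ℕ → ℤ, ∀ r, g r = (p : ℤ) * ∑ i ∈ modClass q p r, a i i -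
      ∑ i ∈ modClass q p r, ∑ j ∈ modClass q p r, a i j := ⟨_, fun _ => rfl⟩
  simp only [← hg]
  have hcls : ∀ r ∈ Finset.range q, g r = 0 ∨ ((p : ℤ) - 1) * α ≤ g r := by
    intro r hr
    have hK : (modClass q p r).card = p := card_filter_mod q p r (Finset.mem_range.mp hr)
    have h1 := class_bound p (modClass q p r) hK (fun i j => a i i + a j j - a i j - a j i) α hα
      (fun i => by ring) (fun i j => by ring) hd htr
    rw [class_term_eq p _ hK a, ← hg] at h1
    rcases h1 with h1 | h1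
    · left
      linarith
    · right
      linarith
  have hnn : ∀ r ∈ Finset.range q, 0 ≤ g r := by
    intro r hr
    have hK : (modClass q p r).card = p := card_filter_mod q p r (Finset.mem_range.mp hr)
    have h1 : ∀ i j, 0 ≤ a i i + a j j - a i j - a j i := by
      intro i j
      rcases hd i j with h | h
      · rw [h]
      · exact hα.trans h
    have h2 : 0 ≤ ∑ i ∈ modClass q p r, ∑ j ∈ modClass q p r,
        (a i i + a j j - a i j - a j i) :=
      Finset.sum_nonneg (fun i _ => Finset.sum_nonneg (fun j _ => h1 i j))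
    rw [class_term_eq p _ hK a, ← hg] at h2
    linarith
  by_cases hall : ∀ r ∈ Finset.range q, g r = 0
  · left
    rw [Finset.sum_eq_zero hall, mul_zero]
  · right
    push Not at hall
    obtain ⟨r₀, hr₀, h0⟩ := hall
    have h1 : ((p : ℤ) - 1) * α ≤ g r₀ := (hcls r₀ hr₀).resolve_left h0
    have h2 : g r₀ ≤ ∑ r ∈ Finset.range q, g r := Finset.single_le_sum hnn hr₀
    have h3 : (0 : ℤ) ≤ (q : ℤ) := Int.natCast_nonneg q
    calc α * ((q : ℤ) * ((p : ℤ) - 1)) = (q : ℤ) * (((p : ℤ) - 1) * α) := by ring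
      _ ≤ (q : ℤ) * ∑ r ∈ Finset.range q, g r := mul_le_mul_of_nonneg_left (h1.trans h2) h3

/-- Sharper lower bound for the Galois trace of a rank one Gram matrix whose coefficient sum
is divisible by `p`. -/
theorem galW_sum_bound_rank_one (q p : ℕ) (hp : p.Prime) (hq : 0 < q) (c : ℕ → ℤ)
    (hc : (p : ℤ) ∣ ∑ i ∈ Finset.range (q * p), c i) :
    (∑ i ∈ Finset.range (q * p), ∑ j ∈ Finset.range (q * p), c i * c j * galW q p i j) = 0 ∨
      ((q : ℤ) * (p : ℤ)) ≤
        ∑ i ∈ Finset.range (q * p), ∑ j ∈ Finset.range (q * p), c i * c j * galW q p i j := by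
  classical
  have hpZ : Prime (p : ℤ) := Nat.prime_iff_prime_int.mp hp
  have hp2 : (2 : ℤ) ≤ (p : ℤ) := by exact_mod_cast hp.two_le
  rw [galW_sum_eq q p hq (fun i j => c i * c j)]
  obtain ⟨S, hS⟩ : ∃ S : ℕ → ℤ, ∀ r, S r = ∑ i ∈ modClass q p r, c i := ⟨_, fun _ => rfl⟩
  obtain ⟨g, hg⟩ : ∃ g : ℕ → ℤ, ∀ r, g r = (p : ℤ) * ∑ i ∈ modClass q p r, c i * c i -
      ∑ i ∈ modClass q p r, ∑ j ∈ modClass q p r, c i * c j := ⟨_, fun _ => rfl⟩
  simp only [← hg]
  have hgS : ∀ r, g r = (p : ℤ) * ∑ i ∈ modClass q p r, c i * c i - S r * S r := by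
    intro r
    rw [hg, hS, Finset.sum_mul_sum]
  have hcls : ∀ r ∈ Finset.range q, g r = 0 ∨ ((p : ℤ) - 1) ≤ g r := by
    intro r hr
    have hK : (modClass q p r).card = p := card_filter_mod q p r (Finset.mem_range.mp hr)
    have hd : ∀ i j, c i * c i + c j * c j - c i * c j - c j * c i = 0 ∨
        (1 : ℤ) ≤ c i * c i + c j * c j - c i * c j - c j * c i := by
      intro i j
      have h1 : c i * c i + c j * c j - c i * c j - c j * c i = (c i - c j) ^ 2 := by ring
      rw [h1]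
      by_cases h : c i - c j = 0
      · left
        rw [h]
        ring
      · right
        have : 0 < (c i - c j) ^ 2 := by positivity
        omega
    have htr : ∀ i j k, c k * c k + c i * c i - c k * c i - c i * c k = 0 →
        c k * c k + c j * c j - c k * c j - c j * c k = 0 →
        c i * c i + c j * c j - c i * c j - c j * c i = 0 := by
      intro i j k h1 h2
      have e1 : (c k - c i) ^ 2 = 0 := by rw [← h1]; ring
      have e2 : (c k - c j) ^ 2 = 0 := by rw [← h2]; ring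
      have e3 : c k = c i := by
        have := pow_eq_zero_iff (two_ne_zero) |>.mp e1
        linarith
      have e4 : c k = c j := by
        have := pow_eq_zero_iff (two_ne_zero) |>.mp e2
        linarith
      rw [← e3, ← e4]
      ring
    have h1 := class_bound p (modClass q p r) hK
      (fun i j => c i * c i + c j * c j - c i * c j - c j * c i) 1 zero_le_one
      (fun i => by ring) (fun i j => by ring) hd htr
    rw [class_term_eq p _ hK (fun i j => c i * c j), ← hg] at h1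
    rcases h1 with h1 | h1
    · left
      linarith
    · right
      linarith
  have hnn : ∀ r ∈ Finset.range q, 0 ≤ g r := by
    intro r hr
    rcases hcls r hr with h | h
    · rw [h]
    · linarith
  have hdv0 : ∀ r ∈ Finset.range q, g r = 0 → (p : ℤ) ∣ S r := by
    intro r _ h0
    have h1 : (p : ℤ) ∣ S r * S r := by
      refine ⟨∑ i ∈ modClass q p r, c i * c i, ?_⟩
      have := hgS r
      rw [h0] at this
      linarith
    rcases hpZ.dvd_or_dvd h1 with h | h <;> exact h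
  have hsumS : ∑ r ∈ Finset.range q, S r = ∑ i ∈ Finset.range (q * p), c i := by
    have hmaps : ∀ i ∈ Finset.range (q * p), i % q ∈ Finset.range q := fun i _ =>
      Finset.mem_range.mpr (Nat.mod_lt i hq)
    rw [← Finset.sum_fiberwise_of_maps_to hmaps c]
    apply Finset.sum_congr rfl
    intro r _
    rw [hS]
    rfl
  have hq0 : (0 : ℤ) ≤ (q : ℤ) := Int.natCast_nonneg q
  have key : (∑ r ∈ Finset.range q, g r) = 0 ∨ (p : ℤ) ≤ ∑ r ∈ Finset.range q, g r := by
    by_cases h2 : ∃ r₁ ∈ Finset.range q, ∃ r₂ ∈ Finset.range q, r₁ ≠ r₂ ∧ g r₁ ≠ 0 ∧ g r₂ ≠ 0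
    · right
      obtain ⟨r₁, hr₁, r₂, hr₂, hne, h1, h2⟩ := h2
      have hsub : ({r₁, r₂} : Finset ℕ) ⊆ Finset.range q := by
        intro t ht
        rw [Finset.mem_insert, Finset.mem_singleton] at ht
        rcases ht with rfl | rfl
        · exact hr₁
        · exact hr₂
      have h3 := Finset.sum_le_sum_of_subset_of_nonneg (f := g) hsub (fun r hr _ => hnn r hr)
      rw [Finset.sum_pair hne] at h3
      have h4 := (hcls r₁ hr₁).resolve_left h1
      have h5 := (hcls r₂ hr₂).resolve_left h2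
      linarith
    · by_cases h1 : ∃ r₀ ∈ Finset.range q, g r₀ ≠ 0
      · right
        obtain ⟨r₀, hr₀, h0⟩ := h1
        have hother : ∀ r ∈ Finset.range q, r ≠ r₀ → g r = 0 := by
          intro r hr hne
          by_contra hcon
          exact h2 ⟨r, hr, r₀, hr₀, hne, hcon, h0⟩
        have hsum : ∑ r ∈ Finset.range q, g r = g r₀ :=
          Finset.sum_eq_single r₀ (fun r hr hne => hother r hr hne) (fun h => absurd hr₀ h)
        rw [hsum]
        have hS0 : (p : ℤ) ∣ S r₀ := by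
          have h3 : S r₀ + ∑ r ∈ (Finset.range q).erase r₀, S r = ∑ r ∈ Finset.range q, S r :=
            Finset.add_sum_erase _ _ hr₀
          have h4 : (p : ℤ) ∣ ∑ r ∈ (Finset.range q).erase r₀, S r := by
            apply Finset.dvd_sum
            intro r hr
            rw [Finset.mem_erase] at hr
            exact hdv0 r hr.2 (hother r hr.2 hr.1)
          have h5 : (p : ℤ) ∣ ∑ r ∈ Finset.range q, S r := by
            rw [hsumS]
            exact hc
          have h6 : S r₀ = ∑ r ∈ Finset.range q, S r - ∑ r ∈ (Finset.range q).erase r₀, S r := by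
            linarith
          rw [h6]
          exact dvd_sub h5 h4
        have hdvg : (p : ℤ) ∣ g r₀ := by
          rw [hgS]
          exact dvd_sub (dvd_mul_right _ _) (dvd_mul_of_dvd_left hS0 _)
        have hpos : 0 < g r₀ := lt_of_le_of_ne (hnn r₀ hr₀) (Ne.symm h0)
        exact Int.le_of_dvd hpos hdvg
      · left
        push Not at h1
        exact Finset.sum_eq_zero h1
  rcases key with h | h
  · left
    rw [h, mul_zero]
  · right
    exact mul_le_mul_of_nonneg_left h hq0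

end GalArith

section Forms

variable {Ξ : Type*}

/-- The bilinear form with integral matrix `A` on the vectors supported on `bf`. -/
def bl (bf : Finset Ξ) (A : Ξ → Ξ → ℤ) (v w : Ξ → ℤ) : ℤ :=
  ∑ ξ ∈ bf, ∑ ξ' ∈ bf, v ξ * w ξ' * A ξ ξ'

/-- The associated quadratic form. -/
def qf (bf : Finset Ξ) (A : Ξ → Ξ → ℤ) (v : Ξ → ℤ) : ℤ := bl bf A v v

theorem bl_sub_left (bf : Finset Ξ) (A : Ξ → Ξ → ℤ) (v v' w : Ξ → ℤ) :
    bl bf A (v - v') w = bl bf A v w - bl bf A v' w := by
  unfold bl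
  simp only [Pi.sub_apply, sub_mul, Finset.sum_sub_distrib]

theorem bl_sub_right (bf : Finset Ξ) (A : Ξ → Ξ → ℤ) (v w w' : Ξ → ℤ) :
    bl bf A v (w - w') = bl bf A v w - bl bf A v w' := by
  unfold bl
  simp only [Pi.sub_apply, mul_sub, sub_mul, Finset.sum_sub_distrib]

theorem bl_add_left (bf : Finset Ξ) (A : Ξ → Ξ → ℤ) (v v' w : Ξ → ℤ) :
    bl bf A (v + v') w = bl bf A v w + bl bf A v' w := by
  unfold bl
  simp only [Pi.add_apply, add_mul, Finset.sum_add_distrib]

theorem bl_add_right (bf : Finset Ξ) (A : Ξ → Ξ → ℤ) (v w w' : Ξ → ℤ) :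
    bl bf A v (w + w') = bl bf A v w + bl bf A v w' := by
  unfold bl
  simp only [Pi.add_apply, mul_add, add_mul, Finset.sum_add_distrib]

theorem qf_sub_eq (bf : Finset Ξ) (A : Ξ → Ξ → ℤ) (v w : Ξ → ℤ) :
    qf bf A (v - w) = bl bf A v v + bl bf A w w - bl bf A v w - bl bf A w v := by
  unfold qf
  rw [bl_sub_left, bl_sub_right, bl_sub_right]
  ring

/-- The radical of a positive semidefinite integral form is a subgroup. -/
theorem qf_radical (bf : Finset Ξ) (A : Ξ → Ξ → ℤ) (α : ℤ) (hα : 0 ≤ α)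
    (hA : ∀ v : Ξ → ℤ, qf bf A v = 0 ∨ α ≤ qf bf A v) (v w : Ξ → ℤ)
    (hv : qf bf A v = 0) (hw : qf bf A w = 0) : qf bf A (v - w) = 0 := by
  have hnn : ∀ u : Ξ → ℤ, 0 ≤ qf bf A u := by
    intro u
    rcases hA u with h | h
    · rw [h]
    · exact hα.trans h
  have h1 := hnn (v - w)
  have h2 := hnn (v + w)
  have h3 : qf bf A (v + w) + qf bf A (v - w) = 2 * qf bf A v + 2 * qf bf A w := by
    unfold qf
    rw [bl_sub_left, bl_sub_right, bl_sub_right, bl_add_left, bl_add_right, bl_add_right]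
    ring
  rw [hv, hw] at h3
  linarith

theorem sum_comm4 {ι κ N : Type*} [AddCommMonoid N] (s : Finset ι) (t : Finset κ)
    (f : ι → ι → κ → κ → N) :
    ∑ i ∈ s, ∑ j ∈ s, ∑ x ∈ t, ∑ y ∈ t, f i j x y =
      ∑ x ∈ t, ∑ y ∈ t, ∑ i ∈ s, ∑ j ∈ s, f i j x y := by
  calc ∑ i ∈ s, ∑ j ∈ s, ∑ x ∈ t, ∑ y ∈ t, f i j x y
      = ∑ i ∈ s, ∑ x ∈ t, ∑ j ∈ s, ∑ y ∈ t, f i j x y :=
        Finset.sum_congr rfl (fun i _ => Finset.sum_comm)
    _ = ∑ x ∈ t, ∑ i ∈ s, ∑ j ∈ s, ∑ y ∈ t, f i j x y := Finset.sum_comm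
    _ = ∑ x ∈ t, ∑ i ∈ s, ∑ y ∈ t, ∑ j ∈ s, f i j x y :=
        Finset.sum_congr rfl (fun x _ => Finset.sum_congr rfl (fun i _ => Finset.sum_comm))
    _ = ∑ x ∈ t, ∑ y ∈ t, ∑ i ∈ s, ∑ j ∈ s, f i j x y :=
        Finset.sum_congr rfl (fun x _ => Finset.sum_comm)

/-- The Galois trace of the values of an integral form at a vector with cyclotomic
coefficients, as the Galois trace of a Gram matrix. -/
theorem gram_formula (p a : ℕ) (hp : p.Prime) (ζ : ℂ) (hζ : IsPrimitiveRoot ζ (p ^ (a + 1)))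
    (bf : Finset Ξ) (e : Ξ → ℕ) (he : ∀ ξ, e ξ < p ^ (a + 1)) (n : Ξ → ℤ) (A : Ξ → Ξ → ℤ) :
    ∑ γ ∈ (Finset.range (p ^ (a + 1))).filter (fun i => i.Coprime (p ^ (a + 1))),
        ∑ ξ ∈ bf, ∑ ξ' ∈ bf, (n ξ : ℂ) * (n ξ' : ℂ) * (A ξ ξ' : ℂ) *
          (ζ ^ γ) ^ (e ξ + (p ^ (a + 1) - e ξ')) =
      ((∑ i ∈ Finset.range (p ^ a * p), ∑ j ∈ Finset.range (p ^ a * p),
        bl bf A (fun ξ => if e ξ = i then n ξ else 0) (fun ξ => if e ξ = j then n ξ else 0) *
          galW (p ^ a) p i j : ℤ) : ℂ) := by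
  have hN : p ^ (a + 1) = p ^ a * p := pow_succ p a
  have h1 : ∑ i ∈ Finset.range (p ^ a * p), ∑ j ∈ Finset.range (p ^ a * p),
        bl bf A (fun ξ => if e ξ = i then n ξ else 0) (fun ξ => if e ξ = j then n ξ else 0) *
          galW (p ^ a) p i j =
      ∑ ξ ∈ bf, ∑ ξ' ∈ bf, n ξ * n ξ' * A ξ ξ' * galW (p ^ a) p (e ξ) (e ξ') := by
    unfold bl
    simp only [Finset.sum_mul]
    rw [sum_comm4]
    apply Finset.sum_congr rfl
    intro ξ _
    apply Finset.sum_congr rfl
    intro ξ' _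
    have hξ : e ξ ∈ Finset.range (p ^ a * p) := by
      rw [← hN]
      exact Finset.mem_range.mpr (he ξ)
    have hξ' : e ξ' ∈ Finset.range (p ^ a * p) := by
      rw [← hN]
      exact Finset.mem_range.mpr (he ξ')
    have h2 : ∀ i ∈ Finset.range (p ^ a * p), ∑ j ∈ Finset.range (p ^ a * p),
        (if e ξ = i then n ξ else 0) * (if e ξ' = j then n ξ' else 0) * A ξ ξ' *
          galW (p ^ a) p i j =
        (if e ξ = i then n ξ else 0) * n ξ' * A ξ ξ' * galW (p ^ a) p i (e ξ') := by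
      intro i _
      simp only [mul_ite, ite_mul, mul_zero, zero_mul]
      rw [Finset.sum_ite_eq (Finset.range (p ^ a * p)) (e ξ'), if_pos hξ']
    rw [Finset.sum_congr rfl h2]
    simp only [ite_mul, zero_mul]
    rw [Finset.sum_ite_eq (Finset.range (p ^ a * p)) (e ξ), if_pos hξ]
  rw [h1, Finset.sum_comm]
  push_cast
  apply Finset.sum_congr rfl
  intro ξ _
  rw [Finset.sum_comm]
  apply Finset.sum_congr rfl
  intro ξ' _
  rw [← Finset.mul_sum, sum_pow_galW p a hp ζ hζ (e ξ) (e ξ') (he ξ) (he ξ')]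

theorem card_coprime_prime_pow (p a : ℕ) (hp : p.Prime) :
    (((Finset.range (p ^ (a + 1))).filter (fun i => i.Coprime (p ^ (a + 1)))).card : ℤ) =
      ((p ^ a : ℕ) : ℤ) * ((p : ℤ) - 1) := by
  have h1 : ((Finset.range (p ^ (a + 1))).filter (fun i => i.Coprime (p ^ (a + 1)))).card =
      Nat.totient (p ^ (a + 1)) := by
    rw [Nat.totient_eq_card_coprime]
    congr 1
    apply Finset.filter_congr
    intro i _
    exact Nat.coprime_comm
  rw [h1, Nat.totient_prime_pow_succ hp]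
  have := hp.one_le
  push_cast [Nat.cast_sub this]
  ring

/-- **Lower bound for Galois traces**: if the integral form `A` takes only the value `0` and
values `≥ α` on integral vectors, its Galois trace at a vector with cyclotomic coefficients is
an integer which is `0` or at least `α φ(p^a)`. -/
theorem gram_bound (p a : ℕ) (hp : p.Prime) (ζ : ℂ) (hζ : IsPrimitiveRoot ζ (p ^ a))
    (bf : Finset Ξ) (e : Ξ → ℕ) (he : ∀ ξ, e ξ < p ^ a) (n : Ξ → ℤ) (A : Ξ → Ξ → ℤ) (α : ℤ)
    (hα : 0 ≤ α) (hA : ∀ v : Ξ → ℤ, qf bf A v = 0 ∨ α ≤ qf bf A v) :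
    ∃ T : ℤ, (∑ γ ∈ (Finset.range (p ^ a)).filter (fun i => i.Coprime (p ^ a)),
        ∑ ξ ∈ bf, ∑ ξ' ∈ bf, (n ξ : ℂ) * (n ξ' : ℂ) * (A ξ ξ' : ℂ) *
          (ζ ^ γ) ^ (e ξ + (p ^ a - e ξ')) = (T : ℂ)) ∧
      (T = 0 ∨ α * (((Finset.range (p ^ a)).filter (fun i => i.Coprime (p ^ a))).card : ℤ)
        ≤ T) := by
  rcases a with _ | a
  · have hI : (Finset.range (p ^ 0)).filter (fun i => i.Coprime (p ^ 0)) = {0} := by
      ext i
      simp
    refine ⟨qf bf A n, ?_, ?_⟩
    · rw [hI, Finset.sum_singleton]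
      unfold qf bl
      push_cast
      apply Finset.sum_congr rfl
      intro ξ _
      apply Finset.sum_congr rfl
      intro ξ' _
      rw [pow_zero, one_pow, mul_one]
    · rw [hI, Finset.card_singleton]
      simpa using hA n
  · refine ⟨_, gram_formula p a hp ζ hζ bf e he n A, ?_⟩
    rw [card_coprime_prime_pow p a hp]
    apply galW_sum_bound (p ^ a) p (pow_pos hp.pos a) _ α hα
    · intro i j
      have := hA ((fun ξ => if e ξ = i then n ξ else 0) - (fun ξ => if e ξ = j then n ξ else 0))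
      rwa [qf_sub_eq] at this
    · intro i j k h1 h2
      rw [← qf_sub_eq] at h1 h2 ⊢
      have := qf_radical bf A α hα hA _ _ h2 h1
      have e1 : ((fun ξ => if e ξ = k then n ξ else 0) - fun ξ => if e ξ = j then n ξ else 0) -
          ((fun ξ => if e ξ = k then n ξ else 0) - fun ξ => if e ξ = i then n ξ else 0) =
          (fun ξ => if e ξ = i then n ξ else 0) - fun ξ => if e ξ = j then n ξ else 0 := by
        funext ξ
        simp only [Pi.sub_apply]
        ring
      rw [e1] at this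
      exact this

/-- **Sharper bound in rank one**: for the form `L ⊗ L` and a vector whose value
`∑ n ξ L ξ` at `ζ = 1` is divisible by `p`, the Galois trace `T` is `0` or satisfies
`p φ(p^a) ≤ (p - 1) T`. -/
theorem gram_bound_rank_one (p a : ℕ) (hp : p.Prime) (ζ : ℂ) (hζ : IsPrimitiveRoot ζ (p ^ a))
    (bf : Finset Ξ) (e : Ξ → ℕ) (he : ∀ ξ, e ξ < p ^ a) (n L : Ξ → ℤ)
    (hdiv : (p : ℤ) ∣ ∑ ξ ∈ bf, n ξ * L ξ) :
    ∃ T : ℤ, (∑ γ ∈ (Finset.range (p ^ a)).filter (fun i => i.Coprime (p ^ a)),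
        ∑ ξ ∈ bf, ∑ ξ' ∈ bf, (n ξ : ℂ) * (n ξ' : ℂ) * ((L ξ * L ξ' : ℤ) : ℂ) *
          (ζ ^ γ) ^ (e ξ + (p ^ a - e ξ')) = (T : ℂ)) ∧
      (T = 0 ∨ (p : ℤ) * (((Finset.range (p ^ a)).filter (fun i => i.Coprime (p ^ a))).card : ℤ)
        ≤ ((p : ℤ) - 1) * T) := by
  have hp2 : (2 : ℤ) ≤ (p : ℤ) := by exact_mod_cast hp.two_le
  have hbl : ∀ v w : Ξ → ℤ, bl bf (fun ξ ξ' => L ξ * L ξ') v w =
      (∑ ξ ∈ bf, v ξ * L ξ) * (∑ ξ ∈ bf, w ξ * L ξ) := by
    intro v w
    unfold bl
    rw [Finset.sum_mul_sum]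
    apply Finset.sum_congr rfl
    intro ξ _
    apply Finset.sum_congr rfl
    intro ξ' _
    ring
  rcases a with _ | a
  · have hI : (Finset.range (p ^ 0)).filter (fun i => i.Coprime (p ^ 0)) = {0} := by
      ext i
      simp
    refine ⟨qf bf (fun ξ ξ' => L ξ * L ξ') n, ?_, ?_⟩
    · rw [hI, Finset.sum_singleton]
      unfold qf bl
      push_cast
      apply Finset.sum_congr rfl
      intro ξ _
      apply Finset.sum_congr rfl
      intro ξ' _
      rw [pow_zero, one_pow, mul_one]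
    · rw [hI, Finset.card_singleton]
      unfold qf
      rw [hbl]
      obtain ⟨m, hm⟩ := hdiv
      rw [hm]
      by_cases h0 : m = 0
      · left
        rw [h0]
        ring
      · right
        have h1 : 1 ≤ m ^ 2 := by
          have : 0 < m ^ 2 := by positivity
          omega
        push_cast
        nlinarith [mul_nonneg (mul_nonneg (by linarith : (0 : ℤ) ≤ (p : ℤ) - 1)
          (by positivity : (0 : ℤ) ≤ (p : ℤ) ^ 2)) (by linarith : (0 : ℤ) ≤ m ^ 2 - 1),
          mul_nonneg (by linarith : (0 : ℤ) ≤ (p : ℤ) - 2) (by linarith : (0 : ℤ) ≤ (p : ℤ))]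
  · refine ⟨_, gram_formula p a hp ζ hζ bf e he n (fun ξ ξ' => L ξ * L ξ'), ?_⟩
    rw [card_coprime_prime_pow p a hp]
    simp only [hbl]
    have hN : p ^ (a + 1) = p ^ a * p := pow_succ p a
    have hsum : ∑ i ∈ Finset.range (p ^ a * p), ∑ ξ ∈ bf, (if e ξ = i then n ξ else 0) * L ξ =
        ∑ ξ ∈ bf, n ξ * L ξ := by
      rw [Finset.sum_comm]
      apply Finset.sum_congr rfl
      intro ξ _
      have hξ : e ξ ∈ Finset.range (p ^ a * p) := by
        rw [← hN]
        exact Finset.mem_range.mpr (he ξ)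
      simp only [ite_mul, zero_mul]
      rw [Finset.sum_ite_eq (Finset.range (p ^ a * p)) (e ξ), if_pos hξ]
    have h1 := galW_sum_bound_rank_one (p ^ a) p hp (pow_pos hp.pos a)
      (fun i => ∑ ξ ∈ bf, (if e ξ = i then n ξ else 0) * L ξ) (by rw [hsum]; exact hdiv)
    rcases h1 with h1 | h1
    · left
      exact h1
    · right
      have h2 : (0 : ℤ) ≤ (p : ℤ) - 1 := by linarith
      have h3 := mul_le_mul_of_nonneg_left h1 h2
      calc (p : ℤ) * (((p ^ a : ℕ) : ℤ) * ((p : ℤ) - 1))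
          = ((p : ℤ) - 1) * (((p ^ a : ℕ) : ℤ) * (p : ℤ)) := by ring
        _ ≤ _ := h3

end Forms

end Cfsg.Agent.H84
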