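/-
helper84 library: the integral form `Q(ξ, ξ') = p^d ⟨ξ°, ξ'°⟩` of a block `b` of defect `d`.

* `bl_smul_left/right`, `bl_symm`, `rank_one_dvd`, `qf_sub_rank_one`: integral forms which have
  rank one modulo `p` and represent `1`.
* `classInner_self_eq`, `eq_zero_of_classInner_self`: positivity of the inner product.
* `regComb`, `classInner_regComb`: combinations of the `p`-regular parts of the characters of `b`.
* `exists_rank_one_mod`: `Q` has rank one modulo `p`.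
-/
import Mathlib
import Cfsg.Prelude.Def_Blocks
import Cfsg.Prelude.Def_BlockRank
import Cfsg.Agent.H84.Contrib4
import Cfsg.Agent.H84.Major1

set_option autoImplicit false
set_option linter.style.haveILetI false
set_option linter.unusedSectionVars false
set_option linter.unusedVariables false

namespace Cfsg.Agent.H84

open Cfsg Cfsg.Agent.H4 Cfsg.Agent.H20
open scoped ComplexConjugate

universe u

section Forms2

variable {Ξ : Type*}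

theorem bl_smul_left (bf : Finset Ξ) (A : Ξ → Ξ → ℤ) (c : ℤ) (v w : Ξ → ℤ) :
    bl bf A (fun ξ => c * v ξ) w = c * bl bf A v w := by
  unfold bl
  rw [Finset.mul_sum]
  apply Finset.sum_congr rfl
  intro ξ _
  rw [Finset.mul_sum]
  apply Finset.sum_congr rfl
  intro ξ' _
  ring

theorem bl_smul_right (bf : Finset Ξ) (A : Ξ → Ξ → ℤ) (c : ℤ) (v w : Ξ → ℤ) :
    bl bf A v (fun ξ => c * w ξ) = c * bl bf A v w := by
  unfold bl
  rw [Finset.mul_sum]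
  apply Finset.sum_congr rfl
  intro ξ _
  rw [Finset.mul_sum]
  apply Finset.sum_congr rfl
  intro ξ' _
  ring

theorem bl_symm (bf : Finset Ξ) (A : Ξ → Ξ → ℤ)
    (hA : ∀ ξ ∈ bf, ∀ ξ' ∈ bf, A ξ ξ' = A ξ' ξ) (v w : Ξ → ℤ) :
    bl bf A v w = bl bf A w v := by
  unfold bl
  rw [Finset.sum_comm]
  apply Finset.sum_congr rfl
  intro ξ hξ
  apply Finset.sum_congr rfl
  intro ξ' hξ'
  rw [hA ξ' hξ' ξ hξ]
  ring

theorem bl_eq_sum_mul (bf : Finset Ξ) (A : Ξ → Ξ → ℤ) (v w : Ξ → ℤ) :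
    bl bf A v w = ∑ ξ ∈ bf, v ξ * ∑ η ∈ bf, A ξ η * w η := by
  unfold bl
  apply Finset.sum_congr rfl
  intro ξ _
  rw [Finset.mul_sum]
  apply Finset.sum_congr rfl
  intro ξ' _
  ring

/-- A symmetric integral form of rank one modulo `p` which represents `1` is congruent to the
square of the linear form `L = Q(·, u)`. -/
theorem rank_one_dvd (p : ℤ) (bf : Finset Ξ) (Q : Ξ → Ξ → ℤ) (s : ℤ) (r : Ξ → ℤ)
    (hQ : ∀ ξ ∈ bf, ∀ ξ' ∈ bf, p ∣ Q ξ ξ' - s * r ξ * r ξ') (u : Ξ → ℤ)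
    (hu : qf bf Q u = 1) :
    ∀ ξ ∈ bf, ∀ ξ' ∈ bf,
      p ∣ Q ξ ξ' - (∑ η ∈ bf, Q ξ η * u η) * (∑ η ∈ bf, Q ξ' η * u η) := by
  obtain ⟨ρ, hρ⟩ : ∃ ρ : ℤ, ρ = ∑ η ∈ bf, r η * u η := ⟨_, rfl⟩
  have ha : ∀ ξ ∈ bf, p ∣ (∑ η ∈ bf, Q ξ η * u η) - s * r ξ * ρ := by
    intro ξ hξ
    have h1 : (∑ η ∈ bf, Q ξ η * u η) - s * r ξ * ρ =
        ∑ η ∈ bf, (Q ξ η - s * r ξ * r η) * u η := by
      rw [hρ, Finset.mul_sum, ← Finset.sum_sub_distrib]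
      apply Finset.sum_congr rfl
      intro η _
      ring
    rw [h1]
    apply Finset.dvd_sum
    intro η hη
    exact Dvd.dvd.mul_right (hQ ξ hξ η hη) _
  have hb : p ∣ 1 - s * ρ ^ 2 := by
    have h1 : 1 - s * ρ ^ 2 = ∑ ξ ∈ bf, ∑ ξ' ∈ bf, u ξ * u ξ' * (Q ξ ξ' - s * r ξ * r ξ') := by
      rw [← hu]
      unfold qf bl
      have h2 : s * ρ ^ 2 = ∑ ξ ∈ bf, ∑ ξ' ∈ bf, u ξ * u ξ' * (s * r ξ * r ξ') := by
        rw [hρ, sq, Finset.sum_mul_sum, Finset.mul_sum]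
        apply Finset.sum_congr rfl
        intro ξ _
        rw [Finset.mul_sum]
        apply Finset.sum_congr rfl
        intro ξ' _
        ring
      rw [h2, ← Finset.sum_sub_distrib]
      apply Finset.sum_congr rfl
      intro ξ _
      rw [← Finset.sum_sub_distrib]
      apply Finset.sum_congr rfl
      intro ξ' _
      ring
    rw [h1]
    apply Finset.dvd_sum
    intro ξ hξ
    apply Finset.dvd_sum
    intro ξ' hξ'
    exact Dvd.dvd.mul_left (hQ ξ hξ ξ' hξ') _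
  intro ξ hξ ξ' hξ'
  obtain ⟨c1, h1⟩ := hQ ξ hξ ξ' hξ'
  obtain ⟨c2, h2⟩ := ha ξ hξ
  obtain ⟨c3, h3⟩ := ha ξ' hξ'
  obtain ⟨c4, h4⟩ := hb
  refine ⟨c1 - c2 * (∑ η ∈ bf, Q ξ' η * u η) - s * r ξ * ρ * c3 + s * r ξ * r ξ' * c4, ?_⟩
  linear_combination h1 - (∑ η ∈ bf, Q ξ' η * u η) * h2 - (s * r ξ * ρ) * h3 +
    (s * r ξ * r ξ') * h4

/-- The complement `Q - L ⊗ L` of the vector `u` with `Q(u) = 1` takes only the value `0` and
values `≥ p` when it is divisible by `p`. -/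
theorem qf_sub_rank_one (bf : Finset Ξ) (Q : Ξ → Ξ → ℤ)
    (hsym : ∀ ξ ∈ bf, ∀ ξ' ∈ bf, Q ξ ξ' = Q ξ' ξ) (hnn : ∀ v : Ξ → ℤ, 0 ≤ qf bf Q v)
    (u : Ξ → ℤ) (hu : qf bf Q u = 1) (p : ℤ)
    (hdvd : ∀ ξ ∈ bf, ∀ ξ' ∈ bf,
      p ∣ Q ξ ξ' - (∑ η ∈ bf, Q ξ η * u η) * (∑ η ∈ bf, Q ξ' η * u η)) (v : Ξ → ℤ) :
    qf bf (fun ξ ξ' => Q ξ ξ' - (∑ η ∈ bf, Q ξ η * u η) * (∑ η ∈ bf, Q ξ' η * u η)) v = 0 ∨
      p ≤ qf bf (fun ξ ξ' => Q ξ ξ' - (∑ η ∈ bf, Q ξ η * u η) * (∑ η ∈ bf, Q ξ' η * u η)) v := by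
  obtain ⟨c, hc⟩ : ∃ c : ℤ, c = ∑ ξ ∈ bf, v ξ * ∑ η ∈ bf, Q ξ η * u η := ⟨_, rfl⟩
  have h1 : qf bf (fun ξ ξ' => Q ξ ξ' - (∑ η ∈ bf, Q ξ η * u η) * (∑ η ∈ bf, Q ξ' η * u η)) v =
      qf bf Q v - c ^ 2 := by
    unfold qf bl
    rw [hc, sq, Finset.sum_mul_sum, ← Finset.sum_sub_distrib]
    apply Finset.sum_congr rfl
    intro ξ _
    rw [← Finset.sum_sub_distrib]
    apply Finset.sum_congr rfl
    intro ξ' _
    ring
  have h2 : bl bf Q v u = c := by rw [hc, bl_eq_sum_mul]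
  have h3 : qf bf Q (v - fun ξ => c * u ξ) = qf bf Q v - c ^ 2 := by
    rw [qf_sub_eq, bl_smul_left, bl_smul_right, bl_smul_right, bl_smul_left,
      bl_symm bf Q hsym u v, h2]
    unfold qf at hu
    rw [hu]
    unfold qf
    ring
  have h4 : 0 ≤ qf bf Q v - c ^ 2 := by
    rw [← h3]
    exact hnn _
  have h5 : p ∣ qf bf (fun ξ ξ' => Q ξ ξ' - (∑ η ∈ bf, Q ξ η * u η) *
      (∑ η ∈ bf, Q ξ' η * u η)) v := by
    unfold qf bl
    apply Finset.dvd_sum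
    intro ξ hξ
    apply Finset.dvd_sum
    intro ξ' hξ'
    exact Dvd.dvd.mul_left (hdvd ξ hξ ξ' hξ') _
  rw [h1] at h5 ⊢
  by_cases h0 : qf bf Q v - c ^ 2 = 0
  · left
    exact h0
  · right
    exact Int.le_of_dvd (lt_of_le_of_ne h4 (Ne.symm h0)) h5

end Forms2

section Inner

variable {C : Type u} [Group C] [Fintype C]

theorem classInner_self_eq (f : C → ℂ) :
    classInner f f = (((Nat.card C : ℝ)⁻¹ * ∑ s : C, ‖f s‖ ^ 2 : ℝ) : ℂ) := by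
  unfold classInner
  push_cast
  congr 1
  apply Finset.sum_congr rfl
  intro s _
  rw [Complex.mul_conj']

theorem classInner_self_nonneg (f : C → ℂ) :
    0 ≤ (Nat.card C : ℝ)⁻¹ * ∑ s : C, ‖f s‖ ^ 2 := by
  positivity

theorem eq_zero_of_classInner_self (f : C → ℂ) (h : classInner f f = 0) : f = 0 := by
  rw [classInner_self_eq] at h
  have h1 : (Nat.card C : ℝ)⁻¹ * ∑ s : C, ‖f s‖ ^ 2 = 0 := by exact_mod_cast h
  have hC : (0 : ℝ) < (Nat.card C : ℝ)⁻¹ := by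
    have : (0 : ℝ) < (Nat.card C : ℝ) := by exact_mod_cast Nat.card_pos
    positivity
  have h2 : ∑ s : C, ‖f s‖ ^ 2 = 0 := by
    rcases mul_eq_zero.mp h1 with h | h
    · exact absurd h hC.ne'
    · exact h
  funext s
  have h3 := (Finset.sum_eq_zero_iff_of_nonneg (fun s _ => by positivity)).mp h2 s
    (Finset.mem_univ s)
  simpa using h3

/-- The combination `∑_{ξ ∈ b} w ξ • ξ°` of the `p`-regular parts of the characters of `b`. -/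
noncomputable def regComb (p : ℕ) (b : Set (IrrCharacter C)) (w : IrrCharacter C → ℂ) : C → ℂ :=
  ∑ ξ ∈ irrFinset b, w ξ • pRegularPart p (ξ : C → ℂ)

theorem classInner_regComb (p : ℕ) (b : Set (IrrCharacter C)) (w w' : IrrCharacter C → ℂ) :
    classInner (regComb p b w) (regComb p b w') =
      ∑ ξ ∈ irrFinset b, ∑ ξ' ∈ irrFinset b, w ξ * conj (w' ξ') * regInner p ξ ξ' := by
  unfold regComb
  rw [classInner_sum_left]
  apply Finset.sum_congr rfl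
  intro ξ _
  rw [classInner_smul_left, classInner_sum_right, Finset.mul_sum]
  apply Finset.sum_congr rfl
  intro ξ' _
  rw [classInner_smul_right, classInner_pReg_right]
  unfold regInner
  ring

end Inner

section RankOne

variable {C : Type u} [Group C] [Fintype C] {p : ℕ} [Fact p.Prime] {M : Ideal AlgInt}

/-- **The form `p^d ⟨ξ°, ξ'°⟩` of a block of defect `d` has rank one modulo `p`**: it is
congruent to `s r(ξ) r(ξ')`, `r(ξ) = ξ(1) / p^(a-d)`. -/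
theorem exists_rank_one_mod (hM : IsPModular p M) (ψ₀ : IrrCharacter C)
    (Q : IrrCharacter C → IrrCharacter C → ℤ)
    (hQ : ∀ ξ, ∀ ξ' ∈ blockOf M (ψ₀ : C → ℂ), (Q ξ ξ' : ℂ) =
      (p : ℂ) ^ blockDefect p (blockOf M (ψ₀ : C → ℂ)) * regInner p ξ ξ') :
    ∃ (s : ℤ) (r : IrrCharacter C → ℤ), ∀ ξ ∈ blockOf M (ψ₀ : C → ℂ),
      ∀ ξ' ∈ blockOf M (ψ₀ : C → ℂ), (p : ℤ) ∣ Q ξ ξ' - s * r ξ * r ξ' := by
  classical
  have hp : p.Prime := hM.1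
  have hMp := isPrime_of_isPModular hM
  obtain ⟨d, hd⟩ : ∃ d : ℕ, d = blockDefect p (blockOf M (ψ₀ : C → ℂ)) := ⟨_, rfl⟩
  obtain ⟨a, ha⟩ : ∃ a : ℕ, a = (Nat.card C).factorization p := ⟨_, rfl⟩
  rw [← hd] at hQ
  obtain ⟨ξ₀, hξ₀, h0⟩ := exists_height_zero_in_block (p := p) hMp ψ₀
  rw [← hd, ← ha] at h0
  have hdeg : ∀ ξ : IrrCharacter C, (ξ : C → ℂ) 1 = (charDegree (ξ : C → ℂ) : ℂ) ∧
      0 < charDegree (ξ : C → ℂ) := fun ξ => Cfsg.Agent.H81.irr_charDegree ξ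
  have hval : ∀ ξ ∈ blockOf M (ψ₀ : C → ℂ),
      a ≤ (charDegree (ξ : C → ℂ)).factorization p + d := by
    intro ξ hξ
    have := factorization_card_le_add_blockDefect (p := p) (blockOf M (ψ₀ : C → ℂ)) ξ hξ
    rw [← hd, ← ha] at this
    exact this
  have hdvd : ∀ ξ ∈ blockOf M (ψ₀ : C → ℂ), p ^ (a - d) ∣ charDegree (ξ : C → ℂ) := by
    intro ξ hξ
    rw [hp.pow_dvd_iff_le_factorization (hdeg ξ).2.ne']
    have := hval ξ hξ
    omega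
  obtain ⟨r, hr⟩ : ∃ r : IrrCharacter C → ℕ,
      ∀ ξ, r ξ = charDegree (ξ : C → ℂ) / p ^ (a - d) := ⟨_, fun _ => rfl⟩
  have hrmul : ∀ ξ ∈ blockOf M (ψ₀ : C → ℂ),
      charDegree (ξ : C → ℂ) = p ^ (a - d) * r ξ := by
    intro ξ hξ
    rw [hr, Nat.mul_div_cancel' (hdvd ξ hξ)]
  have hr₀ : ¬ p ∣ r ξ₀ := by
    rw [hr]
    have h1 : (charDegree (ξ₀ : C → ℂ)).factorization p = a - d := by omega
    rw [← h1]
    exact Nat.not_dvd_ordCompl hp (hdeg ξ₀).2.ne'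
  have hrpos : ∀ ξ ∈ blockOf M (ψ₀ : C → ℂ), (r ξ : ℂ) ≠ 0 := by
    intro ξ hξ h
    have h1 : r ξ = 0 := by exact_mod_cast h
    have h2 := hrmul ξ hξ
    rw [h1, mul_zero] at h2
    exact (hdeg ξ).2.ne' h2
  have hpC : (p : ℂ) ≠ 0 := by exact_mod_cast hp.ne_zero
  have hCC : (Nat.card C : ℂ) ≠ 0 := by exact_mod_cast (Nat.card_pos (α := C)).ne'
  -- the key congruence
  have hstar : ∀ ξ : IrrCharacter C, ∀ ξ' ∈ blockOf M (ψ₀ : C → ℂ),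
      (p : ℤ) ∣ (r ξ₀ : ℤ) * Q ξ ξ' - Q ξ ξ₀ * (r ξ' : ℤ) := by
    intro ξ ξ' hξ'
    have hsame : SameBlock M (ξ' : C → ℂ) (ξ₀ : C → ℂ) :=
      Cfsg.Agent.H80.sameBlock_trans hMp (Cfsg.Agent.H80.sameBlock_symm hξ') hξ₀
    have h1 := omega_sub_omega_memLocalIdeal hMp (ξ' : C → ℂ) (ξ₀ : C → ℂ)
      (irr_isClassFunction ξ') (irr_isClassFunction ξ₀) hsame (regElt_mem hMp p ξ)
    rw [omega_regElt_eq, omega_regElt_eq] at h1
    have hμ : MemLocalRing M (((p ^ d * charDegree (ξ' : C → ℂ) : ℕ) : ℂ) / (Nat.card C : ℂ) *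
        (r ξ₀ : ℂ)) := by
      apply memLocalRing_mul hMp _ (memLocalRing_natCast hMp _)
      apply memLocalRing_natCast_div hM Nat.card_pos.ne'
      rw [Nat.factorization_mul (pow_ne_zero _ hp.ne_zero) (hdeg ξ').2.ne', Finsupp.add_apply,
        Nat.Prime.factorization_pow hp, Finsupp.single_eq_same]
      have := hval ξ' hξ'
      omega
    have h2 := memLocalIdeal_mul_left hMp hμ h1
    rw [← memLocalIdeal_intCast_iff hM]
    convert h2 using 1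
    rw [(hdeg ξ').1, (hdeg ξ₀).1, hrmul ξ' hξ', hrmul ξ₀ hξ₀]
    push_cast
    rw [hQ ξ ξ' hξ', hQ ξ ξ₀ hξ₀]
    unfold regInner
    have h3 := hrpos ξ' hξ'
    have h4 := hrpos ξ₀ hξ₀
    have h5 : (p : ℂ) ^ (a - d) ≠ 0 := pow_ne_zero _ hpC
    field_simp
  have hsym : ∀ ξ ∈ blockOf M (ψ₀ : C → ℂ), ∀ ξ' ∈ blockOf M (ψ₀ : C → ℂ),
      Q ξ ξ' = Q ξ' ξ := by
    intro ξ hξ ξ' hξ'
    apply Int.cast_injective (α := ℂ)
    rw [hQ ξ' ξ hξ, ← regInner_conj, ← Complex.conj_natCast p, ← map_pow, ← map_mul,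
      ← hQ ξ ξ' hξ', map_intCast]
  obtain ⟨t, ht⟩ : ∃ t : ℤ, (p : ℤ) ∣ (r ξ₀ : ℤ) * t - 1 := by
    have hcop : Nat.Coprime (r ξ₀) p :=
      Nat.Coprime.symm ((Nat.Prime.coprime_iff_not_dvd hp).mpr hr₀)
    have hcop' : IsCoprime (r ξ₀ : ℤ) (p : ℤ) := Nat.isCoprime_iff_coprime.mpr hcop
    obtain ⟨u, v, huv⟩ := hcop'
    exact ⟨u, ⟨-v, by linarith⟩⟩
  refine ⟨t ^ 2 * Q ξ₀ ξ₀, fun ξ => (r ξ : ℤ), ?_⟩
  intro ξ hξ ξ' hξ'
  obtain ⟨c1, h1⟩ := hstar ξ ξ' hξ'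
  obtain ⟨c2, h2⟩ := hstar ξ₀ ξ hξ
  obtain ⟨c3, h3⟩ := ht
  have hs := hsym ξ hξ ξ₀ hξ₀
  refine ⟨t ^ 2 * ((r ξ₀ : ℤ) * c1 + (r ξ' : ℤ) * c2) - c3 * ((r ξ₀ : ℤ) * t + 1) * Q ξ ξ', ?_⟩
  linear_combination (t ^ 2 * (r ξ₀ : ℤ)) * h1 + (t ^ 2 * (r ξ' : ℤ)) * h2 -
    (((r ξ₀ : ℤ) * t + 1) * Q ξ ξ') * h3 + (t ^ 2 * (r ξ₀ : ℤ) * (r ξ' : ℤ)) * hs

end RankOne

end Cfsg.Agent.H84
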