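/-
helper84 library: subsection data for the Galois trace method.

* `conj_root_pow`, `exists_contrib_data2`: the contribution numbers of the subsections
  `(x^γ, b)` in coordinates (a refinement of `exists_contrib_data`).
* `regComb_reproduce`, `parseval_secPart`: Parseval's identity for the section parts.
* `pythagoras_classInner`: the orthogonal decomposition along a vector of norm `p^(-d)`.
* `classInner_regComb_int`: inner products with integral combinations.
-/
import Mathlib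
import Cfsg.Prelude.Def_Blocks
import Cfsg.Prelude.Def_BlockRank
import Cfsg.Agent.H84.Major2

set_option autoImplicit false
set_option linter.style.haveILetI false
set_option linter.unusedSectionVars false
set_option linter.unusedVariables false

namespace Cfsg.Agent.H84

open Cfsg Cfsg.Agent.H4 Cfsg.Agent.H20
open scoped ComplexConjugate

universe u

theorem conj_root_pow (ζ : ℂ) (N : ℕ) (hN : 0 < N) (hζ : IsPrimitiveRoot ζ N) (γ i : ℕ)
    (hi : i ≤ N) : conj ((ζ ^ γ) ^ i) = (ζ ^ γ) ^ (N - i) := by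
  have hζ1 : ‖ζ‖ = 1 := hζ.norm'_eq_one hN.ne'
  have hw0 : (ζ ^ γ) ^ i ≠ 0 := by
    apply pow_ne_zero
    apply pow_ne_zero
    intro h
    rw [h, norm_zero] at hζ1
    exact zero_ne_one hζ1
  have hw1 : conj ((ζ ^ γ) ^ i) * (ζ ^ γ) ^ i = 1 := by
    rw [Complex.conj_mul', norm_pow, norm_pow, hζ1]
    simp
  have hw2 : (ζ ^ γ) ^ (N - i) * (ζ ^ γ) ^ i = 1 := by
    rw [← pow_add, Nat.sub_add_cancel hi, ← pow_mul, mul_comm, pow_mul, hζ.pow_eq_one, one_pow]
  exact mul_right_cancel₀ hw0 (hw1.trans hw2.symm)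

section Data2

variable {G : Type u} [Group G] [Fintype G] {p : ℕ} [Fact p.Prime] {M : Ideal AlgInt}

/-- The section parts and the numbers `p^d m_{χψ}^{(x^γ, b)}` in coordinates. -/
theorem exists_contrib_data2 (hM : IsPModular p M) (x : G) (N : ℕ) (hN : 0 < N)
    (hxN : x ^ N = 1) (C : Subgroup G) [Fintype C] (hxmem : x ∈ C)
    (hxC : ∀ c ∈ C, x * c = c * x) (ψ₀ : IrrCharacter C) (ζ : ℂ) (hζ : IsPrimitiveRoot ζ N) :
    ∃ (n : IrrCharacter G → IrrCharacter C → ℕ) (e : IrrCharacter C → ℕ)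
      (Q : IrrCharacter C → IrrCharacter C → ℤ),
      (∀ ξ ∈ blockOf M (ψ₀ : C → ℂ), ∀ ξ' ∈ blockOf M (ψ₀ : C → ℂ), Q ξ ξ' = Q ξ' ξ) ∧
      (∀ ξ, e ξ < N) ∧
      (∀ ξ, ∀ ξ' ∈ blockOf M (ψ₀ : C → ℂ), (Q ξ ξ' : ℂ) =
        (p : ℂ) ^ blockDefect p (blockOf M (ψ₀ : C → ℂ)) * regInner p ξ ξ') ∧
      (∀ (χ : IrrCharacter G) (γ : ℕ),
        secPart p C (blockOf M (ψ₀ : C → ℂ)) (x ^ γ) χ =
          regComb p (blockOf M (ψ₀ : C → ℂ)) (fun ξ => (n χ ξ : ℂ) * (ζ ^ γ) ^ e ξ)) ∧
      ∀ (χ ψ : IrrCharacter G) (γ : ℕ),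
        (p : ℂ) ^ blockDefect p (blockOf M (ψ₀ : C → ℂ)) *
            contrib p C (blockOf M (ψ₀ : C → ℂ)) (x ^ γ) χ ψ =
          ∑ ξ ∈ irrFinset (blockOf M (ψ₀ : C → ℂ)),
            ∑ ξ' ∈ irrFinset (blockOf M (ψ₀ : C → ℂ)),
              (n χ ξ : ℂ) * (n ψ ξ' : ℂ) * (Q ξ ξ' : ℂ) * (ζ ^ γ) ^ (e ξ + (N - e ξ')) := by
  classical
  have hxc : (⟨x, hxmem⟩ : C) ∈ Subgroup.center C := by
    rw [Subgroup.mem_center_iff]
    intro c
    apply Subtype.ext
    exact (hxC c c.2).symm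
  have hn : ∀ (χ : IrrCharacter G) (ξ : IrrCharacter C), ∃ n : ℕ,
      classInner (fun c : C => (χ : G → ℂ) c) (ξ : C → ℂ) = n := fun χ ξ =>
    classInner_isCharacter_nat (isCharacter_restrict C (Cfsg.Agent.H80.isCharacter_of_irr χ))
      (Cfsg.Agent.H80.isCharacter_of_irr ξ)
  choose n hn using hn
  haveI : NeZero N := ⟨hN.ne'⟩
  have he : ∀ ξ : IrrCharacter C, ∃ i < N,
      ζ ^ i = (ξ : C → ℂ) ⟨x, hxmem⟩ / (ξ : C → ℂ) 1 := by
    intro ξ
    apply hζ.eq_pow_of_pow_eq_one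
    have h1 := irr_central_pow ξ hxc N
    have hx1 : (⟨x, hxmem⟩ : C) ^ N = 1 := Subtype.ext (by simpa using hxN)
    rw [hx1] at h1
    have h0 := irr_one_ne_zero ξ
    exact mul_right_cancel₀ h0 (by rw [← h1, one_mul])
  choose e he1 he2 using he
  have hQ : ∀ ξ ξ' : IrrCharacter C, ∃ z : ℤ, ξ' ∈ blockOf M (ψ₀ : C → ℂ) →
      (z : ℂ) = (p : ℂ) ^ blockDefect p (blockOf M (ψ₀ : C → ℂ)) * regInner p ξ ξ' := by
    intro ξ ξ'
    by_cases h : ξ' ∈ blockOf M (ψ₀ : C → ℂ)
    · obtain ⟨z, hz⟩ := exists_int_regInner hM ψ₀ ξ ξ' h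
      exact ⟨z, fun _ => hz⟩
    · exact ⟨0, fun h' => absurd h' h⟩
  choose Q hQ using hQ
  have hcc : ∀ (χ' : IrrCharacter G) (ξ₁ : IrrCharacter C) (γ : ℕ),
      classInner (fun c : C => (χ' : G → ℂ) (x ^ γ * (c : G))) (ξ₁ : C → ℂ) =
        (n χ' ξ₁ : ℂ) * (ζ ^ γ) ^ e ξ₁ := by
    intro χ' ξ₁ γ
    have h := classInner_translate_central (fun c : C => (χ' : G → ℂ) c)
      (Subgroup.pow_mem _ hxc γ) ξ₁
    have h' : (fun c : C => (χ' : G → ℂ) (x ^ γ * (c : G))) =
        (fun c : C => (fun c : C => (χ' : G → ℂ) c) ((⟨x, hxmem⟩ : C) ^ γ * c)) := by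
      funext c
      simp
    have h0 := irr_one_ne_zero ξ₁
    have h5 : (ζ ^ γ) ^ e ξ₁ = (ζ ^ e ξ₁) ^ γ := by rw [← pow_mul, ← pow_mul, mul_comm]
    rw [h5, h', h, hn, irr_central_pow ξ₁ hxc γ, he2]
    field_simp
  refine ⟨n, e, Q, ?_, he1, fun ξ ξ' hξ' => hQ ξ ξ' hξ', ?_, ?_⟩
  · intro ξ hξ ξ' hξ'
    have h1 := hQ ξ ξ' hξ'
    have h2 := hQ ξ' ξ hξ
    apply Int.cast_injective (α := ℂ)
    rw [h2, ← regInner_conj, ← Complex.conj_natCast p, ← map_pow, ← map_mul, ← h1,
      map_intCast]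
  · intro χ γ
    unfold secPart regComb
    rw [pRegularPart_blockPart]
    apply Finset.sum_congr rfl
    intro ξ _
    rw [hcc]
  · intro χ ψ γ
    unfold contrib secPart
    rw [classInner_regPart, Finset.mul_sum]
    apply Finset.sum_congr rfl
    intro ξ hξ
    rw [Finset.mul_sum]
    apply Finset.sum_congr rfl
    intro ξ' hξ'
    rw [mem_irrFinset] at hξ hξ'
    rw [hcc χ ξ, hcc ψ ξ', hQ ξ ξ' hξ', map_mul, Complex.conj_natCast,
      conj_root_pow ζ N hN hζ γ (e ξ') (he1 ξ').le, pow_add]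
    ring

end Data2

section Parseval

variable {C : Type u} [Group C] [Fintype C] {p : ℕ} {M : Ideal AlgInt}

/-- Two families of functions with the same kernel have the same Parseval sums. -/
theorem sum_classInner_mul_conj_eq_kernel {ι : Type*} (S : Finset ι) (f : ι → C → ℂ)
    (g : C → ℂ) :
    ∑ i ∈ S, classInner (f i) g * conj (classInner (f i) g) =
      (Nat.card C : ℂ)⁻¹ * (Nat.card C : ℂ)⁻¹ *
        ∑ s : C, ∑ t : C, conj (g s) * g t * ∑ i ∈ S, f i s * conj (f i t) := by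
  have h1 : ∀ i ∈ S, classInner (f i) g * conj (classInner (f i) g) =
      (Nat.card C : ℂ)⁻¹ * (Nat.card C : ℂ)⁻¹ *
        ∑ s : C, ∑ t : C, conj (g s) * g t * (f i s * conj (f i t)) := by
    intro i _
    unfold classInner
    rw [map_mul, map_inv₀, Complex.conj_natCast, map_sum]
    simp only [map_mul, Complex.conj_conj]
    rw [mul_mul_mul_comm, Finset.sum_mul_sum]
    congr 1
    apply Finset.sum_congr rfl
    intro s _
    apply Finset.sum_congr rfl
    intro t _
    ring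
  rw [Finset.sum_congr rfl h1, ← Finset.mul_sum, Finset.sum_comm]
  congr 1
  apply Finset.sum_congr rfl
  intro s _
  rw [Finset.sum_comm]
  apply Finset.sum_congr rfl
  intro t _
  rw [Finset.mul_sum]

/-- The `p`-regular parts of the characters of a block reproduce their combinations. -/
theorem regComb_reproduce (hM : IsPModular p M) (ψ₀ : IrrCharacter C)
    (w : IrrCharacter C → ℂ) :
    ∑ ξ ∈ irrFinset (blockOf M (ψ₀ : C → ℂ)),
        classInner (regComb p (blockOf M (ψ₀ : C → ℂ)) w) (pRegularPart p (ξ : C → ℂ)) •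
          pRegularPart p (ξ : C → ℂ) = regComb p (blockOf M (ψ₀ : C → ℂ)) w := by
  funext s
  have h1 : ∀ ξ : IrrCharacter C,
      classInner (regComb p (blockOf M (ψ₀ : C → ℂ)) w) (pRegularPart p (ξ : C → ℂ)) =
        ∑ ξ₁ ∈ irrFinset (blockOf M (ψ₀ : C → ℂ)), w ξ₁ * regInner p ξ₁ ξ := by
    intro ξ
    unfold regComb
    rw [classInner_sum_left]
    apply Finset.sum_congr rfl
    intro ξ₁ _
    rw [classInner_smul_left, classInner_pReg_right]
    rfl
  rw [Finset.sum_apply]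
  simp only [Pi.smul_apply, smul_eq_mul, h1, Finset.sum_mul]
  rw [Finset.sum_comm]
  unfold regComb
  rw [Finset.sum_apply]
  apply Finset.sum_congr rfl
  intro ξ₁ hξ₁
  rw [mem_irrFinset] at hξ₁
  rw [Pi.smul_apply, smul_eq_mul, ← sum_regInner_mul_pReg hM ψ₀ ξ₁ hξ₁ s, Finset.mul_sum]
  apply Finset.sum_congr rfl
  intro ξ _
  ring

/-- Parseval's identity for the `p`-regular parts of the characters of a block. -/
theorem parseval_block (hM : IsPModular p M) (ψ₀ : IrrCharacter C) (w : IrrCharacter C → ℂ) :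
    ∑ ξ ∈ irrFinset (blockOf M (ψ₀ : C → ℂ)),
        classInner (pRegularPart p (ξ : C → ℂ)) (regComb p (blockOf M (ψ₀ : C → ℂ)) w) *
          conj (classInner (pRegularPart p (ξ : C → ℂ))
            (regComb p (blockOf M (ψ₀ : C → ℂ)) w)) =
      classInner (regComb p (blockOf M (ψ₀ : C → ℂ)) w)
        (regComb p (blockOf M (ψ₀ : C → ℂ)) w) := by
  conv_rhs => rw [← regComb_reproduce hM ψ₀ w, classInner_sum_left]
  apply Finset.sum_congr rfl
  intro ξ _
  rw [classInner_smul_left, classInner_conj_symm, regComb_reproduce hM ψ₀ w]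
  ring

omit [Fintype C] in
/-- Orthogonal decomposition along a vector `E` with `P ⟨E, E⟩ = 1`. -/
theorem pythagoras_classInner [Fintype C] (f E : C → ℂ) (P X : ℂ) (hP : conj P = P)
    (hP0 : P ≠ 0) (hX : P * classInner f E = X) (hE : P * classInner E E = 1) :
    P * classInner (f - X • E) (f - X • E) = P * classInner f f - X * conj X := by
  have h1 : classInner f E = X / P := by
    rw [← hX]
    field_simp
  have h2 : classInner E f = conj X / P := by
    rw [← classInner_conj_symm, h1, map_div₀, hP]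
  have h3 : classInner E E = 1 / P := by
    rw [← hE]
    field_simp
  rw [classInner_sub_left, classInner_sub_right, classInner_sub_right, classInner_smul_left,
    classInner_smul_left, classInner_smul_right, classInner_smul_right, h1, h2, h3]
  field_simp
  ring

/-- Inner products of combinations with integral combinations, in terms of the integral
matrix `Q = p^d ⟨ξ°, ξ'°⟩`. -/
theorem classInner_regComb_int (b : Set (IrrCharacter C)) (P : ℂ)
    (Q : IrrCharacter C → IrrCharacter C → ℤ)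
    (hQ : ∀ ξ, ∀ ξ' ∈ b, (Q ξ ξ' : ℂ) = P * regInner p ξ ξ')
    (w : IrrCharacter C → ℂ) (u : IrrCharacter C → ℤ) :
    P * classInner (regComb p b w) (regComb p b (fun ξ => (u ξ : ℂ))) =
      ∑ ξ ∈ irrFinset b, w ξ * ((∑ η ∈ irrFinset b, Q ξ η * u η : ℤ) : ℂ) := by
  rw [classInner_regComb, Finset.mul_sum]
  apply Finset.sum_congr rfl
  intro ξ _
  push_cast
  rw [Finset.mul_sum, Finset.mul_sum]
  apply Finset.sum_congr rfl
  intro ξ' hξ'
  rw [mem_irrFinset] at hξ'
  rw [hQ ξ ξ' hξ', map_intCast]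
  ring

end Parseval

section ParsevalSec

variable {G : Type u} [Group G] [Fintype G] {p : ℕ} [Fact p.Prime] {M : Ideal AlgInt}

/-- **Parseval's identity for the section parts**: for `g` a combination of the `p`-regular
parts of the characters of `b`, `∑_{χ ∈ B} |⟨χ^{(x,b)}, g⟩|² = ⟨g, g⟩`. -/
theorem parseval_secPart (hM : IsPModular p M) (x : G) (hx : ∃ k : ℕ, orderOf x = p ^ k)
    (C : Subgroup G) [Fintype C] (hxC : ∀ c ∈ C, x * c = c * x)
    (hCx : ∀ g : G, g * x = x * g → g ∈ C) (B : Set (IrrCharacter G)) (ψ₀ : IrrCharacter C)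
    (h0 : ∀ χ : IrrCharacter G, χ ∉ B → ∀ y : C, ¬ p ∣ orderOf y →
        blockPart (blockOf M (ψ₀ : C → ℂ)) (fun c : C => (χ : G → ℂ) (x * (c : G))) y = 0)
    (w : IrrCharacter C → ℂ) :
    ∑ χ ∈ irrFinset B,
        classInner (secPart p C (blockOf M (ψ₀ : C → ℂ)) x χ)
            (regComb p (blockOf M (ψ₀ : C → ℂ)) w) *
          conj (classInner (secPart p C (blockOf M (ψ₀ : C → ℂ)) x χ)
            (regComb p (blockOf M (ψ₀ : C → ℂ)) w)) =
      classInner (regComb p (blockOf M (ψ₀ : C → ℂ)) w)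
        (regComb p (blockOf M (ψ₀ : C → ℂ)) w) := by
  rw [sum_classInner_mul_conj_eq_kernel, ← parseval_block hM ψ₀ w,
    sum_classInner_mul_conj_eq_kernel]
  congr 1
  apply Finset.sum_congr rfl
  intro s _
  apply Finset.sum_congr rfl
  intro t _
  rw [sum_secPart_mul_conj hM x hx C hxC hCx B ψ₀ h0 s t]

end ParsevalSec

end Cfsg.Agent.H84
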