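/-
helper84 library: Brauer's `k(B)`-conjecture for blocks with a major subsection `(z, b)` such
that `l(b) ≤ 2`.

* `bl_eq_classInner`, `qf_nonneg_of`: the integral form `Q = p^d ⟨ξ°, ξ'°⟩` is positive
  semidefinite.
* `major_bound`: `k(B) ≤ p^d`.
-/
import Mathlib
import Cfsg.Prelude.Def_Blocks
import Cfsg.Prelude.Def_BlockRank
import Cfsg.Agent.H84.Major3
import Cfsg.Agent.H20.FiveH

set_option autoImplicit false
set_option linter.style.haveILetI false
set_option linter.unusedSectionVars false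
set_option linter.unusedVariables false

namespace Cfsg.Agent.H84

open Cfsg Cfsg.Agent.H4 Cfsg.Agent.H20
open scoped ComplexConjugate

universe u

section Psd

variable {C : Type u} [Group C] [Fintype C] {p : ℕ}

theorem bl_eq_classInner (b : Set (IrrCharacter C)) (P : ℂ)
    (Q : IrrCharacter C → IrrCharacter C → ℤ)
    (hQ : ∀ ξ, ∀ ξ' ∈ b, (Q ξ ξ' : ℂ) = P * regInner p ξ ξ') (v w : IrrCharacter C → ℤ) :
    ((bl (irrFinset b) Q v w : ℤ) : ℂ) =
      P * classInner (regComb p b (fun ξ => (v ξ : ℂ))) (regComb p b (fun ξ => (w ξ : ℂ))) := by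
  rw [classInner_regComb_int b P Q hQ, bl_eq_sum_mul]
  push_cast
  rfl

theorem qf_nonneg_of (b : Set (IrrCharacter C)) (d : ℕ)
    (Q : IrrCharacter C → IrrCharacter C → ℤ)
    (hQ : ∀ ξ, ∀ ξ' ∈ b, (Q ξ ξ' : ℂ) = (p : ℂ) ^ d * regInner p ξ ξ')
    (v : IrrCharacter C → ℤ) : 0 ≤ qf (irrFinset b) Q v := by
  have h1 := bl_eq_classInner b ((p : ℂ) ^ d) Q hQ v v
  rw [classInner_self_eq] at h1
  have h2 : ((qf (irrFinset b) Q v : ℤ) : ℝ) = (p : ℝ) ^ d * ((Nat.card C : ℝ)⁻¹ *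
      ∑ s : C, ‖regComb p b (fun ξ => (v ξ : ℂ)) s‖ ^ 2) := by
    apply Complex.ofReal_injective
    push_cast
    unfold qf
    rw [h1]
    push_cast
    rfl
  have h3 : (0 : ℝ) ≤ ((qf (irrFinset b) Q v : ℤ) : ℝ) := by
    rw [h2]
    positivity
  exact_mod_cast h3

end Psd

section MajorBound

variable {G : Type u} [Group G] [Fintype G] {p : ℕ} [Fact p.Prime] {M : Ideal AlgInt}

set_option maxHeartbeats 4000000 in
/-- **Brauer's `k(B)`-conjecture for a major subsection with `l(b) ≤ 2`**: if `b` is a block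
of `C = C_G(x)` (`x` a `p`-element) inducing `B`, with the same defect `d` as `B` and
`l(b) ≤ 2`, then `k(B) ≤ p^d`. -/
theorem major_bound (hM : IsPModular p M) (h2 : SecondMain p M G) (x : G)
    (hx : ∃ k : ℕ, orderOf x = p ^ k) (C : Subgroup G) [Fintype C]
    (hxC : ∀ c ∈ C, x * c = c * x) (hCx : ∀ g : G, g * x = x * g → g ∈ C)
    (ψ₀ : IrrCharacter C) (B : Set (IrrCharacter G))
    (hind : IsInducedBlock M C (blockOf M (ψ₀ : C → ℂ)) B)
    (hdef : blockDefect p (blockOf M (ψ₀ : C → ℂ)) = blockDefect p B)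
    (hl : blockRank p (blockOf M (ψ₀ : C → ℂ)) ≤ 2) :
    Nat.card B ≤ p ^ blockDefect p B := by
  classical
  have hp : p.Prime := hM.1
  have hMp := isPrime_of_isPModular hM
  have hp0 : (p : ℂ) ≠ 0 := by exact_mod_cast hp.ne_zero
  have hpR : (0 : ℝ) < (p : ℝ) := by exact_mod_cast hp.pos
  have hB : IsPBlock M B := hind.2.1
  obtain ⟨k, hk⟩ := hx
  have hN : 0 < p ^ k := pow_pos hp.pos k
  have hxN : x ^ p ^ k = 1 := by rw [← hk]; exact pow_orderOf_eq_one x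
  have hxmem : x ∈ C := hCx x rfl
  obtain ⟨ζ, hζ⟩ : ∃ ζ : ℂ, IsPrimitiveRoot ζ (p ^ k) :=
    ⟨_, Complex.isPrimitiveRoot_exp _ hN.ne'⟩
  obtain ⟨n, e, Q, hQsym, he, hQ, hsP, hdata⟩ :=
    exists_contrib_data2 hM x (p ^ k) hN hxN C hxmem hxC ψ₀ ζ hζ
  -- consequences of (5H)
  have h5a : ∀ χ ∈ B, ∀ θ ∈ B, blockHeight p B (θ : G → ℂ) = 0 →
      contrib p C (blockOf M (ψ₀ : C → ℂ)) x χ θ ≠ 0 := by
    intro χ hχ θ hθ h0θ hcon
    obtain ⟨ρ, hρ1, hρ2, hρ3, -⟩ := five_h hM x ⟨k, hk⟩ C hxC hCx ψ₀ B hind hdef θ χ hθ hχ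
    have h1 : contrib p C (blockOf M (ψ₀ : C → ℂ)) x θ χ = 0 := by
      rw [← contrib_conj, hcon, map_zero]
    rw [h1, mul_zero] at hρ2
    have h3 : ρ = 0 := by
      rcases mul_eq_zero.mp hρ2.symm with h | h
      · exact absurd h (pow_ne_zero _ hp0)
      · exact h
    apply hρ3 h0θ
    rw [h3]
    exact memLocalIdeal_zero hMp
  have h5b : ∀ ψ ∈ B, ∀ θ ∈ B, blockHeight p B (ψ : G → ℂ) ≠ 0 →
      blockHeight p B (θ : G → ℂ) = 0 →
      MemLocalIdeal M ((p : ℂ) ^ blockDefect p (blockOf M (ψ₀ : C → ℂ)) *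
        contrib p C (blockOf M (ψ₀ : C → ℂ)) x ψ θ) := by
    intro ψ hψ θ hθ hψh hθh
    obtain ⟨ρ, hρ1, hρ2, -, hρ4⟩ := five_h hM x ⟨k, hk⟩ C hxC hCx ψ₀ B hind hdef ψ θ hψ hθ
    rw [hdef, hρ2, hθh, pow_zero, one_mul]
    exact hρ4 hψh
  have hP3 : ∀ χ ∈ B, ∀ ψ ∈ B, blockHeight p B (χ : G → ℂ) = 0 →
      blockHeight p B (ψ : G → ℂ) = 0 →
      ¬ MemLocalIdeal M ((p : ℂ) ^ blockDefect p (blockOf M (ψ₀ : C → ℂ)) *
        contrib p C (blockOf M (ψ₀ : C → ℂ)) x χ ψ) := fun χ hχ ψ hψ h0χ h0ψ =>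
    not_memLocalIdeal_contrib hM x hxN C hxmem hxC ψ₀ B hind χ ψ hχ hψ h0χ h0ψ
  obtain ⟨θ₀, hθ₀B, hθ₀h⟩ : ∃ θ ∈ B, blockHeight p B (θ : G → ℂ) = 0 := by
    obtain ⟨χ₁, hχ₁⟩ := hB
    exact exists_blockHeight_zero B ⟨χ₁, by rw [hχ₁]; exact Cfsg.Agent.H80.mem_blockOf_self hMp χ₁⟩
  have hQ0 := hQ
  obtain ⟨d, hd⟩ : ∃ d : ℕ, d = blockDefect p (blockOf M (ψ₀ : C → ℂ)) := ⟨_, rfl⟩
  rw [← hdef, ← hd]
  rw [← hd] at hdata hQ h5b hP3
  obtain ⟨bf, hbf⟩ : ∃ bf : Finset (IrrCharacter C), bf = irrFinset (blockOf M (ψ₀ : C → ℂ)) :=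
    ⟨_, rfl⟩
  rw [← hbf] at hdata
  have hmemb : ∀ ξ ∈ bf, ξ ∈ blockOf M (ψ₀ : C → ℂ) := by
    intro ξ hξ
    rw [hbf] at hξ
    exact mem_irrFinset.mp hξ
  have hQsym' : ∀ ξ ∈ bf, ∀ ξ' ∈ bf, Q ξ ξ' = Q ξ' ξ := fun ξ hξ ξ' hξ' =>
    hQsym ξ (hmemb ξ hξ) ξ' (hmemb ξ' hξ')
  have hQnn : ∀ v : IrrCharacter C → ℤ, 0 ≤ qf bf Q v := by
    intro v
    rw [hbf]
    exact qf_nonneg_of (blockOf M (ψ₀ : C → ℂ)) d Q hQ v
  obtain ⟨I, hI⟩ : ∃ I : Finset ℕ,
      I = (Finset.range (p ^ k)).filter (fun i => i.Coprime (p ^ k)) := ⟨_, rfl⟩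
  obtain ⟨γ₁, hγ₁I, hγ₁x⟩ : ∃ γ₁ ∈ I, x ^ γ₁ = x := by
    by_cases h1 : p ^ k = 1
    · refine ⟨0, ?_, ?_⟩
      · rw [hI, Finset.mem_filter, Finset.mem_range, h1]
        exact ⟨Nat.one_pos, Nat.coprime_one_right 0⟩
      · rw [pow_zero]
        rw [h1, pow_one] at hxN
        exact hxN.symm
    · refine ⟨1, ?_, pow_one x⟩
      rw [hI, Finset.mem_filter, Finset.mem_range]
      exact ⟨by omega, Nat.coprime_one_left _⟩
  have hIpos : 0 < I.card := Finset.card_pos.mpr ⟨γ₁, hγ₁I⟩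
  have hIZ : (0 : ℤ) < (I.card : ℤ) := by exact_mod_cast hIpos
  have hcard : (irrFinset B).card = Nat.card B := card_irrFinset B
  rw [← hcard]
  obtain ⟨l, hl'⟩ : ∃ l : ℕ, l = blockRank p (blockOf M (ψ₀ : C → ℂ)) := ⟨_, rfl⟩
  rw [← hl'] at hl
  have hlZ : (l : ℤ) ≤ 2 := by exact_mod_cast hl
  -- the subsections (x^γ, b)
  have hsub : ∀ γ ∈ I,
      (∀ χ : IrrCharacter G, ((∑ ψ ∈ irrFinset B,
          ‖contrib p C (blockOf M (ψ₀ : C → ℂ)) (x ^ γ) χ ψ‖ ^ 2 : ℝ) : ℂ) =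
        contrib p C (blockOf M (ψ₀ : C → ℂ)) (x ^ γ) χ χ) ∧
      (∑ χ ∈ irrFinset B, contrib p C (blockOf M (ψ₀ : C → ℂ)) (x ^ γ) χ χ = (l : ℂ)) ∧
      (∀ w : IrrCharacter C → ℂ, ∑ χ ∈ irrFinset B,
        classInner (secPart p C (blockOf M (ψ₀ : C → ℂ)) (x ^ γ) χ)
            (regComb p (blockOf M (ψ₀ : C → ℂ)) w) *
          conj (classInner (secPart p C (blockOf M (ψ₀ : C → ℂ)) (x ^ γ) χ)
            (regComb p (blockOf M (ψ₀ : C → ℂ)) w)) =
        classInner (regComb p (blockOf M (ψ₀ : C → ℂ)) w)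
          (regComb p (blockOf M (ψ₀ : C → ℂ)) w)) := by
    intro γ hγ
    rw [hI, Finset.mem_filter] at hγ
    have hγ' : γ.Coprime (orderOf x) := by rw [hk]; exact hγ.2
    obtain ⟨hxγ, hxCγ, hCxγ⟩ := subsection_pow x ⟨k, hk⟩ C hxC hCx γ hγ'
    have hCγ : C = Subgroup.centralizer ({x ^ γ} : Set G) := by
      ext g
      rw [Subgroup.mem_centralizer_singleton_iff]
      exact ⟨fun hg => (hxCγ g hg).symm, fun hg => hCxγ g hg⟩
    have h0 : ∀ χ : IrrCharacter G, χ ∉ B → ∀ y : C, ¬ p ∣ orderOf y →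
        blockPart (blockOf M (ψ₀ : C → ℂ)) (fun c : C => (χ : G → ℂ) (x ^ γ * (c : G))) y = 0 :=
      fun χ hχ y hy =>
        (secondMain_both' hM h2 (x ^ γ) hxγ C hCγ B hB χ _ ⟨ψ₀, rfl⟩).2 hχ hind y hy
    refine ⟨fun χ => sum_norm_sq_contrib hM (x ^ γ) hxγ C hxCγ hCxγ B ψ₀ h0 χ, ?_,
      fun w => parseval_secPart hM (x ^ γ) hxγ C hxCγ hCxγ B ψ₀ h0 w⟩
    rw [hl']
    exact sum_contrib_self hM (x ^ γ) hxγ C hxCγ hCxγ B ψ₀ h0
  obtain ⟨cR, hcR⟩ : ∃ cR : ℕ → IrrCharacter G → ℝ, ∀ γ χ, cR γ χ = ∑ ψ ∈ irrFinset B,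
      ‖contrib p C (blockOf M (ψ₀ : C → ℂ)) (x ^ γ) χ ψ‖ ^ 2 := ⟨_, fun _ _ => rfl⟩
  have hcR0 : ∀ γ χ, 0 ≤ cR γ χ := by
    intro γ χ
    rw [hcR]
    exact Finset.sum_nonneg (fun _ _ => by positivity)
  have hcRC : ∀ γ ∈ I, ∀ χ : IrrCharacter G,
      ((cR γ χ : ℝ) : ℂ) = contrib p C (blockOf M (ψ₀ : C → ℂ)) (x ^ γ) χ χ := by
    intro γ hγ χ
    rw [hcR]
    exact (hsub γ hγ).1 χ
  -- Gram sums
  obtain ⟨GS, hGS⟩ : ∃ GS : (IrrCharacter C → IrrCharacter C → ℤ) → ℕ → IrrCharacter G →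
      IrrCharacter G → ℂ, ∀ A γ χ ψ, GS A γ χ ψ = ∑ ξ ∈ bf, ∑ ξ' ∈ bf,
        (n χ ξ : ℂ) * (n ψ ξ' : ℂ) * (A ξ ξ' : ℂ) * (ζ ^ γ) ^ (e ξ + (p ^ k - e ξ')) :=
    ⟨_, fun _ _ _ _ => rfl⟩
  have hGSQ : ∀ γ χ ψ, GS Q γ χ ψ =
      (p : ℂ) ^ d * contrib p C (blockOf M (ψ₀ : C → ℂ)) (x ^ γ) χ ψ := by
    intro γ χ ψ
    rw [hGS, hdata]
  have hGSQR : ∀ γ ∈ I, ∀ χ, GS Q γ χ χ = (((p : ℝ) ^ d * cR γ χ : ℝ) : ℂ) := by
    intro γ hγ χ
    rw [hGSQ, ← hcRC γ hγ χ]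
    push_cast
    rfl
  have hgram : ∀ (A : IrrCharacter C → IrrCharacter C → ℤ) (α : ℤ), 0 ≤ α →
      (∀ v : IrrCharacter C → ℤ, qf bf A v = 0 ∨ α ≤ qf bf A v) → ∀ χ : IrrCharacter G,
      ∃ T : ℤ, (∑ γ ∈ I, GS A γ χ χ = (T : ℂ)) ∧ (T = 0 ∨ α * (I.card : ℤ) ≤ T) := by
    intro A α hα hA χ
    obtain ⟨T, hT1, hT2⟩ :=
      gram_bound p k hp ζ hζ bf e he (fun ξ => (n χ ξ : ℤ)) A α hα hA
    refine ⟨T, ?_, ?_⟩
    · rw [← hT1, hI]
      apply Finset.sum_congr rfl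
      intro γ _
      rw [hGS]
      apply Finset.sum_congr rfl
      intro ξ _
      apply Finset.sum_congr rfl
      intro ξ' _
      push_cast
      rfl
    · rw [hI]
      exact hT2
  have hTR : ∀ (χ : IrrCharacter G) (T : ℤ), ∑ γ ∈ I, GS Q γ χ χ = (T : ℂ) →
      (T : ℝ) = ∑ γ ∈ I, (p : ℝ) ^ d * cR γ χ := by
    intro χ T hT
    apply Complex.ofReal_injective
    push_cast
    rw [← hT]
    apply Finset.sum_congr rfl
    intro γ hγ
    rw [hGSQR γ hγ χ]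
    push_cast
    rfl
  have hsumT : ∀ T : IrrCharacter G → ℤ,
      (∀ χ ∈ irrFinset B, ∑ γ ∈ I, GS Q γ χ χ = (T χ : ℂ)) →
      ∑ χ ∈ irrFinset B, T χ = (I.card : ℤ) * ((p ^ d : ℕ) : ℤ) * (l : ℤ) := by
    intro T hT
    apply Int.cast_injective (α := ℂ)
    push_cast
    rw [← Finset.sum_congr rfl hT, Finset.sum_comm]
    have h1 : ∀ γ ∈ I, ∑ χ ∈ irrFinset B, GS Q γ χ χ = (p : ℂ) ^ d * (l : ℂ) := by
      intro γ hγ
      simp only [hGSQ]
      rw [← Finset.mul_sum, (hsub γ hγ).2.1]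
    rw [Finset.sum_congr rfl h1, Finset.sum_const, nsmul_eq_mul]
    ring
  have hposT : ∀ χ ∈ B, ∀ T : ℤ, ∑ γ ∈ I, GS Q γ χ χ = (T : ℂ) → 0 < T := by
    intro χ hχ T hT
    have h1 := hTR χ T hT
    have h3 : 0 < cR γ₁ χ := by
      rw [hcR]
      have h4 : contrib p C (blockOf M (ψ₀ : C → ℂ)) (x ^ γ₁) χ θ₀ ≠ 0 := by
        rw [hγ₁x]
        exact h5a χ hχ θ₀ hθ₀B hθ₀h
      have h5 : 0 < ‖contrib p C (blockOf M (ψ₀ : C → ℂ)) (x ^ γ₁) χ θ₀‖ ^ 2 := by positivity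
      exact lt_of_lt_of_le h5 (Finset.single_le_sum
        (f := fun ψ => ‖contrib p C (blockOf M (ψ₀ : C → ℂ)) (x ^ γ₁) χ ψ‖ ^ 2)
        (fun ψ _ => by positivity) (mem_irrFinset.mpr hθ₀B))
    have h6 : (0 : ℝ) < (T : ℝ) := by
      rw [h1]
      have h7 : (p : ℝ) ^ d * cR γ₁ χ ≤ ∑ γ ∈ I, (p : ℝ) ^ d * cR γ χ :=
        Finset.single_le_sum (f := fun γ => (p : ℝ) ^ d * cR γ χ)
          (fun γ _ => mul_nonneg (pow_pos hpR d).le (hcR0 γ χ)) hγ₁I
      have h8 : 0 < (p : ℝ) ^ d * cR γ₁ χ := mul_pos (pow_pos hpR d) h3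
      linarith
    exact_mod_cast h6
  by_cases hcase : ∀ v : IrrCharacter C → ℤ, qf bf Q v = 0 ∨ 2 ≤ qf bf Q v
  · -- the form does not represent 1
    have hT := fun χ => hgram Q 2 (by norm_num) hcase χ
    choose T hT1 hT2 using hT
    have h1 := hsumT T (fun χ _ => hT1 χ)
    have h3 : ∀ χ ∈ irrFinset B, 2 * (I.card : ℤ) ≤ T χ := by
      intro χ hχ
      have := hposT χ (mem_irrFinset.mp hχ) (T χ) (hT1 χ)
      rcases hT2 χ with h | h
      · omega
      · exact h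
    have h4 := Finset.card_nsmul_le_sum (irrFinset B) T (2 * (I.card : ℤ)) h3
    rw [nsmul_eq_mul, h1] at h4
    have h5 : ((irrFinset B).card : ℤ) * (2 * (I.card : ℤ)) ≤
        ((p ^ d : ℕ) : ℤ) * (2 * (I.card : ℤ)) := by
      calc ((irrFinset B).card : ℤ) * (2 * (I.card : ℤ))
          ≤ (I.card : ℤ) * ((p ^ d : ℕ) : ℤ) * (l : ℤ) := h4
        _ ≤ (I.card : ℤ) * ((p ^ d : ℕ) : ℤ) * 2 :=
            mul_le_mul_of_nonneg_left hlZ (by positivity)
        _ = _ := by ring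
    have h6 := le_of_mul_le_mul_right h5 (by positivity : (0 : ℤ) < 2 * (I.card : ℤ))
    exact_mod_cast h6
  · -- the form represents 1
    push Not at hcase
    obtain ⟨u, hu0, hu2⟩ := hcase
    have hu : qf bf Q u = 1 := by
      have := hQnn u
      omega
    -- rank one modulo p
    obtain ⟨s, r, hsr⟩ := exists_rank_one_mod hM ψ₀ Q hQ0
    obtain ⟨L, hL⟩ : ∃ L : IrrCharacter C → ℤ, ∀ ξ, L ξ = ∑ η ∈ bf, Q ξ η * u η :=
      ⟨_, fun _ => rfl⟩
    have hdvdA : ∀ ξ ∈ bf, ∀ ξ' ∈ bf, (p : ℤ) ∣ Q ξ ξ' - L ξ * L ξ' := by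
      intro ξ hξ ξ' hξ'
      rw [hL, hL]
      exact rank_one_dvd (p : ℤ) bf Q s r
        (fun η hη η' hη' => hsr η (hmemb η hη) η' (hmemb η' hη')) u hu ξ hξ ξ' hξ'
    obtain ⟨LL, hLL⟩ : ∃ LL : IrrCharacter C → IrrCharacter C → ℤ,
        ∀ ξ ξ', LL ξ ξ' = L ξ * L ξ' := ⟨_, fun _ _ => rfl⟩
    obtain ⟨A', hA'⟩ : ∃ A' : IrrCharacter C → IrrCharacter C → ℤ,
        ∀ ξ ξ', A' ξ ξ' = Q ξ ξ' - L ξ * L ξ' := ⟨_, fun _ _ => rfl⟩
    have hLLdich : ∀ v : IrrCharacter C → ℤ, qf bf LL v = 0 ∨ 1 ≤ qf bf LL v := by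
      intro v
      have h1 : qf bf LL v = (∑ ξ ∈ bf, v ξ * L ξ) ^ 2 := by
        unfold qf bl
        rw [sq, Finset.sum_mul_sum]
        apply Finset.sum_congr rfl
        intro ξ _
        apply Finset.sum_congr rfl
        intro ξ' _
        rw [hLL]
        ring
      rw [h1]
      by_cases h0 : ∑ ξ ∈ bf, v ξ * L ξ = 0
      · left
        rw [h0]
        ring
      · right
        have : 0 < (∑ ξ ∈ bf, v ξ * L ξ) ^ 2 := by positivity
        omega
    have hA'dich : ∀ v : IrrCharacter C → ℤ, qf bf A' v = 0 ∨ (p : ℤ) ≤ qf bf A' v := by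
      have hfun : A' = fun ξ ξ' =>
          Q ξ ξ' - (∑ η ∈ bf, Q ξ η * u η) * (∑ η ∈ bf, Q ξ' η * u η) := by
        funext ξ ξ'
        rw [hA', hL, hL]
      rw [hfun]
      exact qf_sub_rank_one bf Q hQsym' hQnn u hu (p : ℤ) (fun ξ hξ ξ' hξ' => by
        have := hdvdA ξ hξ ξ' hξ'
        rw [hL, hL] at this
        exact this)
    have hT := fun χ => hgram Q 0 le_rfl (fun v => Or.inr (hQnn v)) χ
    choose T hT1 hT2 using hT
    have hT' := fun χ => hgram LL 1 zero_le_one hLLdich χ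
    choose T' hT'1 hT'2 using hT'
    have hT'' := fun χ => hgram A' (p : ℤ) (Int.natCast_nonneg p) hA'dich χ
    choose T'' hT''1 hT''2 using hT''
    have hGSsub : ∀ γ χ ψ, GS A' γ χ ψ = GS Q γ χ ψ - GS LL γ χ ψ := by
      intro γ χ ψ
      rw [hGS, hGS, hGS, ← Finset.sum_sub_distrib]
      apply Finset.sum_congr rfl
      intro ξ _
      rw [← Finset.sum_sub_distrib]
      apply Finset.sum_congr rfl
      intro ξ' _
      rw [hA', hLL]
      push_cast
      ring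
    have hTrel : ∀ χ, T'' χ = T χ - T' χ := by
      intro χ
      apply Int.cast_injective (α := ℂ)
      push_cast
      rw [← hT''1, ← hT1, ← hT'1, ← Finset.sum_sub_distrib]
      exact Finset.sum_congr rfl (fun γ _ => hGSsub γ χ χ)
    -- the vector of norm p^(-d) and the coordinates along it
    obtain ⟨E, hE⟩ : ∃ E : C → ℂ,
        E = regComb p (blockOf M (ψ₀ : C → ℂ)) (fun ξ => (u ξ : ℂ)) := ⟨_, rfl⟩
    have hEE : (p : ℂ) ^ d * classInner E E = 1 := by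
      rw [hE, ← bl_eq_classInner (blockOf M (ψ₀ : C → ℂ)) ((p : ℂ) ^ d) Q hQ u u, ← hbf]
      have h1 : bl bf Q u u = 1 := hu
      rw [h1]
      simp
    obtain ⟨X, hX⟩ : ∃ X : ℕ → IrrCharacter G → ℂ, ∀ γ χ, X γ χ = (p : ℂ) ^ d *
        classInner (secPart p C (blockOf M (ψ₀ : C → ℂ)) (x ^ γ) χ) E := ⟨_, fun _ _ => rfl⟩
    have hXc : ∀ γ χ, X γ χ = ∑ ξ ∈ bf, (n χ ξ : ℂ) * (L ξ : ℂ) * (ζ ^ γ) ^ e ξ := by
      intro γ χ
      rw [hX, hsP, hE,
        classInner_regComb_int (blockOf M (ψ₀ : C → ℂ)) ((p : ℂ) ^ d) Q hQ _ u, ← hbf]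
      apply Finset.sum_congr rfl
      intro ξ _
      rw [hL]
      ring
    obtain ⟨Y, hY⟩ : ∃ Y : ℕ → IrrCharacter G → ℂ, ∀ γ χ, Y γ χ =
        ∑ ξ ∈ bf, (n χ ξ : ℂ) * (L ξ : ℂ) * (ζ ^ γ) ^ (p ^ k - e ξ) := ⟨_, fun _ _ => rfl⟩
    have hXY : ∀ γ χ, conj (X γ χ) = Y γ χ := by
      intro γ χ
      rw [hXc, hY, map_sum]
      apply Finset.sum_congr rfl
      intro ξ _
      rw [map_mul, map_mul, Complex.conj_natCast, map_intCast,
        conj_root_pow ζ (p ^ k) hN hζ γ (e ξ) (he ξ).le]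
    have hGSLL : ∀ γ χ ψ, GS LL γ χ ψ = X γ χ * Y γ ψ := by
      intro γ χ ψ
      rw [hGS, hXc, hY, Finset.sum_mul_sum]
      apply Finset.sum_congr rfl
      intro ξ _
      apply Finset.sum_congr rfl
      intro ξ' _
      rw [hLL, pow_add]
      push_cast
      ring
    have hGSLLR : ∀ γ χ, GS LL γ χ χ = ((‖X γ χ‖ ^ 2 : ℝ) : ℂ) := by
      intro γ χ
      rw [hGSLL, ← hXY, Complex.mul_conj']
      push_cast
      rfl
    have hT'R : ∀ χ, ((T' χ : ℤ) : ℝ) = ∑ γ ∈ I, ‖X γ χ‖ ^ 2 := by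
      intro χ
      apply Complex.ofReal_injective
      push_cast
      rw [← hT'1]
      apply Finset.sum_congr rfl
      intro γ _
      rw [hGSLLR]
      push_cast
      rfl
    have hpar : ∀ γ ∈ I, ∑ χ ∈ irrFinset B, ‖X γ χ‖ ^ 2 = (p : ℝ) ^ d := by
      intro γ hγ
      have h1 := (hsub γ hγ).2.2 (fun ξ => (u ξ : ℂ))
      rw [← hE] at h1
      have h2 : ∀ χ : IrrCharacter G, ((‖X γ χ‖ : ℝ) : ℂ) ^ 2 = (p : ℂ) ^ d * ((p : ℂ) ^ d *
          (classInner (secPart p C (blockOf M (ψ₀ : C → ℂ)) (x ^ γ) χ) E *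
            conj (classInner (secPart p C (blockOf M (ψ₀ : C → ℂ)) (x ^ γ) χ) E))) := by
        intro χ
        rw [← Complex.mul_conj', hX, map_mul, map_pow, Complex.conj_natCast]
        ring
      apply Complex.ofReal_injective
      push_cast
      rw [Finset.sum_congr rfl (fun χ _ => h2 χ), ← Finset.mul_sum, ← Finset.mul_sum, h1, hEE,
        mul_one]
    have hsumT' : ∑ χ ∈ irrFinset B, T' χ = (I.card : ℤ) * ((p ^ d : ℕ) : ℤ) := by
      have h1 : ∑ χ ∈ irrFinset B, ((T' χ : ℤ) : ℝ) = (I.card : ℝ) * (p : ℝ) ^ d := by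
        rw [Finset.sum_congr rfl (fun χ _ => hT'R χ), Finset.sum_comm,
          Finset.sum_congr rfl hpar, Finset.sum_const, nsmul_eq_mul]
      exact_mod_cast h1
    have hpyth : ∀ γ ∈ I, ∀ χ : IrrCharacter G, ∃ ε : ℝ, 0 ≤ ε ∧
        (p : ℝ) ^ d * cR γ χ - ‖X γ χ‖ ^ 2 = ε ∧
        (ε = 0 → secPart p C (blockOf M (ψ₀ : C → ℂ)) (x ^ γ) χ = X γ χ • E) := by
      intro γ hγ χ
      obtain ⟨f, hf⟩ : ∃ f : C → ℂ,
          f = secPart p C (blockOf M (ψ₀ : C → ℂ)) (x ^ γ) χ - X γ χ • E := ⟨_, rfl⟩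
      have h1 := pythagoras_classInner (secPart p C (blockOf M (ψ₀ : C → ℂ)) (x ^ γ) χ) E
        ((p : ℂ) ^ d) (X γ χ) (by rw [map_pow, Complex.conj_natCast]) (pow_ne_zero _ hp0)
        (hX γ χ).symm hEE
      rw [← hf, classInner_self_eq] at h1
      have h2 : classInner (secPart p C (blockOf M (ψ₀ : C → ℂ)) (x ^ γ) χ)
          (secPart p C (blockOf M (ψ₀ : C → ℂ)) (x ^ γ) χ) = ((cR γ χ : ℝ) : ℂ) := by
        rw [hcRC γ hγ χ]
        rfl
      rw [h2, Complex.mul_conj'] at h1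
      refine ⟨(p : ℝ) ^ d * ((Nat.card C : ℝ)⁻¹ * ∑ s : C, ‖f s‖ ^ 2), by positivity, ?_, ?_⟩
      · apply Complex.ofReal_injective
        push_cast
        push_cast at h1
        rw [h1]
      · intro h0
        have h3 : (Nat.card C : ℝ)⁻¹ * ∑ s : C, ‖f s‖ ^ 2 = 0 := by
          rcases mul_eq_zero.mp h0 with h | h
          · exact absurd h (pow_pos hpR d).ne'
          · exact h
        have h4 : classInner f f = 0 := by
          rw [classInner_self_eq, h3]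
          simp
        have h5 := eq_zero_of_classInner_self f h4
        rw [hf] at h5
        exact sub_eq_zero.mp h5
    have hT''R : ∀ χ, ((T'' χ : ℤ) : ℝ) = ∑ γ ∈ I, ((p : ℝ) ^ d * cR γ χ - ‖X γ χ‖ ^ 2) := by
      intro χ
      rw [hTrel, Finset.sum_sub_distrib, ← hTR χ (T χ) (hT1 χ), ← hT'R χ]
      push_cast
      rfl
    have hT'nn : ∀ χ, 0 ≤ T' χ := by
      intro χ
      rcases hT'2 χ with h | h
      · rw [h]
      · linarith
    have hT''nn : ∀ χ, 0 ≤ T'' χ := by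
      intro χ
      rcases hT''2 χ with h | h
      · rw [h]
      · have : (0 : ℤ) ≤ (p : ℤ) * (I.card : ℤ) := by positivity
        linarith
    have hp1 : (0 : ℤ) ≤ (p : ℤ) - 1 := by
      have : (1 : ℤ) ≤ (p : ℤ) := by exact_mod_cast hp.one_le
      linarith
    by_cases hall : ∀ χ ∈ irrFinset B, T' χ ≠ 0
    · have h3 : ∀ χ ∈ irrFinset B, (I.card : ℤ) ≤ T' χ := by
        intro χ hχ
        rcases hT'2 χ with h | h
        · exact absurd h (hall χ hχ)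
        · linarith
      have h4 := Finset.card_nsmul_le_sum (irrFinset B) T' (I.card : ℤ) h3
      rw [nsmul_eq_mul, hsumT'] at h4
      have h5 : ((irrFinset B).card : ℤ) * (I.card : ℤ) ≤ ((p ^ d : ℕ) : ℤ) * (I.card : ℤ) := by
        linarith
      have h6 := le_of_mul_le_mul_right h5 hIZ
      exact_mod_cast h6
    · push Not at hall
      obtain ⟨χ₁, hχ₁, hχ₁T⟩ := hall
      have hX1 : X γ₁ χ₁ = 0 := by
        have h1 := hT'R χ₁
        rw [hχ₁T] at h1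
        have h2 : ∑ γ ∈ I, ‖X γ χ₁‖ ^ 2 = 0 := by
          rw [← h1]
          simp
        have h3 := (Finset.sum_eq_zero_iff_of_nonneg (fun γ _ => by positivity)).mp h2 γ₁ hγ₁I
        simpa using h3
      have hζR : MemLocalRing M ζ := memLocalRing_algInt hMp ⟨ζ, hζ.isIntegral hN⟩
      have hXR : ∀ γ χ, MemLocalRing M (X γ χ) := by
        intro γ χ
        rw [hXc]
        apply memLocalRing_sum hMp
        intro ξ _
        exact memLocalRing_mul hMp (memLocalRing_mul hMp (memLocalRing_natCast hMp _)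
          (memLocalRing_intCast hMp _)) (memLocalRing_pow hMp (memLocalRing_pow hMp hζR γ) _)
      have hYR : ∀ γ χ, MemLocalRing M (Y γ χ) := by
        intro γ χ
        rw [hY]
        apply memLocalRing_sum hMp
        intro ξ _
        exact memLocalRing_mul hMp (memLocalRing_mul hMp (memLocalRing_natCast hMp _)
          (memLocalRing_intCast hMp _)) (memLocalRing_pow hMp (memLocalRing_pow hMp hζR γ) _)
      have hA'J : ∀ γ χ ψ, MemLocalIdeal M (GS A' γ χ ψ) := by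
        intro γ χ ψ
        rw [hGS]
        apply memLocalIdeal_sum hMp
        intro ξ hξ
        apply memLocalIdeal_sum hMp
        intro ξ' hξ'
        have h1 : MemLocalIdeal M ((A' ξ ξ' : ℤ) : ℂ) := by
          rw [memLocalIdeal_intCast_iff hM, hA']
          exact hdvdA ξ hξ ξ' hξ'
        exact memLocalIdeal_mul_right hMp (memLocalIdeal_mul_left hMp
          (memLocalRing_mul hMp (memLocalRing_natCast hMp _) (memLocalRing_natCast hMp _)) h1)
          (memLocalRing_pow hMp (memLocalRing_pow hMp hζR γ) _)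
      have hdec : ∀ χ ψ, (p : ℂ) ^ d * contrib p C (blockOf M (ψ₀ : C → ℂ)) x χ ψ =
          GS A' γ₁ χ ψ + X γ₁ χ * Y γ₁ ψ := by
        intro χ ψ
        rw [hGSsub, ← hGSLL, hGSQ, hγ₁x]
        ring
      have hchar : ∀ ψ ∈ irrFinset B,
          (p : ℤ) * (I.card : ℤ) ≤ ((p : ℤ) - 1) * T' ψ + T'' ψ := by
        intro ψ hψ
        have hψB := mem_irrFinset.mp hψ
        have hmn := mul_nonneg hp1 (hT'nn ψ)
        by_cases hh : blockHeight p B (ψ : G → ℂ) = 0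
        · have hne : T'' ψ ≠ 0 := by
            intro h0
            have h1 := hT''R ψ
            rw [h0] at h1
            have h2 : ∑ γ ∈ I, ((p : ℝ) ^ d * cR γ ψ - ‖X γ ψ‖ ^ 2) = 0 := by
              rw [← h1]
              simp
            obtain ⟨ε, hε0, hε1, hε2⟩ := hpyth γ₁ hγ₁I ψ
            have h3 := (Finset.sum_eq_zero_iff_of_nonneg (fun γ hγ => by
              obtain ⟨ε', hε'0, hε'1, -⟩ := hpyth γ hγ ψ
              rw [hε'1]
              exact hε'0)).mp h2 γ₁ hγ₁I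
            rw [hε1] at h3
            have h4 := hε2 h3
            apply h5a χ₁ (mem_irrFinset.mp hχ₁) ψ hψB hh
            have h6 : classInner (secPart p C (blockOf M (ψ₀ : C → ℂ)) (x ^ γ₁) χ₁) E = 0 := by
              have h7 := hX γ₁ χ₁
              rw [hX1] at h7
              rcases mul_eq_zero.mp h7.symm with h | h
              · exact absurd h (pow_ne_zero _ hp0)
              · exact h
            have h8 : contrib p C (blockOf M (ψ₀ : C → ℂ)) (x ^ γ₁) χ₁ ψ = 0 := by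
              unfold contrib
              rw [h4, classInner_smul_right, h6, mul_zero]
            rw [hγ₁x] at h8
            exact h8
          rcases hT''2 ψ with h | h
          · exact absurd h hne
          · linarith
        · by_cases hz : T' ψ = 0
          · have hpos := hposT ψ hψB (T ψ) (hT1 ψ)
            have hne : T'' ψ ≠ 0 := by
              rw [hTrel, hz]
              omega
            rcases hT''2 ψ with h | h
            · exact absurd h hne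
            · linarith
          · have hXJ : MemLocalIdeal M (X γ₁ ψ) := by
              have h1 := h5b ψ hψB θ₀ hθ₀B hh hθ₀h
              rw [hdec] at h1
              have h2 : MemLocalIdeal M (X γ₁ ψ * Y γ₁ θ₀) := by
                have := memLocalIdeal_sub hMp h1 (hA'J γ₁ ψ θ₀)
                rwa [add_sub_cancel_left] at this
              have h3 : ¬ MemLocalIdeal M (Y γ₁ θ₀) := by
                intro hY0
                apply hP3 θ₀ hθ₀B θ₀ hθ₀B hθ₀h hθ₀h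
                rw [hdec]
                exact memLocalIdeal_add hMp (hA'J γ₁ θ₀ θ₀)
                  (memLocalIdeal_mul_left hMp (hXR γ₁ θ₀) hY0)
              exact (memLocalIdeal_or_of_mul hMp (hXR γ₁ ψ) (hYR γ₁ θ₀) h2).resolve_right h3
            have hdiv : (p : ℤ) ∣ ∑ ξ ∈ bf, (n ψ ξ : ℤ) * L ξ := by
              rw [← memLocalIdeal_intCast_iff hM]
              have h1 : ((∑ ξ ∈ bf, (n ψ ξ : ℤ) * L ξ : ℤ) : ℂ) = X γ₁ ψ -
                  ∑ ξ ∈ bf, (n ψ ξ : ℂ) * (L ξ : ℂ) * ((ζ ^ γ₁) ^ e ξ - 1) := by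
                rw [hXc, ← Finset.sum_sub_distrib]
                push_cast
                apply Finset.sum_congr rfl
                intro ξ _
                ring
              rw [h1]
              apply memLocalIdeal_sub hMp hXJ
              apply memLocalIdeal_sum hMp
              intro ξ _
              apply memLocalIdeal_mul_left hMp (memLocalRing_mul hMp (memLocalRing_natCast hMp _)
                (memLocalRing_intCast hMp _))
              have h9 : ((ζ ^ γ₁) ^ e ξ) ^ p ^ k = 1 := by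
                calc ((ζ ^ γ₁) ^ e ξ) ^ p ^ k = (ζ ^ p ^ k) ^ (γ₁ * e ξ) := by
                      rw [← pow_mul, ← pow_mul, ← pow_mul]
                      congr 1
                      ring
                  _ = 1 := by rw [hζ.pow_eq_one, one_pow]
              exact memLocalIdeal_sub_one_of_pow_eq_one hM h9
            obtain ⟨T₂, hT₂1, hT₂2⟩ :=
              gram_bound_rank_one p k hp ζ hζ bf e he (fun ξ => (n ψ ξ : ℤ)) L hdiv
            have hT₂ : T₂ = T' ψ := by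
              apply Int.cast_injective (α := ℂ)
              rw [← hT₂1, ← hT'1 ψ, hI]
              apply Finset.sum_congr rfl
              intro γ _
              rw [hGS]
              apply Finset.sum_congr rfl
              intro ξ _
              apply Finset.sum_congr rfl
              intro ξ' _
              rw [hLL]
              push_cast
              rfl
            rw [hT₂, ← hI] at hT₂2
            rcases hT₂2 with h | h
            · exact absurd h hz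
            · have := hT''nn ψ
              linarith
      have h3 := Finset.card_nsmul_le_sum (irrFinset B)
        (fun ψ => ((p : ℤ) - 1) * T' ψ + T'' ψ) ((p : ℤ) * (I.card : ℤ)) hchar
      rw [nsmul_eq_mul, Finset.sum_add_distrib, ← Finset.mul_sum, hsumT'] at h3
      have h4 : ∑ ψ ∈ irrFinset B, T'' ψ =
          (I.card : ℤ) * ((p ^ d : ℕ) : ℤ) * (l : ℤ) - (I.card : ℤ) * ((p ^ d : ℕ) : ℤ) := by
        rw [Finset.sum_congr rfl (fun ψ _ => hTrel ψ), Finset.sum_sub_distrib,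
          hsumT T (fun χ _ => hT1 χ), hsumT']
      rw [h4] at h3
      have hmul : (I.card : ℤ) * ((p ^ d : ℕ) : ℤ) * (l : ℤ) ≤
          (I.card : ℤ) * ((p ^ d : ℕ) : ℤ) * 2 :=
        mul_le_mul_of_nonneg_left hlZ (mul_nonneg (Int.natCast_nonneg _) (Int.natCast_nonneg _))
      have h5 : ((irrFinset B).card : ℤ) * ((p : ℤ) * (I.card : ℤ)) ≤
          ((p ^ d : ℕ) : ℤ) * ((p : ℤ) * (I.card : ℤ)) := by
        calc ((irrFinset B).card : ℤ) * ((p : ℤ) * (I.card : ℤ))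
            ≤ ((p : ℤ) - 1) * ((I.card : ℤ) * ((p ^ d : ℕ) : ℤ)) +
              ((I.card : ℤ) * ((p ^ d : ℕ) : ℤ) * (l : ℤ) -
                (I.card : ℤ) * ((p ^ d : ℕ) : ℤ)) := h3
          _ ≤ ((p : ℤ) - 1) * ((I.card : ℤ) * ((p ^ d : ℕ) : ℤ)) +
              ((I.card : ℤ) * ((p ^ d : ℕ) : ℤ) * 2 -
                (I.card : ℤ) * ((p ^ d : ℕ) : ℤ)) := by linarith
          _ = _ := by ring
      have hpI : (0 : ℤ) < (p : ℤ) * (I.card : ℤ) := by
        have : (0 : ℤ) < (p : ℤ) := by exact_mod_cast hp.pos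
        exact mul_pos this hIZ
      have h6 := le_of_mul_le_mul_right h5 hpI
      exact_mod_cast h6

end MajorBound

end Cfsg.Agent.H84
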