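import Mathlib
import Cfsg.Agent.H86.NdDefs
import Cfsg.Agent.H12.NdUnipGen
import Cfsg.Agent.H27.Ev2IsoGen

/-!
# S5989 / S5991 (team project, helper86): piece ND-UEX4M — an isometry of the minus space of
Jordan type `(3, 1, 2^(k-1))`, `k` odd, with a fixed nonsingular vector of prescribed norm
class.

`x u = u + N u`, with (writing `u = (p, q, z)`, `z` in the anisotropic plane with norm `n`
and polar form `β`, `v` a nonzero vector of the plane, `c = n v`)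
`N u = (S q - (β z v + c q₀) e₀, 0, q₀ v)`, `S` the alternating monomial matrix on the
indices `1, …, k - 1`.  The fixed vector is `p₀ = (0, 0, z₀)` with `β z₀ v = 0`.
-/

set_option autoImplicit false

namespace Cfsg.Agent.H84.Nd

open Cfsg.Agent.H86.Nd Cfsg.Agent.H12.Nd Module

universe u

section

variable {F : Type u} [Field F]

/-- the twist: `0 ↦ 0`, odd `i ↦ i + 1`, even `i ≥ 2 ↦ i - 1` -/
def tw4 (k : ℕ) (i : Fin k) : Fin k :=
  if i.val % 2 = 1 then (if h : i.val + 1 < k then ⟨i.val + 1, h⟩ else i)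
  else ⟨i.val - 1, by have := i.isLt; omega⟩

theorem tw4_val (k : ℕ) (hk : k % 2 = 1) (i : Fin k) :
    (tw4 k i).val = if i.val % 2 = 1 then i.val + 1 else i.val - 1 := by
  unfold tw4
  have := i.isLt
  by_cases h : i.val % 2 = 1
  · rw [if_pos h, if_pos h, dif_pos (by omega)]
  · rw [if_neg h, if_neg h]

theorem tw4_tw4 (k : ℕ) (hk : k % 2 = 1) (i : Fin k) : tw4 k (tw4 k i) = i := by
  apply Fin.ext
  rw [tw4_val k hk, tw4_val k hk]
  by_cases h : i.val % 2 = 1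
  · rw [if_pos h, if_neg (by omega)]; omega
  · rw [if_neg h]
    by_cases h0 : i.val = 0
    · rw [if_neg (by omega)]; omega
    · rw [if_pos (by omega)]; omega

theorem tw4_ne_zero (k : ℕ) (hk : k % 2 = 1) (i : Fin k) (hi : i.val ≠ 0) :
    (tw4 k i).val ≠ 0 := by
  rw [tw4_val k hk]
  by_cases h : i.val % 2 = 1
  · rw [if_pos h]; omega
  · rw [if_neg h]; omega

theorem tw4_ne_self (k : ℕ) (hk : k % 2 = 1) (i : Fin k) (hi : i.val ≠ 0) :
    tw4 k i ≠ i := by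
  intro h
  have h5 := congrArg Fin.val h
  rw [tw4_val k hk] at h5
  split_ifs at h5 <;> omega

/-- the signs: `0` at `0`, `1` at odd `i`, `-1` at even `i ≥ 2` -/
def sg4 (F : Type u) [Field F] (k : ℕ) (i : Fin k) : F :=
  if i.val = 0 then 0 else if i.val % 2 = 1 then 1 else -1

theorem sg4_zero (k : ℕ) (i : Fin k) (hi : i.val = 0) : sg4 F k i = 0 := by
  unfold sg4
  rw [if_pos hi]

theorem sg4_ne_zero (k : ℕ) (i : Fin k) (hi : i.val ≠ 0) : sg4 F k i ≠ 0 := by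
  unfold sg4
  rw [if_neg hi]
  split_ifs
  · exact one_ne_zero
  · exact neg_ne_zero.mpr one_ne_zero

theorem sg4_tw4 (k : ℕ) (hk : k % 2 = 1) (i : Fin k) : sg4 F k (tw4 k i) = -sg4 F k i := by
  have hv := tw4_val k hk i
  unfold sg4
  by_cases h0 : i.val = 0
  · have h1 : (tw4 k i).val = 0 := by
      rw [hv, if_neg (by omega)]; omega
    rw [if_pos h0, if_pos h1, neg_zero]
  · by_cases h : i.val % 2 = 1
    · have h1 : (tw4 k i).val = i.val + 1 := by rw [hv, if_pos h]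
      have h3 : ¬ (tw4 k i).val = 0 := by omega
      have h4 : ¬ (tw4 k i).val % 2 = 1 := by omega
      rw [if_neg h0, if_pos h, if_neg h3, if_neg h4]
    · have h1 : (tw4 k i).val = i.val - 1 := by rw [hv, if_neg h]
      have h3 : ¬ (tw4 k i).val = 0 := by omega
      have h4 : (tw4 k i).val % 2 = 1 := by omega
      rw [if_neg h0, if_neg h, if_neg h3, if_pos h4, neg_neg]

/-- the alternating sum vanishes -/
theorem alt_sum4 (k : ℕ) (hk : k % 2 = 1) (y : Fin k → F) :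
    ∑ i : Fin k, sg4 F k i * y (tw4 k i) * y i = 0 := by
  apply Finset.sum_involution (fun i _ => tw4 k i)
  · intro i _
    rw [tw4_tw4 k hk, sg4_tw4 k hk]
    ring
  · intro i _ hne h
    by_cases h0 : i.val = 0
    · apply hne
      rw [sg4_zero k i h0, zero_mul, zero_mul]
    · exact tw4_ne_self k hk i h0 h
  · intro i _
    exact Finset.mem_univ _
  · intro i _
    exact tw4_tw4 k hk i

/-- `u ↦ (u₂, β z v)` -/
def psi4 (k : ℕ) (a b v0 v1 : F) : (MI k → F) →ₗ[F] (Fin k → F) × F where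
  toFun w := (fun i => w (Sum.inl (Sum.inr i)),
    2 * w (Sum.inr 0) * v0 + a * (w (Sum.inr 0) * v1 + w (Sum.inr 1) * v0) +
      2 * b * w (Sum.inr 1) * v1)
  map_add' w w' := by
    refine Prod.ext ?_ ?_
    · rfl
    · show 2 * (w (Sum.inr 0) + w' (Sum.inr 0)) * v0 +
        a * ((w (Sum.inr 0) + w' (Sum.inr 0)) * v1 + (w (Sum.inr 1) + w' (Sum.inr 1)) * v0) +
        2 * b * (w (Sum.inr 1) + w' (Sum.inr 1)) * v1 = _ + _
      ring
  map_smul' c w := by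
    refine Prod.ext ?_ ?_
    · rfl
    · show 2 * (c * w (Sum.inr 0)) * v0 +
        a * ((c * w (Sum.inr 0)) * v1 + (c * w (Sum.inr 1)) * v0) +
        2 * b * (c * w (Sum.inr 1)) * v1 = c * _
      ring

/-- `(y, t) ↦ (S y - (t + c y₀) e₀, 0, y₀ v)` -/
def phi4 (k : ℕ) (i0 : Fin k) (c v0 v1 : F) : (Fin k → F) × F →ₗ[F] (MI k → F) where
  toFun p := Sum.elim (Sum.elim
    (fun i => sg4 F k i * p.1 (tw4 k i) - (if i.val = 0 then p.2 + c * p.1 i0 else 0))
    (fun _ => 0)) (fun j => p.1 i0 * ![v0, v1] j)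
  map_add' p p' := by
    ext ((i | i) | j)
    · show sg4 F k i * (p.1 (tw4 k i) + p'.1 (tw4 k i)) -
        (if i.val = 0 then (p.2 + p'.2) + c * (p.1 i0 + p'.1 i0) else 0) =
        (sg4 F k i * p.1 (tw4 k i) - (if i.val = 0 then p.2 + c * p.1 i0 else 0)) +
        (sg4 F k i * p'.1 (tw4 k i) - (if i.val = 0 then p'.2 + c * p'.1 i0 else 0))
      split_ifs <;> ring
    · show (0 : F) = 0 + 0
      rw [add_zero]
    · show (p.1 i0 + p'.1 i0) * ![v0, v1] j = p.1 i0 * ![v0, v1] j + p'.1 i0 * ![v0, v1] j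
      ring
  map_smul' r p := by
    ext ((i | i) | j)
    · show sg4 F k i * (r * p.1 (tw4 k i)) -
        (if i.val = 0 then (r * p.2) + c * (r * p.1 i0) else 0) =
        r * (sg4 F k i * p.1 (tw4 k i) - (if i.val = 0 then p.2 + c * p.1 i0 else 0))
      split_ifs <;> ring
    · show (0 : F) = r * 0
      rw [mul_zero]
    · show (r * p.1 i0) * ![v0, v1] j = r * (p.1 i0 * ![v0, v1] j)
      ring

/-- the nilpotent part -/
def N4 (k : ℕ) (i0 : Fin k) (a b v0 v1 : F) : Module.End F (MI k → F) :=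
  phi4 k i0 (v0 ^ 2 + a * v0 * v1 + b * v1 ^ 2) v0 v1 ∘ₗ psi4 k a b v0 v1

theorem N4_apply (k : ℕ) (i0 : Fin k) (a b v0 v1 : F) (w : MI k → F) :
    N4 k i0 a b v0 v1 w = Sum.elim (Sum.elim
      (fun i => sg4 F k i * w (Sum.inl (Sum.inr (tw4 k i))) -
        (if i.val = 0 then (2 * w (Sum.inr 0) * v0 +
          a * (w (Sum.inr 0) * v1 + w (Sum.inr 1) * v0) + 2 * b * w (Sum.inr 1) * v1) +
          (v0 ^ 2 + a * v0 * v1 + b * v1 ^ 2) * w (Sum.inl (Sum.inr i0)) else 0))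
      (fun _ => 0)) (fun j => w (Sum.inl (Sum.inr i0)) * ![v0, v1] j) := rfl

/-- `t ↦ (-(2 c t) e₀, 0, 0)` -/
def phi4b (k : ℕ) (c : F) : F →ₗ[F] (MI k → F) where
  toFun t := Sum.elim (Sum.elim (fun i => if i.val = 0 then -(2 * c * t) else 0)
    (fun _ => 0)) (fun _ => 0)
  map_add' t t' := by
    ext ((i | i) | j)
    · show (if i.val = 0 then -(2 * c * (t + t')) else 0) =
        (if i.val = 0 then -(2 * c * t) else 0) + (if i.val = 0 then -(2 * c * t') else 0)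
      split_ifs <;> ring
    · show (0 : F) = 0 + 0
      rw [add_zero]
    · show (0 : F) = 0 + 0
      rw [add_zero]
  map_smul' r t := by
    ext ((i | i) | j)
    · show (if i.val = 0 then -(2 * c * (r * t)) else 0) =
        r * (if i.val = 0 then -(2 * c * t) else 0)
      split_ifs <;> ring
    · show (0 : F) = r * 0
      rw [mul_zero]
    · show (0 : F) = r * 0
      rw [mul_zero]

theorem N4_sq (k : ℕ) (i0 : Fin k) (a b v0 v1 : F) :
    N4 k i0 a b v0 v1 * N4 k i0 a b v0 v1 =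
      phi4b k (v0 ^ 2 + a * v0 * v1 + b * v1 ^ 2) ∘ₗ
        (LinearMap.proj (Sum.inl (Sum.inr i0)) : (MI k → F) →ₗ[F] F) := by
  apply LinearMap.ext
  intro w
  show N4 k i0 a b v0 v1 (N4 k i0 a b v0 v1 w) = phi4b k _ (w (Sum.inl (Sum.inr i0)))
  rw [N4_apply (w := N4 k i0 a b v0 v1 w)]
  ext ((i | i) | j)
  · show sg4 F k i * N4 k i0 a b v0 v1 w (Sum.inl (Sum.inr (tw4 k i))) -
        (if i.val = 0 then (2 * N4 k i0 a b v0 v1 w (Sum.inr 0) * v0 +
          a * (N4 k i0 a b v0 v1 w (Sum.inr 0) * v1 + N4 k i0 a b v0 v1 w (Sum.inr 1) * v0) +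
          2 * b * N4 k i0 a b v0 v1 w (Sum.inr 1) * v1) +
          (v0 ^ 2 + a * v0 * v1 + b * v1 ^ 2) * N4 k i0 a b v0 v1 w (Sum.inl (Sum.inr i0))
          else 0) =
      (if i.val = 0 then -(2 * (v0 ^ 2 + a * v0 * v1 + b * v1 ^ 2) * w (Sum.inl (Sum.inr i0)))
        else 0)
    have e1 : ∀ j : Fin k, N4 k i0 a b v0 v1 w (Sum.inl (Sum.inr j)) = 0 := fun _ => rfl
    have e2 : N4 k i0 a b v0 v1 w (Sum.inr 0) = w (Sum.inl (Sum.inr i0)) * v0 := rfl
    have e3 : N4 k i0 a b v0 v1 w (Sum.inr 1) = w (Sum.inl (Sum.inr i0)) * v1 := rfl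
    rw [e1, e1, e2, e3]
    split_ifs <;> ring
  · rfl
  · show N4 k i0 a b v0 v1 w (Sum.inl (Sum.inr i0)) * ![v0, v1] j = 0
    have e1 : N4 k i0 a b v0 v1 w (Sum.inl (Sum.inr i0)) = 0 := rfl
    rw [e1, zero_mul]

theorem N4_cube (k : ℕ) (i0 : Fin k) (a b v0 v1 : F) : N4 k i0 a b v0 v1 ^ 3 = 0 := by
  rw [pow_succ, pow_two, N4_sq]
  apply LinearMap.ext
  intro w
  show phi4b k _ (N4 k i0 a b v0 v1 w (Sum.inl (Sum.inr i0))) = 0
  have e1 : N4 k i0 a b v0 v1 w (Sum.inl (Sum.inr i0)) = 0 := rfl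
  rw [e1, map_zero]

theorem phi4b_inj (k : ℕ) (i0 : Fin k) (hi0 : i0.val = 0) (c : F) (h2 : (2 : F) ≠ 0)
    (hc : c ≠ 0) : Function.Injective (phi4b (F := F) k c) := by
  rw [injective_iff_map_eq_zero]
  intro t ht
  have h := congrFun ht (Sum.inl (Sum.inl i0))
  have h' : (if i0.val = 0 then -(2 * c * t) else 0) = 0 := h
  rw [if_pos hi0, neg_eq_zero] at h'
  rcases mul_eq_zero.mp h' with h3 | h3
  · exact absurd h3 (mul_ne_zero h2 hc)
  · exact h3

theorem proj4_surj (k : ℕ) (i0 : Fin k) :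
    Function.Surjective (LinearMap.proj (Sum.inl (Sum.inr i0)) : (MI k → F) →ₗ[F] F) := by
  intro t
  exact ⟨fun _ => t, rfl⟩

theorem phi4_inj (k : ℕ) (hk : k % 2 = 1) (i0 : Fin k) (hi0 : i0.val = 0) (c v0 v1 : F)
    (hv : ¬ (v0 = 0 ∧ v1 = 0)) : Function.Injective (phi4 k i0 c v0 v1) := by
  rw [injective_iff_map_eq_zero]
  intro p hp
  have hz0 : p.1 i0 * v0 = 0 := congrFun hp (Sum.inr 0)
  have hz1 : p.1 i0 * v1 = 0 := congrFun hp (Sum.inr 1)
  have hy0 : p.1 i0 = 0 := by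
    by_contra h
    exact hv ⟨(mul_eq_zero.mp hz0).resolve_left h, (mul_eq_zero.mp hz1).resolve_left h⟩
  have hx : ∀ i : Fin k, sg4 F k i * p.1 (tw4 k i) -
      (if i.val = 0 then p.2 + c * p.1 i0 else 0) = 0 := fun i => congrFun hp (Sum.inl (Sum.inl i))
  have hy : ∀ j : Fin k, p.1 j = 0 := by
    intro j
    by_cases hj : j.val = 0
    · have : j = i0 := Fin.ext (hj.trans hi0.symm)
      rw [this, hy0]
    · have h1 := hx (tw4 k j)
      rw [if_neg (tw4_ne_zero k hk j hj), sub_zero, tw4_tw4 k hk] at h1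
      exact (mul_eq_zero.mp h1).resolve_left (sg4_ne_zero k _ (tw4_ne_zero k hk j hj))
  have h2 := hx i0
  rw [if_pos hi0, hy0, hy, mul_zero, mul_zero, add_zero, zero_sub, neg_eq_zero] at h2
  refine Prod.ext ?_ h2
  funext j
  exact hy j

theorem psi4_surj (k : ℕ) (a b v0 v1 : F) (h2 : (2 : F) ≠ 0)
    (hc : v0 ^ 2 + a * v0 * v1 + b * v1 ^ 2 ≠ 0) : Function.Surjective (psi4 k a b v0 v1) := by
  intro p
  have h2c : 2 * (v0 ^ 2 + a * v0 * v1 + b * v1 ^ 2) ≠ 0 := mul_ne_zero h2 hc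
  obtain ⟨q, hq⟩ : ∃ q : F, q * (2 * (v0 ^ 2 + a * v0 * v1 + b * v1 ^ 2)) = p.2 :=
    ⟨p.2 / (2 * (v0 ^ 2 + a * v0 * v1 + b * v1 ^ 2)), div_mul_cancel₀ _ h2c⟩
  refine ⟨Sum.elim (Sum.elim (fun _ => 0) p.1) (fun j => q * ![v0, v1] j), ?_⟩
  refine Prod.ext ?_ ?_
  · rfl
  · show 2 * (q * v0) * v0 + a * ((q * v0) * v1 + (q * v1) * v0) + 2 * b * (q * v1) * v1 = p.2
    rw [← hq]
    ring

/-- the isometry property -/
theorem N4_isom (k : ℕ) (hk : k % 2 = 1) (i0 : Fin k) (hi0 : i0.val = 0) (a b v0 v1 : F)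
    (u : MI k → F) :
    Cfsg.quadFormMinus k F a b (u + N4 k i0 a b v0 v1 u) = Cfsg.quadFormMinus k F a b u := by
  unfold Cfsg.quadFormMinus
  have e1 : ∀ i : Fin k, (u + N4 k i0 a b v0 v1 u) (Sum.inl (Sum.inl i)) =
      u (Sum.inl (Sum.inl i)) + (sg4 F k i * u (Sum.inl (Sum.inr (tw4 k i))) -
        (if i.val = 0 then (2 * u (Sum.inr 0) * v0 +
          a * (u (Sum.inr 0) * v1 + u (Sum.inr 1) * v0) + 2 * b * u (Sum.inr 1) * v1) +
          (v0 ^ 2 + a * v0 * v1 + b * v1 ^ 2) * u (Sum.inl (Sum.inr i0)) else 0)) := fun i => rfl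
  have e2 : ∀ i : Fin k, (u + N4 k i0 a b v0 v1 u) (Sum.inl (Sum.inr i)) =
      u (Sum.inl (Sum.inr i)) := fun i => by
    show u _ + 0 = _
    rw [add_zero]
  have e3 : (u + N4 k i0 a b v0 v1 u) (Sum.inr 0) =
      u (Sum.inr 0) + u (Sum.inl (Sum.inr i0)) * v0 := rfl
  have e4 : (u + N4 k i0 a b v0 v1 u) (Sum.inr 1) =
      u (Sum.inr 1) + u (Sum.inl (Sum.inr i0)) * v1 := rfl
  simp only [e1, e2, e3, e4]
  have e5 : ∑ i : Fin k, (u (Sum.inl (Sum.inl i)) + (sg4 F k i * u (Sum.inl (Sum.inr (tw4 k i))) -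
        (if i.val = 0 then (2 * u (Sum.inr 0) * v0 +
          a * (u (Sum.inr 0) * v1 + u (Sum.inr 1) * v0) + 2 * b * u (Sum.inr 1) * v1) +
          (v0 ^ 2 + a * v0 * v1 + b * v1 ^ 2) * u (Sum.inl (Sum.inr i0)) else 0))) *
        u (Sum.inl (Sum.inr i)) =
      ∑ i : Fin k, u (Sum.inl (Sum.inl i)) * u (Sum.inl (Sum.inr i)) +
        ∑ i : Fin k, sg4 F k i * u (Sum.inl (Sum.inr (tw4 k i))) * u (Sum.inl (Sum.inr i)) -
        ((2 * u (Sum.inr 0) * v0 +
          a * (u (Sum.inr 0) * v1 + u (Sum.inr 1) * v0) + 2 * b * u (Sum.inr 1) * v1) +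
          (v0 ^ 2 + a * v0 * v1 + b * v1 ^ 2) * u (Sum.inl (Sum.inr i0))) *
          u (Sum.inl (Sum.inr i0)) := by
    have e6 : ∑ i : Fin k, (if i.val = 0 then (2 * u (Sum.inr 0) * v0 +
          a * (u (Sum.inr 0) * v1 + u (Sum.inr 1) * v0) + 2 * b * u (Sum.inr 1) * v1) +
          (v0 ^ 2 + a * v0 * v1 + b * v1 ^ 2) * u (Sum.inl (Sum.inr i0)) else 0) *
          u (Sum.inl (Sum.inr i)) =
        ((2 * u (Sum.inr 0) * v0 +
          a * (u (Sum.inr 0) * v1 + u (Sum.inr 1) * v0) + 2 * b * u (Sum.inr 1) * v1) +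
          (v0 ^ 2 + a * v0 * v1 + b * v1 ^ 2) * u (Sum.inl (Sum.inr i0))) *
          u (Sum.inl (Sum.inr i0)) := by
      rw [Finset.sum_eq_single i0]
      · rw [if_pos hi0]
      · intro j _ hj
        rw [if_neg (fun h => hj (Fin.ext (h.trans hi0.symm))), zero_mul]
      · intro h
        exact absurd (Finset.mem_univ _) h
    rw [← e6, ← Finset.sum_add_distrib, ← Finset.sum_sub_distrib]
    exact Finset.sum_congr rfl (fun i _ => by ring)
  rw [e5, alt_sum4 k hk (fun i => u (Sum.inl (Sum.inr i)))]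
  ring

/-- (ND-UEX4M) -/
theorem uex4M : StUex4M.{u} := by
  intro F _ _ k a b α h2 haniso hk hα
  have hk' : k % 2 = 1 := Nat.odd_iff.mp hk
  have hkpos : 0 < k := by omega
  -- the fixed vector
  obtain ⟨e, rfl⟩ : ∃ e : F, a = 2 * e := ⟨a / 2, by field_simp⟩
  have hD : b - e ^ 2 ≠ 0 := by
    intro hD
    have h := haniso (-e) 1 (by
      have : (-e) ^ 2 + 2 * e * (-e) * 1 + b * 1 ^ 2 = b - e ^ 2 := by ring
      rw [this, hD])
    exact one_ne_zero h.2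
  obtain ⟨x0, y0, hxy⟩ := Cfsg.Agent.H27.Ev2.iso_quad_solve F h2 1 (b - e ^ 2) α⁻¹
    one_ne_zero hD
  set s : F := x0 - e * y0 with hs
  set t : F := y0 with ht
  have hst : s ^ 2 + 2 * e * s * t + b * t ^ 2 = α⁻¹ := by
    rw [← hxy, hs]
    ring
  have hαi : α⁻¹ ≠ 0 := inv_ne_zero hα
  set v0 : F := 2 * e * s + 2 * b * t with hv0
  set v1 : F := -(2 * s + 2 * e * t) with hv1
  have hbeta : 2 * s * v0 + 2 * e * (s * v1 + t * v0) + 2 * b * t * v1 = 0 := by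
    rw [hv0, hv1]
    ring
  have hv : ¬ (v0 = 0 ∧ v1 = 0) := by
    rintro ⟨h0, h1⟩
    have h3 : 2 * (s ^ 2 + 2 * e * s * t + b * t ^ 2) = s * (-v1) + t * v0 := by
      rw [hv0, hv1]
      ring
    rw [h0, h1, neg_zero, mul_zero, mul_zero, add_zero, hst] at h3
    exact (mul_ne_zero h2 hαi) h3
  have hc : v0 ^ 2 + 2 * e * v0 * v1 + b * v1 ^ 2 ≠ 0 := fun h => hv (haniso v0 v1 h)
  set i0 : Fin k := ⟨0, hkpos⟩ with hi0d
  have hi0 : i0.val = 0 := rfl
  set N := N4 k i0 (2 * e) b v0 v1 with hN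
  have hN3 : N ^ 3 = 0 := N4_cube k i0 (2 * e) b v0 v1
  refine ⟨unitOfNil N hN3, ?_, ?_, ?_, ?_, ?_⟩
  · apply unitOfNil_mem
    intro u
    exact N4_isom k hk' i0 hi0 (2 * e) b v0 v1 u
  · rw [toLin'_unitOfNil]
    exact hN3
  · rw [toLin'_unitOfNil, hN, N4_sq]
    rw [finrank_range_comp _ _ (phi4b_inj k i0 hi0 _ h2 hc) (proj4_surj k i0)]
    exact Module.finrank_self F
  · rw [toLin'_unitOfNil]
    have h := finrank_range_comp (phi4 k i0 (v0 ^ 2 + 2 * e * v0 * v1 + b * v1 ^ 2) v0 v1)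
      (psi4 k (2 * e) b v0 v1) (phi4_inj k hk' i0 hi0 _ v0 v1 hv)
      (psi4_surj k (2 * e) b v0 v1 h2 hc)
    rw [show N = phi4 k i0 (v0 ^ 2 + 2 * e * v0 * v1 + b * v1 ^ 2) v0 v1 ∘ₗ
        psi4 k (2 * e) b v0 v1 from rfl,
      h, Module.finrank_prod, Module.finrank_fin_fun, Module.finrank_self]
    ring
  · refine ⟨Sum.elim (fun _ => 0) (fun j => ![s, t] j), ?_, ?_, ?_⟩
    · have hx : Matrix.toLin' ((unitOfNil N hN3 : Matrix.GeneralLinearGroup (MI k) F) :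
          Matrix (MI k) (MI k) F) = 1 + N := by
        rw [unitOfNil_val, Matrix.toLin'_toMatrix']
      rw [hx]
      show _ + N _ = _
      have hN0 : N (Sum.elim (fun _ => 0) (fun j => ![s, t] j)) = 0 := by
        rw [hN, N4_apply]
        ext ((i | i) | j)
        · show sg4 F k i * 0 - (if i.val = 0 then (2 * s * v0 + 2 * e * (s * v1 + t * v0) +
            2 * b * t * v1) + (v0 ^ 2 + 2 * e * v0 * v1 + b * v1 ^ 2) * 0 else 0) = 0
          rw [hbeta]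
          split_ifs <;> ring
        · rfl
        · show (0 : F) * ![v0, v1] j = 0
          rw [zero_mul]
      rw [hN0, add_zero]
      rfl
    · have hQ : Cfsg.quadFormMinus k F (2 * e) b (Sum.elim (fun _ => 0) (fun j => ![s, t] j)) =
          s ^ 2 + 2 * e * s * t + b * t ^ 2 := by
        unfold Cfsg.quadFormMinus
        show ∑ i : Fin k, (0 : F) * 0 + (s ^ 2 + 2 * e * s * t + b * t ^ 2) = _
        simp
      rw [hQ, hst]
      exact hαi
    · have hQ : Cfsg.quadFormMinus k F (2 * e) b (Sum.elim (fun _ => 0) (fun j => ![s, t] j)) =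
          s ^ 2 + 2 * e * s * t + b * t ^ 2 := by
        unfold Cfsg.quadFormMinus
        show ∑ i : Fin k, (0 : F) * 0 + (s ^ 2 + 2 * e * s * t + b * t ^ 2) = _
        simp
      rw [hQ, hst, mul_inv_cancel₀ hα]
      exact ⟨1, (one_mul 1).symm⟩

end

example : StUex4M.{u} =
    (∀ (F : Type u) [Field F] [Fintype F] (k : ℕ) (a b α : F), (2 : F) ≠ 0 →
    (∀ x y : F, x ^ 2 + a * x * y + b * y ^ 2 = 0 → x = 0 ∧ y = 0) → Odd k → α ≠ 0 →
    ∃ x : Matrix.GeneralLinearGroup (MI k) F,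
      x ∈ Cfsg.isometryGroup F (Cfsg.quadFormMinus k F a b) ∧
      (Matrix.toLin' (x : Matrix (MI k) (MI k) F) - 1) ^ 3 = 0 ∧
      Module.finrank F ↥(LinearMap.range
        ((Matrix.toLin' (x : Matrix (MI k) (MI k) F) - 1) *
          (Matrix.toLin' (x : Matrix (MI k) (MI k) F) - 1))) = 1 ∧
      2 * Module.finrank F ↥(LinearMap.range
        (Matrix.toLin' (x : Matrix (MI k) (MI k) F) - 1)) = 2 * k + 2 ∧
      ∃ p₀ : MI k → F, Matrix.toLin' (x : Matrix (MI k) (MI k) F) p₀ = p₀ ∧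
        Cfsg.quadFormMinus k F a b p₀ ≠ 0 ∧ IsSquare (α * Cfsg.quadFormMinus k F a b p₀)) :=
  rfl

end Cfsg.Agent.H84.Nd
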