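import Cfsg.Agent.H84.PmCore

set_option autoImplicit false

/-! S2140 piece COMM (`b1_comm`, helper17's project): for `n ≥ 4` and a scalar `s` with
`s ≠ 0`, `s ^ 2 ≠ 1`, the lift of a suitable transvection `τ(u, θ₀)` vanishes at `e`. -/

namespace Cfsg.Agent.H84.Pm

open Cfsg Cfsg.Geo Cfsg.Agent.H17.Mn Cfsg.Agent.H17.Pm
open scoped MatrixGroups Matrix

variable {ι : Type} [Fintype ι] [DecidableEq ι] {F : Type*} [Field F]

/-- The diagonal map `u ↦ s • u`, `u' ↦ s⁻¹ • u'`, identity on `ker α ⊓ ker β`. -/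
noncomputable def dilLin (s : F) (u u' : ι → F) (α β : (ι → F) →ₗ[F] F) :
    (ι → F) →ₗ[F] (ι → F) :=
  LinearMap.transvection ((s - 1) • α) u ∘ₗ LinearMap.transvection ((s⁻¹ - 1) • β) u'

lemma dilLin_apply (s : F) (u u' : ι → F) (α β : (ι → F) →ₗ[F] F) (hαu' : α u' = 0)
    (v : ι → F) :
    dilLin s u u' α β v = v + ((s⁻¹ - 1) * β v) • u' + ((s - 1) * α v) • u := by
  unfold dilLin
  rw [LinearMap.comp_apply, LinearMap.transvection.apply, LinearMap.transvection.apply]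
  simp only [LinearMap.smul_apply, smul_eq_mul, map_add, map_smul, hαu', mul_zero, add_zero]

lemma dilLin_det (s : F) (hs0 : s ≠ 0) (u u' : ι → F) (α β : (ι → F) →ₗ[F] F)
    (hαu : α u = 1) (hβu' : β u' = 1) : LinearMap.det (dilLin s u u' α β) = 1 := by
  unfold dilLin
  rw [LinearMap.det_comp, LinearMap.transvection.det, LinearMap.transvection.det]
  simp only [LinearMap.smul_apply, smul_eq_mul, hαu, hβu', mul_one]
  rw [add_sub_cancel, add_sub_cancel, mul_inv_cancel₀ hs0]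

/-- A diagonal element of `SL` in a basis through `c, e, u, u'`. -/
lemma exists_dil (s : F) (hs0 : s ≠ 0) (u u' : ι → F) (α β : (ι → F) →ₗ[F] F)
    (hαu : α u = 1) (hαu' : α u' = 0) (hβu' : β u' = 1) :
    ∃ D : GL ι F, D ∈ specialLinear ι F ∧ ∀ v : ι → F,
      (D : Matrix ι ι F) *ᵥ v = v + ((s⁻¹ - 1) * β v) • u' + ((s - 1) * α v) • u := by
  have hdet : (LinearMap.toMatrix' (dilLin s u u' α β)).det = 1 := by
    rw [LinearMap.det_toMatrix', dilLin_det s hs0 u u' α β hαu hβu']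
  refine ⟨Matrix.GeneralLinearGroup.mk'' (LinearMap.toMatrix' (dilLin s u u' α β))
    (by rw [hdet]; exact isUnit_one), ?_, ?_⟩
  · rw [H95.mem_specialLinear_iff, Matrix.GeneralLinearGroup.val_mk'', hdet]
  · intro v
    rw [Matrix.GeneralLinearGroup.val_mk'', LinearMap.toMatrix'_mulVec,
      dilLin_apply s u u' α β hαu' v]

lemma comp_inv_apply_fixed (g : GL ι F) (φ : (ι → F) →ₗ[F] F) (e : ι → F)
    (h : (g : Matrix ι ι F) *ᵥ e = e) :
    (φ ∘ₗ Matrix.toLin' ((g⁻¹ : GL ι F) : Matrix ι ι F)) e = φ e := by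
  have h1 : ((g⁻¹ : GL ι F) : Matrix ι ι F) *ᵥ e = e := by
    have := inv_mulVec_mulVec g e
    rw [h] at this
    exact this
  rw [LinearMap.comp_apply, Matrix.toLin'_apply, h1]

theorem b1_comm (hn : 4 ≤ Fintype.card ι) (H : Subgroup (GL ι F)) (c e : ι → F) (hce : LinearIndependent F ![c, e]) (s : F) (hs0 : s ≠ 0) (hs : s ^ 2 ≠ 1) (hL : ∀ g ∈ specialLinear ι F, ∃ φ, IsLift H c g φ) (hNT : ∀ (x : ι → F) (φ : (ι → F) →ₗ[F] F) (hφ : φ x = 0), H95.tvGL x φ hφ ∈ H → H95.tvGL x φ hφ = 1) : ∃ (u : ι → F) (θ₀ : (ι → F) →ₗ[F] F) (h0u : θ₀ u = 0), u ∉ Submodule.span F {c, e} ∧ θ₀ ≠ 0 ∧ θ₀ c = 0 ∧ θ₀ e = 0 ∧ ∀ κ : (ι → F) →ₗ[F] F, IsLift H c (H95.tvGL u θ₀ h0u) κ → κ e = 0 := by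
  have hc : c ≠ 0 := hce.ne_zero 0
  obtain ⟨u, u', α, β, hu, hαc, hαe, hαu, hαu', hβc, hβe, hβu, hβu'⟩ := exists_two_forms hn c e
  refine ⟨u, β, hβu, hu, ?_, hβc, hβe, ?_⟩
  · intro h
    rw [h] at hβu'
    simp at hβu'
  intro κ hκ
  obtain ⟨D, hDmem, hDv⟩ := exists_dil s hs0 u u' α β hαu hαu' hβu'
  have hDc : (D : Matrix ι ι F) *ᵥ c = c := by
    rw [hDv, hαc, hβc]; simp
  have hDe : (D : Matrix ι ι F) *ᵥ e = e := by
    rw [hDv, hαe, hβe]; simp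
  have hDu : (D : Matrix ι ι F) *ᵥ u = s • u := by
    rw [hDv, hαu, hβu, mul_zero, zero_smul, add_zero, mul_one, sub_smul, one_smul]
    abel
  have hβD : ∀ v : ι → F, β ((D : Matrix ι ι F) *ᵥ v) = s⁻¹ * β v := by
    intro v
    rw [hDv]
    simp only [map_add, map_smul, smul_eq_mul, hβu, hβu', mul_zero, add_zero, mul_one]
    ring
  have hne : s ^ 2 - 1 ≠ 0 := sub_ne_zero.mpr hs
  obtain ⟨t, ht⟩ : ∃ t : F, t * (s ^ 2 - 1) = 1 := ⟨(s ^ 2 - 1)⁻¹, inv_mul_cancel₀ hne⟩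
  have hTu : (t • β) u = 0 := by simp [hβu]
  have hcomm : D * H95.tvGL u (t • β) hTu =
      H95.tvGL u β hβu * (H95.tvGL u (t • β) hTu * D) := by
    apply H95.gl_ext
    intro v
    rw [mulVec_mul, mulVec_mul, mulVec_mul, H95.tvGL_mulVec, H95.tvGL_mulVec, H95.tvGL_mulVec,
      Matrix.mulVec_add, Matrix.mulVec_smul, hDu]
    simp only [map_add, map_smul, LinearMap.smul_apply, smul_eq_mul, hβD, hβu, mul_zero, add_zero]
    rw [add_assoc, ← add_smul, smul_smul]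
    congr 2
    have ht2 : t * s ^ 2 = t + 1 := by linear_combination ht
    have h1 : t * (s⁻¹ * β v) + s⁻¹ * β v = s⁻¹ * β v * (t + 1) := by ring
    rw [h1, ← ht2]
    field_simp
  obtain ⟨κD, hκD⟩ := hL D hDmem
  obtain ⟨κT, hκT⟩ := hL _ (H95.tvGL_mem_specialLinear u (t • β) hTu)
  have hDc1 : (D : Matrix ι ι F) *ᵥ c = (1 : F) • c := by rw [one_smul]; exact hDc
  have hTc1 : ((H95.tvGL u (t • β) hTu : GL ι F) : Matrix ι ι F) *ᵥ c = (1 : F) • c := by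
    rw [H95.tvGL_mulVec]; simp [hβc]
  have hCc1 : ((H95.tvGL u β hβu : GL ι F) : Matrix ι ι F) *ᵥ c = (1 : F) • c := by
    rw [H95.tvGL_mulVec]; simp [hβc]
  have hTe : ((H95.tvGL u (t • β) hTu : GL ι F) : Matrix ι ι F) *ᵥ e = e := by
    rw [H95.tvGL_mulVec]; simp [hβe]
  have hCe : ((H95.tvGL u β hβu : GL ι F) : Matrix ι ι F) *ᵥ e = e := by
    rw [H95.tvGL_mulVec]; simp [hβe]
  have l1 := isLift_mul H c (1 : F) hDc1 hκD hκT
  have l2 := isLift_mul H c (1 : F) hTc1 hκT hκD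
  have l3 := isLift_mul H c (1 : F) hCc1 hκ l2
  rw [hcomm] at l1
  have h3 := isLift_unique H c hc hNT l1 l3
  have h4 := congrArg (fun f : (ι → F) →ₗ[F] F => f e) h3
  simp only [one_smul] at h4
  rw [LinearMap.add_apply, comp_inv_apply_fixed D κT e hDe, LinearMap.add_apply,
    comp_inv_apply_fixed _ _ e hCe, LinearMap.add_apply, comp_inv_apply_fixed _ κD e hTe] at h4
  linear_combination -h4

end Cfsg.Agent.H84.Pm
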