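import Cfsg.Agent.H48.SpUDefs

/-!
# S2316 piece LAG (helper84)

Counting `ANSet J` through the map `(h, N) ↦ h * fromBlocks N 0 0 (-1 - Nᵀ) * h⁻¹`
from `SpSet J × {nilpotent}`: it is surjective by LAGADAPT and its fibres are torsors under
`GL`, embedded as `P ↦ fromBlocks P 0 0 (P⁻¹)ᵀ`.
-/

set_option autoImplicit false

open Matrix Cfsg.Agent.H48.SpU

namespace Cfsg.Agent.H84.SpU

universe u

section

variable {F : Type*} [Field F] {ι : Type*} [Fintype ι] [DecidableEq ι]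

/-- candidate inverse of a symplectic matrix -/
def sInv (h : Matrix (ι ⊕ ι) (ι ⊕ ι) F) : Matrix (ι ⊕ ι) (ι ⊕ ι) F :=
  -(Matrix.J ι F * hᵀ * Matrix.J ι F)

theorem sInv_mul {h : Matrix (ι ⊕ ι) (ι ⊕ ι) F} (hh : hᵀ * Matrix.J ι F * h = Matrix.J ι F) :
    sInv h * h = 1 := by
  unfold sInv
  rw [Matrix.neg_mul, Matrix.mul_assoc, Matrix.mul_assoc, ← Matrix.mul_assoc hᵀ, hh,
    Matrix.J_squared, neg_neg]

theorem mul_sInv {h : Matrix (ι ⊕ ι) (ι ⊕ ι) F} (hh : hᵀ * Matrix.J ι F * h = Matrix.J ι F) :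
    h * sInv h = 1 :=
  mul_eq_one_comm.mp (sInv_mul hh)

theorem symp_mul {h d : Matrix (ι ⊕ ι) (ι ⊕ ι) F} (hh : hᵀ * Matrix.J ι F * h = Matrix.J ι F)
    (hd : dᵀ * Matrix.J ι F * d = Matrix.J ι F) :
    (h * d)ᵀ * Matrix.J ι F * (h * d) = Matrix.J ι F := by
  calc (h * d)ᵀ * Matrix.J ι F * (h * d) = dᵀ * (hᵀ * Matrix.J ι F * h) * d := by
        rw [transpose_mul]; simp only [Matrix.mul_assoc]
    _ = Matrix.J ι F := by rw [hh, hd]

theorem sInv_symp {h : Matrix (ι ⊕ ι) (ι ⊕ ι) F} (hh : hᵀ * Matrix.J ι F * h = Matrix.J ι F) :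
    (sInv h)ᵀ * Matrix.J ι F * sInv h = Matrix.J ι F := by
  have h1 := mul_sInv hh
  calc (sInv h)ᵀ * Matrix.J ι F * sInv h
      = (sInv h)ᵀ * (hᵀ * Matrix.J ι F * h) * sInv h := by rw [hh]
    _ = (h * sInv h)ᵀ * Matrix.J ι F * (h * sInv h) := by
        rw [transpose_mul]; simp only [Matrix.mul_assoc]
    _ = Matrix.J ι F := by rw [h1, transpose_one, Matrix.one_mul, Matrix.mul_one]

/-- the block matrix attached to `N` -/
def bN (N : Matrix ι ι F) : Matrix (ι ⊕ ι) (ι ⊕ ι) F := fromBlocks N 0 0 (-1 - Nᵀ)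

/-- the Levi embedding of `GL` -/
def dP (P : GL ι F) : Matrix (ι ⊕ ι) (ι ⊕ ι) F :=
  fromBlocks (P : Matrix ι ι F) 0 0 ((P⁻¹ : GL ι F) : Matrix ι ι F)ᵀ

theorem dP_symp (P : GL ι F) : (dP P)ᵀ * Matrix.J ι F * dP P = Matrix.J ι F := by
  have h1 : ((P : Matrix ι ι F))ᵀ * (((P⁻¹ : GL ι F) : Matrix ι ι F))ᵀ = 1 := by
    rw [← transpose_mul, Units.inv_mul, transpose_one]
  have h2 : ((P⁻¹ : GL ι F) : Matrix ι ι F) * (P : Matrix ι ι F) = 1 := Units.inv_mul P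
  unfold dP Matrix.J
  rw [fromBlocks_transpose, fromBlocks_multiply, fromBlocks_multiply]
  simp only [transpose_zero, transpose_transpose, Matrix.mul_zero, Matrix.zero_mul, zero_add,
    add_zero, Matrix.mul_neg, Matrix.mul_one, Matrix.neg_mul, h1, h2, neg_zero]

theorem dP_mul_bN (P : GL ι F) (N : Matrix ι ι F) :
    dP P * bN (((P⁻¹ : GL ι F) : Matrix ι ι F) * N * (P : Matrix ι ι F)) = bN N * dP P := by
  have h1 : (((P⁻¹ : GL ι F) : Matrix ι ι F))ᵀ * ((P : Matrix ι ι F))ᵀ = 1 := by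
    rw [← transpose_mul, Units.mul_inv, transpose_one]
  unfold dP bN
  rw [fromBlocks_multiply, fromBlocks_multiply]
  simp only [Matrix.mul_zero, Matrix.zero_mul, add_zero, zero_add]
  congr 1
  · rw [← Matrix.mul_assoc, ← Matrix.mul_assoc, Units.mul_inv, Matrix.one_mul]
  · rw [transpose_mul, transpose_mul, Matrix.mul_sub, Matrix.sub_mul, Matrix.mul_neg,
      Matrix.mul_one, Matrix.neg_mul, Matrix.one_mul, ← Matrix.mul_assoc, h1, Matrix.one_mul]

theorem nil_conj (P : GL ι F) {N : Matrix ι ι F} (hN : IsNilpotent N) :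
    IsNilpotent (((P⁻¹ : GL ι F) : Matrix ι ι F) * N * (P : Matrix ι ι F)) := by
  obtain ⟨k, hk⟩ := hN
  refine ⟨k, ?_⟩
  rw [Units.conj_pow', hk, mul_zero, zero_mul]

theorem bN_mem {N : Matrix ι ι F} (hN : IsNilpotent N) : bN N ∈ ANSet (Matrix.J ι F) := by
  constructor
  · unfold bN Matrix.J
    rw [fromBlocks_transpose, fromBlocks_multiply, fromBlocks_multiply, fromBlocks_add,
      fromBlocks_neg]
    simp only [transpose_zero, transpose_sub, transpose_neg, transpose_one, transpose_transpose,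
      Matrix.mul_zero, Matrix.zero_mul, zero_add, add_zero, Matrix.mul_neg, Matrix.mul_one,
      Matrix.neg_mul, Matrix.one_mul, neg_zero, neg_neg]
    congr 1
    · abel
    · abel
  · have h1 : bN N * (bN N + 1) = fromBlocks (N * (N + 1)) 0 0 ((-1 - Nᵀ) * (-Nᵀ)) := by
      unfold bN
      rw [← fromBlocks_one, fromBlocks_add, fromBlocks_multiply]
      simp only [Matrix.mul_zero, Matrix.zero_mul, add_zero, zero_add]
      congr 2
      abel
    rw [h1]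
    have hA : IsNilpotent (N * (N + 1)) :=
      Commute.isNilpotent_mul_right ((Commute.refl N).add_right (Commute.one_right N)) hN
    have hNt : IsNilpotent (-Nᵀ) := by
      obtain ⟨k, hk⟩ := hN
      exact IsNilpotent.neg ⟨k, by rw [← transpose_pow, hk, transpose_zero]⟩
    have hD : IsNilpotent ((-1 - Nᵀ) * (-Nᵀ)) := by
      refine Commute.isNilpotent_mul_left ?_ hNt
      exact (((Commute.one_left Nᵀ).neg_left).sub_left (Commute.refl Nᵀ)).neg_right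
    obtain ⟨k₁, h₁⟩ := hA
    obtain ⟨k₂, h₂⟩ := hD
    refine ⟨k₁ + k₂, ?_⟩
    rw [fromBlocks_diagonal_pow, pow_add, h₁, pow_add, h₂, zero_mul, mul_zero, fromBlocks_zero]

theorem conj_mem {h Y : Matrix (ι ⊕ ι) (ι ⊕ ι) F} (hh : hᵀ * Matrix.J ι F * h = Matrix.J ι F)
    (hY : Y ∈ ANSet (Matrix.J ι F)) : h * Y * sInv h ∈ ANSet (Matrix.J ι F) := by
  obtain ⟨hY1, k, hY2⟩ := hY
  have h1 := sInv_mul hh
  have h2 := mul_sInv hh
  have h3 := sInv_symp hh
  have e1 : Matrix.J ι F * h = (sInv h)ᵀ * Matrix.J ι F := by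
    calc Matrix.J ι F * h = (h * sInv h)ᵀ * (Matrix.J ι F * h) := by
          rw [h2, transpose_one, Matrix.one_mul]
      _ = (sInv h)ᵀ * (hᵀ * Matrix.J ι F * h) := by
          rw [transpose_mul]; simp only [Matrix.mul_assoc]
      _ = (sInv h)ᵀ * Matrix.J ι F := by rw [hh]
  have e2 : hᵀ * Matrix.J ι F = Matrix.J ι F * sInv h := by
    calc hᵀ * Matrix.J ι F = hᵀ * Matrix.J ι F * (h * sInv h) := by rw [h2, Matrix.mul_one]
      _ = (hᵀ * Matrix.J ι F * h) * sInv h := by simp only [Matrix.mul_assoc]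
      _ = Matrix.J ι F * sInv h := by rw [hh]
  constructor
  · calc Matrix.J ι F * (h * Y * sInv h) + (h * Y * sInv h)ᵀ * Matrix.J ι F
        = (Matrix.J ι F * h) * Y * sInv h + (sInv h)ᵀ * Yᵀ * (hᵀ * Matrix.J ι F) := by
          simp only [transpose_mul, Matrix.mul_assoc]
      _ = (sInv h)ᵀ * (Matrix.J ι F * Y + Yᵀ * Matrix.J ι F) * sInv h := by
          rw [e1, e2]; simp only [Matrix.mul_add, Matrix.add_mul, Matrix.mul_assoc]
      _ = -Matrix.J ι F := by rw [hY1, Matrix.mul_neg, Matrix.neg_mul, h3]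
  · refine ⟨k, ?_⟩
    have e3 : h * Y * sInv h * (h * Y * sInv h + 1) = h * (Y * (Y + 1)) * sInv h := by
      calc h * Y * sInv h * (h * Y * sInv h + 1)
          = h * Y * (sInv h * h) * Y * sInv h + h * Y * sInv h := by
            simp only [Matrix.mul_add, Matrix.mul_one, Matrix.mul_assoc]
        _ = h * (Y * (Y + 1)) * sInv h := by
            rw [h1]
            simp only [Matrix.mul_add, Matrix.add_mul, Matrix.mul_one, Matrix.mul_assoc]
    rw [e3]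
    have e4 : ∀ j : ℕ, (h * (Y * (Y + 1)) * sInv h) ^ j = h * (Y * (Y + 1)) ^ j * sInv h := by
      intro j
      induction j with
      | zero => rw [pow_zero, pow_zero, Matrix.mul_one, h2]
      | succ j ih =>
        rw [pow_succ, ih, pow_succ]
        calc h * (Y * (Y + 1)) ^ j * sInv h * (h * (Y * (Y + 1)) * sInv h)
            = h * (Y * (Y + 1)) ^ j * (sInv h * h) * (Y * (Y + 1)) * sInv h := by
              simp only [Matrix.mul_assoc]
          _ = h * ((Y * (Y + 1)) ^ j * (Y * (Y + 1))) * sInv h := by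
              rw [h1, Matrix.mul_one]; simp only [Matrix.mul_assoc]
    rw [e4, hY2, Matrix.mul_zero, Matrix.zero_mul]

theorem zero_of_nil_unit {A B U : Matrix ι ι F} (hA : IsNilpotent A) (hB : IsUnit B)
    (h : A * U = U * B) : U = 0 := by
  obtain ⟨k, hk⟩ := hA
  have e : ∀ j : ℕ, A ^ j * U = U * B ^ j := by
    intro j
    induction j with
    | zero => rw [pow_zero, pow_zero, Matrix.one_mul, Matrix.mul_one]
    | succ j ih =>
      rw [pow_succ, Matrix.mul_assoc, h, ← Matrix.mul_assoc, ih, Matrix.mul_assoc, ← pow_succ]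
  have h0 : U * B ^ k = 0 := by rw [← e, hk, Matrix.zero_mul]
  obtain ⟨v, hv⟩ := hB.pow k
  calc U = U * ((v : Matrix ι ι F) * ((v⁻¹ : (Matrix ι ι F)ˣ) : Matrix ι ι F)) := by
        rw [Units.mul_inv, Matrix.mul_one]
    _ = (U * B ^ k) * ((v⁻¹ : (Matrix ι ι F)ˣ) : Matrix ι ι F) := by rw [hv, Matrix.mul_assoc]
    _ = 0 := by rw [h0, Matrix.zero_mul]

theorem zero_of_nil_unit' {A B U : Matrix ι ι F} (hA : IsNilpotent A) (hB : IsUnit B)
    (h : U * A = B * U) : U = 0 := by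
  obtain ⟨k, hk⟩ := hA
  have e : ∀ j : ℕ, U * A ^ j = B ^ j * U := by
    intro j
    induction j with
    | zero => rw [pow_zero, pow_zero, Matrix.one_mul, Matrix.mul_one]
    | succ j ih =>
      rw [pow_succ, ← Matrix.mul_assoc, ih, Matrix.mul_assoc, h, ← Matrix.mul_assoc, ← pow_succ]
  have h0 : B ^ k * U = 0 := by rw [← e, hk, Matrix.mul_zero]
  obtain ⟨v, hv⟩ := hB.pow k
  calc U = (((v⁻¹ : (Matrix ι ι F)ˣ) : Matrix ι ι F) * (v : Matrix ι ι F)) * U := by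
        rw [Units.inv_mul, Matrix.one_mul]
    _ = ((v⁻¹ : (Matrix ι ι F)ˣ) : Matrix ι ι F) * (B ^ k * U) := by rw [hv, Matrix.mul_assoc]
    _ = 0 := by rw [h0, Matrix.mul_zero]

theorem unit_of_nil {N : Matrix ι ι F} (hN : IsNilpotent N) : IsUnit (-1 - Nᵀ) := by
  have h1 : IsNilpotent Nᵀ := by
    obtain ⟨k, hk⟩ := hN
    exact ⟨k, by rw [← transpose_pow, hk, transpose_zero]⟩
  have h2 : (-1 - Nᵀ) = -(1 + Nᵀ) := by abel
  rw [h2]
  exact (IsNilpotent.isUnit_one_add h1).neg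

end

theorem lag (hL : LagAdaptStmt.{u}) : LagStmt.{u} := by
  intro F _ _ ι _ _
  classical
  choose hX hXs NX hNX hXeq using fun (X : ANSet (Matrix.J ι F)) => hL F ι X.1 X.2
  have hXeq' : ∀ X : ANSet (Matrix.J ι F), X.1 * hX X = hX X * bN (NX X) := hXeq
  obtain ⟨Ψ, hΨ⟩ : ∃ Ψ : ↥(ANSet (Matrix.J ι F)) × GL ι F →
      ↥(SpSet (Matrix.J ι F)) × {N : Matrix ι ι F // IsNilpotent N},
      ∀ p, ((Ψ p).1 : Matrix (ι ⊕ ι) (ι ⊕ ι) F) = hX p.1 * dP p.2 ∧
        ((Ψ p).2 : Matrix ι ι F)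
          = ((p.2⁻¹ : GL ι F) : Matrix ι ι F) * NX p.1 * (p.2 : Matrix ι ι F) :=
    ⟨fun p => (⟨hX p.1 * dP p.2, symp_mul (hXs p.1) (dP_symp p.2)⟩,
      ⟨((p.2⁻¹ : GL ι F) : Matrix ι ι F) * NX p.1 * (p.2 : Matrix ι ι F),
        nil_conj p.2 (hNX p.1)⟩), fun p => ⟨rfl, rfl⟩⟩
  have hf : ∀ p, ((Ψ p).1 : Matrix (ι ⊕ ι) (ι ⊕ ι) F) * bN ((Ψ p).2 : Matrix ι ι F)
      * sInv ((Ψ p).1 : Matrix (ι ⊕ ι) (ι ⊕ ι) F) = (p.1 : Matrix (ι ⊕ ι) (ι ⊕ ι) F) := by
    rintro ⟨X, P⟩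
    rw [(hΨ (X, P)).1, (hΨ (X, P)).2]
    show hX X * dP P * bN (((P⁻¹ : GL ι F) : Matrix ι ι F) * NX X * (P : Matrix ι ι F))
      * sInv (hX X * dP P) = X.1
    rw [Matrix.mul_assoc (hX X), dP_mul_bN, ← Matrix.mul_assoc, ← hXeq' X, Matrix.mul_assoc,
      Matrix.mul_assoc, ← Matrix.mul_assoc (hX X), mul_sInv (symp_mul (hXs X) (dP_symp P)),
      Matrix.mul_one]
  have hinj : Function.Injective Ψ := by
    rintro ⟨X, P⟩ ⟨X', P'⟩ hE
    have h1 : X = X' := by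
      apply Subtype.ext
      rw [← hf (X, P), ← hf (X', P'), hE]
    subst h1
    have h2 : hX X * dP P = hX X * dP P' := by
      rw [← (hΨ (X, P)).1, ← (hΨ (X, P')).1, hE]
    have h3 : dP P = dP P' := by
      have h4 := congrArg (fun m => sInv (hX X) * m) h2
      simp only [← Matrix.mul_assoc, sInv_mul (hXs X), Matrix.one_mul] at h4
      exact h4
    have h5 : (P : Matrix ι ι F) = P' := (Matrix.fromBlocks_inj.mp h3).1
    rw [Prod.mk.injEq]
    exact ⟨rfl, Units.ext h5⟩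
  have hsurj : Function.Surjective Ψ := by
    rintro ⟨⟨h, hh⟩, ⟨N, hN⟩⟩
    have hh' : hᵀ * Matrix.J ι F * h = Matrix.J ι F := hh
    obtain ⟨X, hXdef⟩ : ∃ X : ↥(ANSet (Matrix.J ι F)), X.1 = h * bN N * sInv h :=
      ⟨⟨_, conj_mem hh' (bN_mem hN)⟩, rfl⟩
    obtain ⟨d, hd⟩ : ∃ d, d = sInv (hX X) * h := ⟨_, rfl⟩
    have hds : dᵀ * Matrix.J ι F * d = Matrix.J ι F := by
      rw [hd]; exact symp_mul (sInv_symp (hXs X)) hh'
    have hXh : X.1 * h = h * bN N := by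
      rw [hXdef, Matrix.mul_assoc, sInv_mul hh', Matrix.mul_one]
    have hcomm : d * bN N = bN (NX X) * d := by
      calc d * bN N = sInv (hX X) * (X.1 * h) := by rw [hd, hXh, Matrix.mul_assoc]
        _ = sInv (hX X) * (X.1 * hX X) * (sInv (hX X) * h) := by
            rw [Matrix.mul_assoc, Matrix.mul_assoc X.1, ← Matrix.mul_assoc (hX X),
              mul_sInv (hXs X), Matrix.one_mul]
        _ = bN (NX X) * d := by
            rw [hXeq' X, ← Matrix.mul_assoc (sInv (hX X)), sInv_mul (hXs X), Matrix.one_mul, hd]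
    obtain ⟨d₁, d₁₂, d₂₁, d₂, hdb⟩ : ∃ d₁ d₁₂ d₂₁ d₂, d = fromBlocks d₁ d₁₂ d₂₁ d₂ :=
      ⟨_, _, _, _, (fromBlocks_toBlocks d).symm⟩
    rw [hdb] at hcomm hds
    unfold bN at hcomm
    rw [fromBlocks_multiply, fromBlocks_multiply, fromBlocks_inj] at hcomm
    simp only [Matrix.mul_zero, Matrix.zero_mul, add_zero, zero_add] at hcomm
    obtain ⟨c11, c12, c21, -⟩ := hcomm
    have hd12 : d₁₂ = 0 := zero_of_nil_unit (hNX X) (unit_of_nil hN) c12.symm
    have hd21 : d₂₁ = 0 := zero_of_nil_unit' hN (unit_of_nil (hNX X)) c21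
    subst hd12 hd21
    unfold Matrix.J at hds
    rw [fromBlocks_transpose, fromBlocks_multiply, fromBlocks_multiply, fromBlocks_inj] at hds
    simp only [transpose_zero, Matrix.mul_zero, Matrix.zero_mul, zero_add, add_zero,
      Matrix.mul_neg, Matrix.mul_one, Matrix.neg_mul] at hds
    obtain ⟨-, -, hP, -⟩ := hds
    obtain ⟨P, hP1, hP2⟩ : ∃ P : GL ι F, (P : Matrix ι ι F) = d₁ ∧
        ((P⁻¹ : GL ι F) : Matrix ι ι F) = d₂ᵀ :=
      ⟨⟨d₁, d₂ᵀ, mul_eq_one_comm.mp hP, hP⟩, rfl, rfl⟩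
    refine ⟨(X, P), ?_⟩
    apply Prod.ext
    · apply Subtype.ext
      rw [(hΨ (X, P)).1]
      show hX X * dP P = h
      have h6 : dP P = d := by
        rw [hdb]; unfold dP; rw [hP1, hP2, transpose_transpose]
      rw [h6, hd, ← Matrix.mul_assoc, mul_sInv (hXs X), Matrix.one_mul]
    · apply Subtype.ext
      rw [(hΨ (X, P)).2]
      show ((P⁻¹ : GL ι F) : Matrix ι ι F) * NX X * (P : Matrix ι ι F) = N
      rw [hP1, hP2, Matrix.mul_assoc, ← c11, ← Matrix.mul_assoc, hP, Matrix.one_mul]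
  have hcard := Nat.card_congr (Equiv.ofBijective Ψ ⟨hinj, hsurj⟩)
  rw [Nat.card_prod, Nat.card_prod] at hcard
  exact hcard

example (hL : LagAdaptStmt.{u}) : LagStmt.{u} := lag hL

end Cfsg.Agent.H84.SpU
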