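import Mathlib
import Cfsg.Agent.H42.SqDefs
import Cfsg.Agent.H27.Rad

/-!
# S2945, piece COMM (helper84)

Abstract core: two automorphisms of order dividing 3 of a commutative group of exponent 2, each with
commutator subgroup of order 4, which generate a 3-group, commute.
-/

set_option autoImplicit false
open Cfsg
open scoped commutatorElement

namespace Cfsg.Agent.H84.Sq

universe u

section abs

variable {V : Type u} [Group V]

/-- `v ↦ v⁻¹ * f v` as a homomorphism (for commutative `V`). -/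
def cHom (hc : ∀ a b : V, a * b = b * a) (f : MulAut V) : V →* V where
  toFun v := v⁻¹ * f v
  map_one' := by simp
  map_mul' a b := by
    have h1 : (a * b)⁻¹ = a⁻¹ * b⁻¹ := by rw [mul_inv_rev, hc]
    rw [map_mul, h1]
    calc a⁻¹ * b⁻¹ * (f a * f b) = a⁻¹ * (b⁻¹ * f a) * f b := by group
      _ = a⁻¹ * (f a * b⁻¹) * f b := by rw [hc b⁻¹ (f a)]
      _ = a⁻¹ * f a * (b⁻¹ * f b) := by group

/-- The commutator subgroup `[V, f]`. -/
def cW (hc : ∀ a b : V, a * b = b * a) (f : MulAut V) : Subgroup V := (cHom hc f).range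

theorem mem_cW (hc : ∀ a b : V, a * b = b * a) (f : MulAut V) (v : V) :
    v⁻¹ * f v ∈ cW hc f := ⟨v, rfl⟩

theorem mem_cW_iff (hc : ∀ a b : V, a * b = b * a) (f : MulAut V) (w : V) :
    w ∈ cW hc f ↔ ∃ v, v⁻¹ * f v = w := Iff.rfl

/-- Automorphisms acting trivially modulo `W`. -/
def triv (W : Subgroup V) : Subgroup (MulAut V) where
  carrier := {f | ∀ v, v⁻¹ * f v ∈ W}
  one_mem' := fun v => by simp
  mul_mem' := fun {f g} hf hg v => by
    have : v⁻¹ * (f * g) v = (v⁻¹ * g v) * ((g v)⁻¹ * f (g v)) := by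
      rw [MulAut.mul_apply]; group
    rw [this]; exact mul_mem (hg v) (hf (g v))
  inv_mem' := fun {f} hf v => by
    have h := hf (f⁻¹ v)
    have : v⁻¹ * f⁻¹ v = ((f⁻¹ v)⁻¹ * f (f⁻¹ v))⁻¹ := by
      rw [MulAut.apply_inv_self]; group
    rw [this]; exact inv_mem h

theorem mem_triv (W : Subgroup V) (f : MulAut V) : f ∈ triv W ↔ ∀ v, v⁻¹ * f v ∈ W := Iff.rfl

theorem self_mem_triv (hc : ∀ a b : V, a * b = b * a) (f : MulAut V) : f ∈ triv (cW hc f) :=
  fun v => mem_cW hc f v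

theorem triv_apply_mem {W U : Subgroup V} {f : MulAut V} (hf : f ∈ triv W) (hWU : W ≤ U)
    {u : V} (hu : u ∈ U) : f u ∈ U := by
  have : f u = u * (u⁻¹ * f u) := by group
  rw [this]; exact mul_mem hu (hWU (hf u))

/-- Stabilizer of a subgroup. -/
def stab (U : Subgroup V) : Subgroup (MulAut V) where
  carrier := {f | ∀ u, u ∈ U ↔ f u ∈ U}
  one_mem' := fun u => by simp
  mul_mem' := fun {f g} hf hg u => by
    rw [MulAut.mul_apply]; exact (hg u).trans (hf (g u))
  inv_mem' := fun {f} hf u => by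
    have := hf (f⁻¹ u)
    rw [MulAut.apply_inv_self] at this
    exact this.symm

theorem cube_apply {x : MulAut V} (hx3 : x ^ 3 = 1) (v : V) : x (x (x v)) = v := by
  have := congrArg (fun f : MulAut V => f v) hx3
  simpa [pow_succ, MulAut.mul_apply] using this

/-- `x` is fixed-point-free on `[V, x]`. -/
theorem fpf (hc : ∀ a b : V, a * b = b * a) (h2 : ∀ v : V, v * v = 1) {x : MulAut V}
    (hx3 : x ^ 3 = 1) {w : V} (hw : w ∈ cW hc x) (hfix : x w = w) : w = 1 := by
  obtain ⟨v, rfl⟩ := hw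
  have hx3v := cube_apply hx3 v
  have key : (v⁻¹ * x v) * x (v⁻¹ * x v) * x (x (v⁻¹ * x v)) = 1 := by
    simp only [map_mul, map_inv]
    rw [hx3v]; group
  change x (v⁻¹ * x v) = v⁻¹ * x v at hfix
  rw [hfix, hfix, h2, one_mul] at key
  exact key

theorem map_cW_of_comm (hc : ∀ a b : V, a * b = b * a) {x g : MulAut V} (hgx : g * x = x * g)
    {w : V} (hw : w ∈ cW hc x) : g w ∈ cW hc x := by
  obtain ⟨v, rfl⟩ := hw
  refine ⟨g v, ?_⟩
  change (g v)⁻¹ * x (g v) = g (v⁻¹ * x v)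
  have h1 : x (g v) = g (x v) := by
    have := congrArg (fun f : MulAut V => f v) hgx
    simpa [MulAut.mul_apply] using this.symm
  rw [h1, map_mul, map_inv]

theorem cW_conj (hc : ∀ a b : V, a * b = b * a) (x g : MulAut V) :
    cW hc (g * x * g⁻¹) = (cW hc x).map g.toMonoidHom := by
  ext w
  constructor
  · rintro ⟨v, rfl⟩
    refine ⟨(g⁻¹ v)⁻¹ * x (g⁻¹ v), mem_cW hc x _, ?_⟩
    change g ((g⁻¹ v)⁻¹ * x (g⁻¹ v)) = v⁻¹ * (g * x * g⁻¹) v
    simp [MulAut.mul_apply]
  · rintro ⟨w', ⟨v, rfl⟩, rfl⟩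
    refine ⟨g v, ?_⟩
    change (g v)⁻¹ * (g * x * g⁻¹) (g v) = g (v⁻¹ * x v)
    simp [MulAut.mul_apply]

theorem card_cW_conj [Finite V] (hc : ∀ a b : V, a * b = b * a) (x g : MulAut V) :
    Nat.card (cW hc (g * x * g⁻¹)) = Nat.card (cW hc x) := by
  rw [cW_conj]
  exact Subgroup.card_map_of_injective g.injective

theorem five_le {α : Type u} (W : Set α) [Finite W] (a b c d e : α) (ha : a ∈ W) (hb : b ∈ W)
    (hc' : c ∈ W) (hd : d ∈ W) (he : e ∈ W) (hab : a ≠ b) (hac : a ≠ c) (had : a ≠ d)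
    (hae : a ≠ e) (hbc : b ≠ c) (hbd : b ≠ d) (hbe : b ≠ e) (hcd : c ≠ d) (hce : c ≠ e)
    (hde : d ≠ e) : 5 ≤ Nat.card W := by
  classical
  have hS : ({a, b, c, d, e} : Finset α).card = 5 := by
    rw [Finset.card_insert_of_notMem (by simp [hab, hac, had, hae]),
      Finset.card_insert_of_notMem (by simp [hbc, hbd, hbe]),
      Finset.card_insert_of_notMem (by simp [hcd, hce]),
      Finset.card_insert_of_notMem (by simp [hde]), Finset.card_singleton]
  have hsub : ((({a, b, c, d, e} : Finset α)) : Set α) ⊆ W := by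
    intro t ht
    simp only [Finset.coe_insert, Finset.coe_singleton, Set.mem_insert_iff,
      Set.mem_singleton_iff] at ht
    rcases ht with rfl | rfl | rfl | rfl | rfl <;> assumption
  have h1 := Set.ncard_le_ncard hsub (Set.toFinite W)
  rw [Set.ncard_coe_finset, hS, ← Nat.card_coe_set_eq] at h1
  exact h1

theorem pow_mod3 {x : MulAut V} (hx3 : x ^ 3 = 1) (i : ℕ) : x ^ i = x ^ (i % 3) := by
  conv_lhs => rw [← Nat.div_add_mod i 3]
  rw [pow_add, pow_mul, hx3, one_pow, one_mul]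

/-- Cancellation: `a * r = a' * r'` with `a, a' ∈ W` (`x` fixed-point-free on `W`) and `r, r'`
fixed by `x`. -/
theorem cancel_fix {x : MulAut V} {W : Subgroup V} (hfpf : ∀ w ∈ W, x w = w → w = 1)
    {a a' r r' : V} (ha : a ∈ W) (ha' : a' ∈ W) (hr : x r = r) (hr' : x r' = r')
    (h : a * r = a' * r') : a = a' := by
  have ht : a'⁻¹ * a = r' * r⁻¹ := by
    have h1 : a'⁻¹ * a = a'⁻¹ * (a * r) * r⁻¹ := by group
    rw [h1, h]; group
  have hfix : x (a'⁻¹ * a) = a'⁻¹ * a := by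
    rw [ht, map_mul, map_inv, hr, hr']
  have := hfpf _ (mul_mem (inv_mem ha') ha) hfix
  exact (inv_mul_eq_one.mp this).symm

end abs

section abs2

variable {V : Type u} [Group V] [Finite V]

theorem enum4 (hc : ∀ a b : V, a * b = b * a) (h2 : ∀ v : V, v * v = 1) {x : MulAut V}
    (hx3 : x ^ 3 = 1) (hWx : Nat.card (cW hc x) = 4) {w0 : V} (hw0 : w0 ∈ cW hc x)
    (hw01 : w0 ≠ 1) : ∀ w ∈ cW hc x, w = 1 ∨ w = w0 ∨ w = x w0 ∨ w = x (x w0) := by
  intro w hw
  by_contra hcon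
  push_neg at hcon
  obtain ⟨hn1, hn2, hn3, hn4⟩ := hcon
  have hxw0 : x w0 ∈ cW hc x := map_cW_of_comm hc rfl hw0
  have hxxw0 : x (x w0) ∈ cW hc x := map_cW_of_comm hc rfl hxw0
  have d1 : x w0 ≠ w0 := fun h => hw01 (fpf hc h2 hx3 hw0 h)
  have d2 : x (x w0) ≠ w0 := fun h => d1 (by
    have := congrArg x h
    rw [cube_apply hx3] at this
    exact this.symm)
  have d3 : x (x w0) ≠ x w0 := fun h => d1 (x.injective h)
  have d4 : x w0 ≠ 1 := fun h => hw01 (by
    have : x w0 = x 1 := by rw [h, map_one]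
    exact x.injective this)
  have d5 : x (x w0) ≠ 1 := fun h => d4 (by
    have : x (x w0) = x 1 := by rw [h, map_one]
    exact x.injective this)
  have h5 := five_le (cW hc x : Set V) 1 w0 (x w0) (x (x w0)) w (one_mem _) hw0 hxw0 hxxw0 hw
    (Ne.symm hw01) (Ne.symm d4) (Ne.symm d5) (Ne.symm hn1) (Ne.symm d1) (Ne.symm d2)
    (Ne.symm hn2) (Ne.symm d3) (Ne.symm hn3) (Ne.symm hn4)
  have h5' : 5 ≤ Nat.card (cW hc x) := h5
  omega

theorem orth_aux (hc : ∀ a b : V, a * b = b * a) (h2 : ∀ v : V, v * v = 1) {x y : MulAut V}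
    (hxy : x * y = y * x) (hx3 : x ^ 3 = 1) (hy3 : y ^ 3 = 1)
    (hWx : Nat.card (cW hc x) = 4) (hWy : Nat.card (cW hc y) = 4)
    (hne : ∀ i : ℕ, y ≠ x ^ i) : ∀ w ∈ cW hc x, y w = w := by
  have hex : ∃ w0 ∈ cW hc x, w0 ≠ 1 := by
    by_contra hcon
    push_neg at hcon
    have : cW hc x = ⊥ := (Subgroup.eq_bot_iff_forall _).2 hcon
    rw [this, Subgroup.card_bot] at hWx
    omega
  obtain ⟨w0, hw0, hw01⟩ := hex
  have henum := enum4 hc h2 hx3 hWx hw0 hw01
  have hyx : y * x = x * y := hxy.symm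
  have hyw0 : y w0 ∈ cW hc x := map_cW_of_comm hc hyx hw0
  have hyw01 : y w0 ≠ 1 := fun h => hw01 (by
    have : y w0 = y 1 := by rw [h, map_one]
    exact y.injective this)
  have hi : ∃ i : ℕ, i < 3 ∧ y w0 = (x ^ i) w0 := by
    rcases henum _ hyw0 with h | h | h | h
    · exact absurd h hyw01
    · exact ⟨0, by norm_num, by simpa using h⟩
    · exact ⟨1, by norm_num, by simpa using h⟩
    · exact ⟨2, by norm_num, by simpa [pow_succ, MulAut.mul_apply] using h⟩
  obtain ⟨i, hi3, hi⟩ := hi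
  have hcomm_xi_y : Commute (x ^ i) y := (show Commute x y from hxy).pow_left i
  obtain ⟨z, hz⟩ : ∃ z : MulAut V, z = (x ^ i)⁻¹ * y := ⟨_, rfl⟩
  have hzx : z * x = x * z := by
    have h1 : Commute ((x ^ i)⁻¹) x := ((Commute.refl x).pow_left i).inv_left
    have h2' : Commute y x := (show Commute x y from hxy).symm
    rw [hz]
    exact (h1.mul_left h2').eq
  have hzw0 : z w0 = w0 := by
    rw [hz, MulAut.mul_apply, hi, MulAut.inv_apply_self]
  have hzxv : ∀ v, z (x v) = x (z v) := fun v => by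
    have := congrArg (fun f : MulAut V => f v) hzx
    simpa [MulAut.mul_apply] using this
  have hzfix : ∀ w ∈ cW hc x, z w = w := by
    intro w hw
    rcases henum w hw with rfl | rfl | rfl | rfl
    · exact map_one z
    · exact hzw0
    · rw [hzxv, hzw0]
    · rw [hzxv, hzxv, hzw0]
  by_cases hi0 : i = 0
  · subst hi0
    have : z = y := by rw [hz]; simp
    rw [this] at hzfix
    exact hzfix
  · exfalso
    have hxi_fpf : ∀ u ∈ cW hc x, (x ^ i) u = u → u = 1 := by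
      intro u hu hfix
      have hi12 : i = 1 ∨ i = 2 := by omega
      rcases hi12 with rfl | rfl
      · exact fpf hc h2 hx3 hu (by simpa using hfix)
      · have h' : x (x u) = u := by simpa [pow_succ, MulAut.mul_apply] using hfix
        refine fpf hc h2 hx3 hu ?_
        have := congrArg x h'
        rw [cube_apply hx3] at this
        exact this.symm
    have hxi_triv : x ^ i ∈ triv (cW hc x) := pow_mem (self_mem_triv hc x) i
    have hy_on : ∀ w ∈ cW hc x, y w = (x ^ i) w := by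
      intro w hw
      have := hzfix w hw
      rw [hz, MulAut.mul_apply] at this
      have h3 := congrArg (x ^ i) this
      rw [MulAut.apply_inv_self] at h3
      exact h3
    have hle : cW hc x ≤ cW hc y := by
      have hinj : Function.Injective ((cHom hc (x ^ i)).comp (cW hc x).subtype) := by
        rw [injective_iff_map_eq_one]
        intro u hu
        have hu' : (u : V)⁻¹ * (x ^ i) (u : V) = 1 := hu
        have : (x ^ i) (u : V) = u := by
          have := congrArg (fun t => (u : V) * t) hu'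
          simpa using this
        exact Subtype.ext (hxi_fpf u u.2 this)
      have hcard : Nat.card ((cHom hc (x ^ i)).comp (cW hc x).subtype).range = 4 := by
        rw [← hWx]
        exact (Nat.card_congr (MonoidHom.ofInjective hinj).toEquiv).symm
      have hrange_le : ((cHom hc (x ^ i)).comp (cW hc x).subtype).range ≤ cW hc x := by
        rintro _ ⟨u, rfl⟩
        exact hxi_triv (u : V)
      have hrange_eq : ((cHom hc (x ^ i)).comp (cW hc x).subtype).range = cW hc x :=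
        Subgroup.eq_of_le_of_card_ge hrange_le (by rw [hcard, hWx])
      rw [← hrange_eq]
      rintro _ ⟨u, rfl⟩
      refine ⟨(u : V), ?_⟩
      change (u : V)⁻¹ * y (u : V) = (u : V)⁻¹ * (x ^ i) (u : V)
      rw [hy_on u u.2]
    have hWeq : cW hc x = cW hc y := Subgroup.eq_of_le_of_card_ge hle (by rw [hWx, hWy])
    have hy_triv : y ∈ triv (cW hc x) := by rw [hWeq]; exact self_mem_triv hc y
    have hz_triv : z ∈ triv (cW hc x) := by
      rw [hz]; exact mul_mem (inv_mem hxi_triv) hy_triv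
    have hz3 : z ^ 3 = 1 := by
      have hcm : Commute ((x ^ i)⁻¹) y := hcomm_xi_y.inv_left
      rw [hz, hcm.mul_pow, hy3, mul_one, inv_pow, ← pow_mul, mul_comm, pow_mul, hx3, one_pow,
        inv_one]
    have hz1 : z = 1 := by
      ext v
      have hu : v⁻¹ * z v ∈ cW hc x := hz_triv v
      obtain ⟨t, ht⟩ : ∃ t : V, t = v⁻¹ * z v := ⟨_, rfl⟩
      rw [← ht] at hu
      have hzv : z v = v * t := by rw [ht]; group
      have hzt : z t = t := hzfix t hu
      have h3 := cube_apply hz3 v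
      simp only [hzv, hzt, map_mul] at h3
      rw [mul_assoc v t t, h2 t, mul_one] at h3
      have ht1 : t = 1 := by simpa using h3
      rw [MulAut.one_apply, hzv, ht1, mul_one]
    have : y = x ^ i := by
      have h4 : (x ^ i) * z = y := by rw [hz]; group
      rw [← h4, hz1, mul_one]
    exact hne i this

theorem orth (hc : ∀ a b : V, a * b = b * a) (h2 : ∀ v : V, v * v = 1) {x y : MulAut V}
    (hxy : x * y = y * x) (hx3 : x ^ 3 = 1) (hy3 : y ^ 3 = 1)
    (hWx : Nat.card (cW hc x) = 4) (hWy : Nat.card (cW hc y) = 4)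
    (hne : ∀ i : ℕ, y ≠ x ^ i) :
    (∀ w ∈ cW hc x, y w = w) ∧ (∀ w ∈ cW hc y, x w = w) := by
  refine ⟨orth_aux hc h2 hxy hx3 hy3 hWx hWy hne, orth_aux hc h2 hxy.symm hy3 hx3 hWy hWx ?_⟩
  intro i hi
  rw [pow_mod3 hy3] at hi
  have h3 : i % 3 = 0 ∨ i % 3 = 1 ∨ i % 3 = 2 := by omega
  rcases h3 with h | h | h <;> rw [h] at hi
  · rw [pow_zero] at hi
    have : cW hc x = ⊥ := by
      refine (Subgroup.eq_bot_iff_forall _).2 ?_
      rintro w ⟨v, rfl⟩
      rw [hi]
      simp [cHom]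
    rw [this, Subgroup.card_bot] at hWx
    omega
  · rw [pow_one] at hi
    exact hne 1 (by rw [pow_one, hi])
  · have h4 : y ^ 4 = y := by rw [pow_succ, hy3, one_mul]
    exact hne 2 (by rw [hi, ← pow_mul]; exact h4.symm)

/-- Core: two automorphisms of order dividing 3 with commutator of order 4 generating a 3-group
commute. -/
theorem comm_core (hc : ∀ a b : V, a * b = b * a) (h2 : ∀ v : V, v * v = 1) (x y : MulAut V)
    (hx3 : x ^ 3 = 1) (hy3 : y ^ 3 = 1)
    (hWx : Nat.card (cW hc x) = 4) (hWy : Nat.card (cW hc y) = 4)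
    (hP : IsPGroup 3 (Subgroup.closure ({x, y} : Set (MulAut V)))) : x * y = y * x := by
  by_contra hxy
  haveI : Fact (Nat.Prime 3) := ⟨by norm_num⟩
  obtain ⟨R, hR⟩ : ∃ R : Subgroup (MulAut V), R = Subgroup.closure ({x, y} : Set (MulAut V)) :=
    ⟨_, rfl⟩
  rw [← hR] at hP
  have hxR : x ∈ R := by rw [hR]; exact Subgroup.subset_closure (by simp)
  have hyR : y ∈ R := by rw [hR]; exact Subgroup.subset_closure (by simp)
  let m : ↥(cW hc x) × ↥(cW hc y) →* V :=
    { toFun := fun p => (p.1 : V) * (p.2 : V)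
      map_one' := by simp
      map_mul' := fun p q => by
        show ((p.1 : V) * (q.1 : V)) * ((p.2 : V) * (q.2 : V)) = _
        calc (p.1 : V) * q.1 * (p.2 * q.2) = p.1 * (q.1 * p.2) * q.2 := by group
          _ = p.1 * (p.2 * q.1) * q.2 := by rw [hc (q.1 : V) (p.2 : V)]
          _ = p.1 * p.2 * (q.1 * q.2) := by group }
  obtain ⟨U, hU⟩ : ∃ U : Subgroup V, U = m.range := ⟨_, rfl⟩
  have hUcard : Nat.card U ≤ 16 := by
    have h1 : Nat.card m.range ∣ Nat.card (↥(cW hc x) × ↥(cW hc y)) := Subgroup.card_range_dvd m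
    rw [Nat.card_prod, hWx, hWy] at h1
    rw [hU]
    exact Nat.le_of_dvd (by norm_num) h1
  have hWxU : cW hc x ≤ U := fun w hw => by
    rw [hU]; exact ⟨(⟨w, hw⟩, 1), by simp [m]⟩
  have hWyU : cW hc y ≤ U := fun w hw => by
    rw [hU]; exact ⟨(1, ⟨w, hw⟩), by simp [m]⟩
  have hstab : ∀ f : MulAut V, f ^ 3 = 1 → cW hc f ≤ U → f ∈ stab U := by
    intro f hf3 hfU u
    constructor
    · intro hu; exact triv_apply_mem (self_mem_triv hc f) hfU hu
    · intro hu
      have h1 := triv_apply_mem (self_mem_triv hc f) hfU hu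
      have h2' := triv_apply_mem (self_mem_triv hc f) hfU h1
      rwa [cube_apply hf3] at h2'
  have hRstab : R ≤ stab U := by
    rw [hR, Subgroup.closure_le]
    intro f hf
    rw [Set.mem_insert_iff, Set.mem_singleton_iff] at hf
    rcases hf with hf | hf <;> rw [hf]
    · exact hstab _ hx3 hWxU
    · exact hstab _ hy3 hWyU
  haveI : Group.IsNilpotent R := hP.isNilpotent
  obtain ⟨xR, hxRdef⟩ : ∃ xR : R, (xR : MulAut V) = x := ⟨⟨x, hxR⟩, rfl⟩
  obtain ⟨yR, hyRdef⟩ : ∃ yR : R, (yR : MulAut V) = y := ⟨⟨y, hyR⟩, rfl⟩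
  obtain ⟨D, hD⟩ : ∃ D : Subgroup R, D = Subgroup.centralizer {xR} := ⟨_, rfl⟩
  have hmemD : ∀ h : R, h ∈ D ↔ x * (h : MulAut V) = (h : MulAut V) * x := by
    intro h
    rw [hD, Subgroup.mem_centralizer_iff]
    constructor
    · intro e
      have := congrArg Subtype.val (e xR (Set.mem_singleton _))
      rw [Subgroup.coe_mul, Subgroup.coe_mul, hxRdef] at this
      exact this
    · intro e t ht
      rw [Set.mem_singleton_iff.mp ht]
      apply Subtype.ext
      rw [Subgroup.coe_mul, Subgroup.coe_mul, hxRdef]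
      exact e
  have hDlt : D < ⊤ := by
    rw [lt_top_iff_ne_top]
    intro hDtop
    have : yR ∈ D := by rw [hDtop]; trivial
    rw [hmemD, hyRdef] at this
    exact hxy this
  have hN := Group.normalizerCondition_of_isNilpotent D hDlt
  obtain ⟨g, hgN, hgD⟩ := SetLike.exists_of_lt hN
  have hsq : ∀ h : R, h * h ∈ D → h ∈ D := by
    intro h hh
    obtain ⟨k, hk⟩ := hP h
    obtain ⟨m', hm'⟩ : ∃ m', 3 ^ k + 1 = 2 * m' := by
      have : Odd (3 ^ k) := Odd.pow (by decide)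
      obtain ⟨j, hj⟩ := this
      exact ⟨j + 1, by omega⟩
    have : h = (h * h) ^ m' := by
      rw [← pow_two, ← pow_mul, ← hm', pow_succ, hk, one_mul]
    rw [this]; exact pow_mem hh _
  have hx1 : x ≠ 1 := by
    intro h; apply hxy; rw [h]; simp
  have hkey : ∀ h : R, ∀ i : ℕ, (h : MulAut V) * x * (h : MulAut V)⁻¹ = x ^ i → h ∈ D := by
    intro h i hi
    rw [pow_mod3 hx3] at hi
    have h3 : i % 3 = 0 ∨ i % 3 = 1 ∨ i % 3 = 2 := by omega
    rcases h3 with h0 | h0 | h0 <;> rw [h0] at hi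
    · exfalso; apply hx1
      rw [pow_zero] at hi
      have : x = (h : MulAut V)⁻¹ * ((h : MulAut V) * x * (h : MulAut V)⁻¹) * (h : MulAut V) := by
        group
      rw [this, hi]; group
    · rw [pow_one] at hi
      rw [hmemD]
      have : (h : MulAut V) * x = x * (h : MulAut V) := by
        calc (h : MulAut V) * x
            = ((h : MulAut V) * x * (h : MulAut V)⁻¹) * (h : MulAut V) := by group
          _ = x * (h : MulAut V) := by rw [hi]
      exact this.symm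
    · apply hsq
      rw [hmemD]
      have e1 : (h : MulAut V) * x ^ 2 * (h : MulAut V)⁻¹ = x ^ 4 := by
        have := congrArg (fun t => t ^ 2) hi
        simp only [conj_pow] at this
        rw [this]; exact (pow_mul x 2 2).symm
      have e2 : x ^ 4 = x := by rw [pow_succ, hx3, one_mul]
      rw [Subgroup.coe_mul]
      have : (h : MulAut V) * (h : MulAut V) * x = x * ((h : MulAut V) * (h : MulAut V)) := by
        calc (h : MulAut V) * (h : MulAut V) * x
            = (h : MulAut V) * ((h : MulAut V) * x * (h : MulAut V)⁻¹) * (h : MulAut V) := by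
              group
          _ = (h : MulAut V) * x ^ 2 * (h : MulAut V) := by rw [hi]
          _ = ((h : MulAut V) * x ^ 2 * (h : MulAut V)⁻¹) *
                ((h : MulAut V) * (h : MulAut V)) := by group
          _ = x * ((h : MulAut V) * (h : MulAut V)) := by rw [e1, e2]
      exact this.symm
  obtain ⟨γ, hγ⟩ : ∃ γ : MulAut V, γ = (g : MulAut V) := ⟨_, rfl⟩
  have hgU : γ ∈ stab U := by rw [hγ]; exact hRstab g.2
  obtain ⟨x1, hx1def⟩ : ∃ x1 : MulAut V, x1 = γ * x * γ⁻¹ := ⟨_, rfl⟩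
  obtain ⟨x2, hx2def⟩ : ∃ x2 : MulAut V, x2 = γ * x1 * γ⁻¹ := ⟨_, rfl⟩
  have hxD : xR ∈ D := by rw [hmemD, hxRdef]
  have hx1D : g * xR * g⁻¹ ∈ D := (Subgroup.mem_normalizer_iff.mp hgN xR).mp hxD
  have hx2D : g * (g * xR * g⁻¹) * g⁻¹ ∈ D := (Subgroup.mem_normalizer_iff.mp hgN _).mp hx1D
  have c01 : x * x1 = x1 * x := by
    have := (hmemD _).mp hx1D
    simp only [Subgroup.coe_mul, Subgroup.coe_inv, hxRdef, ← hγ, ← hx1def] at this
    exact this
  have c02 : x * x2 = x2 * x := by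
    have := (hmemD _).mp hx2D
    simp only [Subgroup.coe_mul, Subgroup.coe_inv, hxRdef, ← hγ, ← hx1def, ← hx2def] at this
    exact this
  have c12 : x1 * x2 = x2 * x1 := by
    calc x1 * x2 = γ * (x * x1) * γ⁻¹ := by rw [hx2def, hx1def]; group
      _ = γ * (x1 * x) * γ⁻¹ := by rw [c01]
      _ = x2 * x1 := by rw [hx2def, hx1def]; group
  have hx13 : x1 ^ 3 = 1 := by rw [hx1def, conj_pow, hx3]; group
  have hx23 : x2 ^ 3 = 1 := by rw [hx2def, conj_pow, hx13]; group
  have hW1 : Nat.card (cW hc x1) = 4 := by rw [hx1def, card_cW_conj, hWx]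
  have hW2 : Nat.card (cW hc x2) = 4 := by rw [hx2def, card_cW_conj, hW1]
  have hmapU : ∀ (f : MulAut V), cW hc f ≤ U → cW hc (γ * f * γ⁻¹) ≤ U := by
    intro f hf
    rw [cW_conj]
    rintro _ ⟨w, hw, rfl⟩
    exact (hgU w).mp (hf hw)
  have hW1U : cW hc x1 ≤ U := by rw [hx1def]; exact hmapU x hWxU
  have hW2U : cW hc x2 ≤ U := by rw [hx2def]; exact hmapU x1 hW1U
  have ne01 : ∀ i : ℕ, x1 ≠ x ^ i := fun i hi => hgD (hkey g i (by rw [← hγ, ← hx1def]; exact hi))
  have ne02 : ∀ i : ℕ, x2 ≠ x ^ i := by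
    intro i hi
    have : g * g ∈ D := hkey (g * g) i (by
      rw [Subgroup.coe_mul, ← hγ, ← hi, hx2def, hx1def]; group)
    exact hgD (hsq g this)
  have ne12 : ∀ i : ℕ, x2 ≠ x1 ^ i := by
    intro i hi
    apply ne01 i
    have h1 : γ * x1 * γ⁻¹ = γ * x ^ i * γ⁻¹ := by
      rw [← hx2def, hi, hx1def, conj_pow]
    have h2' : x1 = γ⁻¹ * (γ * x1 * γ⁻¹) * γ := by group
    rw [h2', h1]; group
  obtain ⟨o01, o10⟩ := orth hc h2 c01 hx3 hx13 hWx hW1 ne01
  obtain ⟨o02, o20⟩ := orth hc h2 c02 hx3 hx23 hWx hW2 ne02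
  obtain ⟨o12, o21⟩ := orth hc h2 c12 hx13 hx23 hW1 hW2 ne12
  let φ : ↥(cW hc x) × ↥(cW hc x1) × ↥(cW hc x2) → ↥U := fun p =>
    ⟨(p.1 : V) * (p.2.1 : V) * (p.2.2 : V),
      mul_mem (mul_mem (hWxU p.1.2) (hW1U p.2.1.2)) (hW2U p.2.2.2)⟩
  have hφ : Function.Injective φ := by
    rintro ⟨a, b, c⟩ ⟨a', b', c'⟩ h
    have e1 : (a : V) * b * c = a' * b' * c' := congrArg Subtype.val h
    have ha : (a : V) = a' := by
      refine cancel_fix (fun w hw => fpf hc h2 hx3 hw) a.2 a'.2 (r := (b : V) * c)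
        (r' := (b' : V) * c') ?_ ?_ ?_
      · rw [map_mul, o10 b b.2, o20 c c.2]
      · rw [map_mul, o10 b' b'.2, o20 c' c'.2]
      · rw [← mul_assoc, ← mul_assoc]; exact e1
    have e2 : (b : V) * c = b' * c' := by
      rw [ha, mul_assoc, mul_assoc] at e1
      exact mul_left_cancel e1
    have hb : (b : V) = b' :=
      cancel_fix (fun w hw => fpf hc h2 hx13 hw) b.2 b'.2 (o21 c c.2) (o21 c' c'.2) e2
    have hc' : (c : V) = c' := by
      rw [hb] at e2
      exact mul_left_cancel e2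
    exact Prod.ext (Subtype.ext ha) (Prod.ext (Subtype.ext hb) (Subtype.ext hc'))
  have h64 : Nat.card (↥(cW hc x) × ↥(cW hc x1) × ↥(cW hc x2)) = 64 := by
    rw [Nat.card_prod, Nat.card_prod, hWx, hW1, hW2]
  have := Nat.card_le_card_of_injective φ hφ
  rw [h64] at this
  omega

end abs2

section glue

variable {G : Type u} [Group G]

/-- The conjugation action of `H ≤ N_G(V)` on `V`. -/
def rho (H V : Subgroup G) (hHV : H ≤ Subgroup.normalizer (V : Set G)) : ↥H →* MulAut ↥V where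
  toFun h :=
    { toFun := fun v => ⟨(h : G) * v * (h : G)⁻¹,
        (Subgroup.mem_normalizer_iff.mp (hHV h.2) v).mp v.2⟩
      invFun := fun v => ⟨(h : G)⁻¹ * v * (h : G), by
        have := (Subgroup.mem_normalizer_iff.mp (hHV (inv_mem h.2)) v).mp v.2
        simpa using this⟩
      left_inv := fun v => by ext; simp [mul_assoc]
      right_inv := fun v => by ext; simp [mul_assoc]
      map_mul' := fun v w => by ext; simp [mul_assoc] }
  map_one' := by ext; simp
  map_mul' := fun a b => by ext; simp [mul_assoc]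

theorem rho_apply (H V : Subgroup G) (hHV : H ≤ Subgroup.normalizer (V : Set G)) (h : H)
    (v : V) : ((rho H V hHV h v : V) : G) = (h : G) * v * (h : G)⁻¹ := rfl

theorem rho_eq_one_iff (H V : Subgroup G) (hHV : H ≤ Subgroup.normalizer (V : Set G)) (h : H) :
    rho H V hHV h = 1 ↔ (h : G) ∈ Subgroup.centralizer (V : Set G) := by
  rw [Subgroup.mem_centralizer_iff]
  constructor
  · intro e v hv
    have := congrArg (fun f : MulAut V => ((f ⟨v, hv⟩ : V) : G)) e
    simp only [rho_apply, MulAut.one_apply] at this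
    calc v * (h : G) = ((h : G) * v * (h : G)⁻¹) * h := by rw [this]
      _ = h * v := by group
  · intro e
    ext v
    simp only [rho_apply, MulAut.one_apply]
    have := e v v.2
    rw [← this]; group

/-- SQ-COMM. -/
theorem comm : Cfsg.Agent.H42.Sq.StComm.{u} := by
  intro G _ _ H V K O hV hHV hKH hsn hOK hOC hidx hcard a ha
  haveI : Fact (Nat.Prime 3) := ⟨by norm_num⟩
  obtain ⟨hVc, hVe⟩ := hV
  have hc : ∀ a b : V, a * b = b * a := fun a b => hVc.is_comm.comm a b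
  have h2 : ∀ v : V, v * v = 1 := fun v => by
    have := hVe v v.2
    apply Subtype.ext
    rw [Subgroup.coe_mul, Subgroup.coe_one, ← pow_two]
    exact this
  obtain ⟨ρ, hρ⟩ : ∃ ρ : ↥H →* MulAut ↥V, ρ = rho H V hHV := ⟨_, rfl⟩
  have hρ1 : ∀ h : H, ρ h = 1 ↔ (h : G) ∈ Subgroup.centralizer (V : Set G) := by
    intro h; rw [hρ]; exact rho_eq_one_iff H V hHV h
  have hρapp : ∀ (h : H) (v : V), ((ρ h v : V) : G) = (h : G) * v * (h : G)⁻¹ := by
    intro h v; rw [hρ]; rfl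
  -- the restriction to `K`
  obtain ⟨ρK, hρK⟩ : ∃ ρK : ↥K →* MulAut ↥V, ρK = ρ.comp (Subgroup.inclusion hKH) := ⟨_, rfl⟩
  have hρKapp : ∀ (k : G) (hk : k ∈ K), ρK ⟨k, hk⟩ = ρ ⟨k, hKH hk⟩ := by
    intro k hk; rw [hρK]; rfl
  have hker : O.subgroupOf K ≤ ρK.ker := by
    intro o ho
    rw [MonoidHom.mem_ker, hρKapp o.1 o.2, hρ1]
    exact hOC (Subgroup.mem_subgroupOf.mp ho)
  have hdvd : Nat.card ρK.range ∣ 3 := by
    rw [← Subgroup.index_ker]
    have h1 := Subgroup.index_dvd_of_le hker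
    have h3 : (O.subgroupOf K).index = 3 := hidx
    rw [h3] at h1
    exact h1
  have hcard3 : Nat.card ρK.range = 3 := by
    rcases (Nat.dvd_prime Nat.prime_three).mp hdvd with h1 | h3
    · exfalso
      have hKC : K ≤ Subgroup.centralizer (V : Set G) := by
        intro k hk
        have hmem : ρK ⟨k, hk⟩ ∈ ρK.range := ⟨_, rfl⟩
        have hbot : ρK.range = ⊥ := Subgroup.card_eq_one.mp h1
        rw [hbot, Subgroup.mem_bot, hρKapp, hρ1] at hmem
        exact hmem
      have hbot : ⁅V, K⁆ = ⊥ := by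
        rw [Subgroup.commutator_eq_bot_iff_le_centralizer, Subgroup.le_centralizer_iff]
        exact hKC
      rw [hbot, Subgroup.card_bot] at hcard
      omega
    · exact h3
  have hcube : ∀ (k : G) (hk : k ∈ K), (ρ ⟨k, hKH hk⟩) ^ 3 = 1 := by
    intro k hk
    have h1 : (⟨ρK ⟨k, hk⟩, ⟨_, rfl⟩⟩ : ρK.range) ^ Nat.card ρK.range = 1 := pow_card_eq_one'
    rw [hcard3] at h1
    have h2' := congrArg Subtype.val h1
    rw [← hρKapp k hk]
    exact h2'
  -- commutator subgroups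
  have hW : ∀ (k : G) (hk : k ∈ K), ρ ⟨k, hKH hk⟩ ≠ 1 →
      Nat.card (cW hc (ρ ⟨k, hKH hk⟩)) = 4 := by
    intro k hk hne
    have hmap : (cW hc (ρ ⟨k, hKH hk⟩)).map V.subtype = ⁅V, K⁆ := by
      apply le_antisymm
      · rintro _ ⟨w, ⟨v, rfl⟩, rfl⟩
        have e : V.subtype ((cHom hc (ρ ⟨k, hKH hk⟩)) v) = ⁅(v : G)⁻¹, k⁆ := by
          show ((v⁻¹ * ρ ⟨k, hKH hk⟩ v : V) : G) = _
          rw [Subgroup.coe_mul, hρapp, commutatorElement_def]
          simp [mul_assoc]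
        rw [e]
        exact Subgroup.commutator_mem_commutator (inv_mem v.2) hk
      · rw [Subgroup.commutator_le]
        intro v hv k2 hk2
        -- ρ k2 is a power of ρ k
        have htop : Subgroup.zpowers (⟨ρK ⟨k, hk⟩, ⟨_, rfl⟩⟩ : ρK.range) = ⊤ :=
          zpowers_eq_top_of_prime_card hcard3 (by
            intro h
            apply hne
            rw [← hρKapp k hk]
            exact congrArg Subtype.val h)
        have hmem : (⟨ρK ⟨k2, hk2⟩, ⟨_, rfl⟩⟩ : ρK.range) ∈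
            Subgroup.zpowers (⟨ρK ⟨k, hk⟩, ⟨_, rfl⟩⟩ : ρK.range) := by
          rw [htop]; trivial
        obtain ⟨n, hn⟩ := Subgroup.mem_zpowers_iff.mp hmem
        have hn' : (ρ ⟨k, hKH hk⟩) ^ n = ρ ⟨k2, hKH hk2⟩ := by
          have := congrArg Subtype.val hn
          rw [← hρKapp k hk, ← hρKapp k2 hk2]
          exact this
        have htriv : ρ ⟨k2, hKH hk2⟩ ∈ triv (cW hc (ρ ⟨k, hKH hk⟩)) := by
          rw [← hn']
          exact zpow_mem (self_mem_triv hc _) n
        have hu := htriv (⟨v, hv⟩ : V)⁻¹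
        refine ⟨_, hu, ?_⟩
        show ((((⟨v, hv⟩ : V)⁻¹)⁻¹ * ρ ⟨k2, hKH hk2⟩ ((⟨v, hv⟩ : V)⁻¹) : V) : G) = _
        rw [Subgroup.coe_mul, hρapp, commutatorElement_def]
        simp [mul_assoc]
    rw [← hcard, ← hmap]
    exact (Subgroup.card_map_of_injective V.subtype_injective).symm
  -- the 3-subgroup
  obtain ⟨ρ', hρ'⟩ : ∃ ρ' : ↥H →* ↥ρ.range, ρ' = ρ.rangeRestrict := ⟨_, rfl⟩
  have hρ'coe : ∀ h : H, ((ρ' h : ρ.range) : MulAut V) = ρ h := by
    intro h; rw [hρ']; rfl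
  have hsurj : Function.Surjective ρ' := by rw [hρ']; exact ρ.rangeRestrict_surjective
  have hKbsn : ((K.subgroupOf H).map ρ').IsSubnormal := hsn.map hsurj
  have hKbp : IsPGroup 3 ((K.subgroupOf H).map ρ') := by
    rintro ⟨_, ⟨kH, hkH, rfl⟩⟩
    refine ⟨1, ?_⟩
    apply Subtype.ext
    apply Subtype.ext
    rw [pow_one]
    have := hcube (kH : G) (Subgroup.mem_subgroupOf.mp hkH)
    simp only [Subgroup.coe_pow, Subgroup.coe_one, hρ'coe]
    exact this
  have hKbP : (K.subgroupOf H).map ρ' ≤ H27.rad (fun K _ => IsPGroup 3 K) ↥ρ.range :=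
    H27.le_rad_of_subnormal (H27.isoInv_pGroup 3) (H27.radClosed_pGroup 3) hKbsn hKbp
  have hPp : IsPGroup 3 (H27.rad (fun K _ => IsPGroup 3 K) ↥ρ.range) :=
    H60.isPGroup_pCore (G := ↥ρ.range) 3
  have hPn : (H27.rad (fun K _ => IsPGroup 3 K) ↥ρ.range).Normal := inferInstance
  -- main
  rw [Subgroup.commutator_le]
  intro k hk k' hk'
  obtain ⟨k2, hk2, rfl⟩ := hk'
  have hk2a : a * k2 * a⁻¹ ∈ H := mul_mem (mul_mem ha (hKH hk2)) (inv_mem ha)
  have hcomm : ρ ⟨k, hKH hk⟩ * ρ ⟨a * k2 * a⁻¹, hk2a⟩ = ρ ⟨a * k2 * a⁻¹, hk2a⟩ * ρ ⟨k, hKH hk⟩ := by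
    have hconj : ρ ⟨a * k2 * a⁻¹, hk2a⟩ = ρ ⟨a, ha⟩ * ρ ⟨k2, hKH hk2⟩ * (ρ ⟨a, ha⟩)⁻¹ := by
      rw [← map_inv, ← map_mul, ← map_mul]; rfl
    by_cases hx1 : ρ ⟨k, hKH hk⟩ = 1
    · rw [hx1]; simp
    by_cases hy1 : ρ ⟨k2, hKH hk2⟩ = 1
    · rw [hconj, hy1]; simp
    rw [hconj]
    refine comm_core hc h2 _ _ (hcube k hk) ?_ (hW k hk hx1) ?_ ?_
    · rw [conj_pow, hcube k2 hk2]; group
    · rw [card_cW_conj]; exact hW k2 hk2 hy1
    · -- the closure is a 3-group
      have hle : Subgroup.closure ({ρ ⟨k, hKH hk⟩,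
          ρ ⟨a, ha⟩ * ρ ⟨k2, hKH hk2⟩ * (ρ ⟨a, ha⟩)⁻¹} : Set (MulAut V)) ≤
          (H27.rad (fun K _ => IsPGroup 3 K) ↥ρ.range).map ρ.range.subtype := by
        rw [Subgroup.closure_le]
        intro f hf
        rw [Set.mem_insert_iff, Set.mem_singleton_iff] at hf
        rcases hf with hf | hf <;> rw [hf]
        · refine ⟨ρ' ⟨k, hKH hk⟩, hKbP ⟨⟨k, hKH hk⟩, Subgroup.mem_subgroupOf.mpr hk, rfl⟩, ?_⟩
          exact hρ'coe _
        · refine ⟨ρ' ⟨a, ha⟩ * ρ' ⟨k2, hKH hk2⟩ * (ρ' ⟨a, ha⟩)⁻¹,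
            hPn.conj_mem _ (hKbP ⟨⟨k2, hKH hk2⟩, Subgroup.mem_subgroupOf.mpr hk2, rfl⟩) _, ?_⟩
          show ((ρ' ⟨a, ha⟩ * ρ' ⟨k2, hKH hk2⟩ * (ρ' ⟨a, ha⟩)⁻¹ : ρ.range) : MulAut V) = _
          rw [Subgroup.coe_mul, Subgroup.coe_mul, Subgroup.coe_inv, hρ'coe, hρ'coe]
      exact (hPp.map ρ.range.subtype).to_le hle
  -- conclude
  have hone : ρ ⁅(⟨k, hKH hk⟩ : H), (⟨a * k2 * a⁻¹, hk2a⟩ : H)⁆ = 1 := by
    rw [commutatorElement_def, map_mul, map_mul, map_mul, map_inv, map_inv, hcomm]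
    group
  have := (hρ1 _).mp hone
  exact this

example : Cfsg.Agent.H42.Sq.StComm.{u} = (∀ {G : Type u} [Group G] [Finite G] (H V K O : Subgroup G),
  IsElementaryAbelian 2 V → H ≤ Subgroup.normalizer (V : Set G) →
  K ≤ H → (K.subgroupOf H).IsSubnormal →
  O ≤ K → O ≤ Subgroup.centralizer (V : Set G) → O.relIndex K = 3 →
  Nat.card ↥⁅V, K⁆ = 4 →
  ∀ a ∈ H, ⁅K, K.map (MulAut.conj a).toMonoidHom⁆ ≤ Subgroup.centralizer (V : Set G)) := rfl

end glue

end Cfsg.Agent.H84.Sq
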