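import Mathlib
import Cfsg.Agent.H97.SuRDefs

/-!
# S2282 (helper84): product formulas for `dE` (shared by the pieces COHG, SQ, U2)
-/

set_option autoImplicit false

namespace Cfsg.Agent.H84.SuR

open Matrix Cfsg.Agent.H45.U Cfsg.Agent.H97.SuR

variable {F : Type*} [Field F]

theorem sl_inv_mul {k : ℕ} (g : Matrix.SpecialLinearGroup (Fin k) F) :
    ((g⁻¹ : Matrix.SpecialLinearGroup (Fin k) F) : Matrix (Fin k) (Fin k) F) *
      (g : Matrix (Fin k) (Fin k) F) = 1 := by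
  rw [← Matrix.SpecialLinearGroup.coe_mul, inv_mul_cancel, Matrix.SpecialLinearGroup.coe_one]

theorem sl_mul_inv {k : ℕ} (g : Matrix.SpecialLinearGroup (Fin k) F) :
    (g : Matrix (Fin k) (Fin k) F) *
      ((g⁻¹ : Matrix.SpecialLinearGroup (Fin k) F) : Matrix (Fin k) (Fin k) F) = 1 := by
  rw [← Matrix.SpecialLinearGroup.coe_mul, mul_inv_cancel, Matrix.SpecialLinearGroup.coe_one]

/-- Moving an upper unipotent element to the right of a Levi element. -/
theorem eU_mul_dU (σ : F →+* F) {k : ℕ} (g : Matrix.SpecialLinearGroup (Fin k) F)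
    (c : Matrix (Fin k) (Fin 1) F) (S : Matrix (Fin k) (Fin k) F) :
    eU σ c S * dU σ (g : Matrix (Fin k) (Fin k) F)
        ((g⁻¹ : Matrix.SpecialLinearGroup (Fin k) F) : Matrix (Fin k) (Fin k) F)
        (1 : Matrix (Fin 1) (Fin 1) F) =
      dU σ (g : Matrix (Fin k) (Fin k) F)
        ((g⁻¹ : Matrix.SpecialLinearGroup (Fin k) F) : Matrix (Fin k) (Fin k) F)
        (1 : Matrix (Fin 1) (Fin 1) F) *
      eU σ (((g⁻¹ : Matrix.SpecialLinearGroup (Fin k) F) : Matrix (Fin k) (Fin k) F) * c)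
        (((g⁻¹ : Matrix.SpecialLinearGroup (Fin k) F) : Matrix (Fin k) (Fin k) F) * S *
          ct σ ((g⁻¹ : Matrix.SpecialLinearGroup (Fin k) F) : Matrix (Fin k) (Fin k) F)) := by
  have h := dU_mul_eU σ (g : Matrix (Fin k) (Fin k) F)
    ((g⁻¹ : Matrix.SpecialLinearGroup (Fin k) F) : Matrix (Fin k) (Fin k) F)
    (1 : Matrix (Fin 1) (Fin 1) F) (1 : Matrix (Fin 1) (Fin 1) F)
    (((g⁻¹ : Matrix.SpecialLinearGroup (Fin k) F) : Matrix (Fin k) (Fin k) F) * c)
    (((g⁻¹ : Matrix.SpecialLinearGroup (Fin k) F) : Matrix (Fin k) (Fin k) F) * S *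
          ct σ ((g⁻¹ : Matrix.SpecialLinearGroup (Fin k) F) : Matrix (Fin k) (Fin k) F))
    (sl_inv_mul g) (Matrix.one_mul _) (ct_one σ)
  have e1 : (g : Matrix (Fin k) (Fin k) F) *
      (((g⁻¹ : Matrix.SpecialLinearGroup (Fin k) F) : Matrix (Fin k) (Fin k) F) * c) *
      (1 : Matrix (Fin 1) (Fin 1) F) = c := by
    rw [Matrix.mul_one, ← Matrix.mul_assoc, sl_mul_inv, Matrix.one_mul]
  have e2 : (g : Matrix (Fin k) (Fin k) F) *
      (((g⁻¹ : Matrix.SpecialLinearGroup (Fin k) F) : Matrix (Fin k) (Fin k) F) * S *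
          ct σ ((g⁻¹ : Matrix.SpecialLinearGroup (Fin k) F) : Matrix (Fin k) (Fin k) F)) *
      ct σ (g : Matrix (Fin k) (Fin k) F) = S := by
    have e3 : ct σ ((g⁻¹ : Matrix.SpecialLinearGroup (Fin k) F) : Matrix (Fin k) (Fin k) F) *
        ct σ (g : Matrix (Fin k) (Fin k) F) = 1 := by
      rw [← ct_mul, sl_mul_inv, ct_one]
    rw [Matrix.mul_assoc, Matrix.mul_assoc, Matrix.mul_assoc, e3, Matrix.mul_one,
      ← Matrix.mul_assoc, sl_mul_inv, Matrix.one_mul]
  rw [e1, e2] at h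
  exact h.symm

/-- The product formula for `dE`. -/
theorem dE_mul (σ : F →+* F) {k : ℕ} (g g' : Matrix.SpecialLinearGroup (Fin k) F)
    (c c' : Matrix (Fin k) (Fin 1) F) (S S' : Matrix (Fin k) (Fin k) F) :
    dE σ g c S * dE σ g' c' S' =
      dE σ (g * g')
        (((g'⁻¹ : Matrix.SpecialLinearGroup (Fin k) F) : Matrix (Fin k) (Fin k) F) * c + c')
        (((g'⁻¹ : Matrix.SpecialLinearGroup (Fin k) F) : Matrix (Fin k) (Fin k) F) * S *
            ct σ ((g'⁻¹ : Matrix.SpecialLinearGroup (Fin k) F) : Matrix (Fin k) (Fin k) F) + S' -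
          ((g'⁻¹ : Matrix.SpecialLinearGroup (Fin k) F) : Matrix (Fin k) (Fin k) F) * c *
            ct σ c') := by
  unfold dE
  rw [Matrix.mul_assoc, ← Matrix.mul_assoc (eU σ c S), eU_mul_dU, Matrix.mul_assoc, eU_mul,
    ← Matrix.mul_assoc, dU_mul_dU, Matrix.mul_one, _root_.mul_inv_rev,
    Matrix.SpecialLinearGroup.coe_mul, Matrix.SpecialLinearGroup.coe_mul]

/-- `dE` at the identity is the upper unipotent element. -/
theorem dE_one (σ : F →+* F) {k : ℕ} (c : Matrix (Fin k) (Fin 1) F)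
    (S : Matrix (Fin k) (Fin k) F) : dE σ (1 : Matrix.SpecialLinearGroup (Fin k) F) c S = eU σ c S := by
  unfold dE
  rw [inv_one, Matrix.SpecialLinearGroup.coe_one, dU_one, Matrix.one_mul]

/-- Right multiplication of `dE` by an upper unipotent element. -/
theorem dE_mul_eU (σ : F →+* F) {k : ℕ} (g : Matrix.SpecialLinearGroup (Fin k) F)
    (c c' : Matrix (Fin k) (Fin 1) F) (S S' : Matrix (Fin k) (Fin k) F) :
    dE σ g c S * eU σ c' S' = dE σ g (c + c') (S + S' - c * ct σ c') := by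
  unfold dE
  rw [Matrix.mul_assoc, eU_mul]

end Cfsg.Agent.H84.SuR
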