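import Mathlib
import Cfsg.Agent.H97.SuRDefs
import Cfsg.Agent.H84.SuRBase

/-!
# S2282 piece COHG (helper84): the cocycle of lifts, and `cE` is not a coboundary at `J`
-/

set_option autoImplicit false

namespace Cfsg.Agent.H84.SuR

open Matrix Cfsg.Agent.H45.U Cfsg.Agent.H97.SuR

variable {F : Type*} [Field F]

theorem exists_cocycle (σ : F →+* F) {k : ℕ} (H : Subgroup ↥(UH σ (Fin k) (Fin 1)))
    (hd : LiftsU σ H (Set.univ : Set (Matrix.SpecialLinearGroup (Fin k) F)))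
    (hzero : ∀ (c : Matrix (Fin k) (Fin 1) F) (S : Matrix (Fin k) (Fin k) F),
      (∃ x ∈ H, x.1.1 = eU σ c S) → c = 0) :
    ∃ s : Matrix.SpecialLinearGroup (Fin k) F → Matrix (Fin k) (Fin 1) F, Coc s ∧
      ∀ (g : Matrix.SpecialLinearGroup (Fin k) F) (c : Matrix (Fin k) (Fin 1) F)
        (S : Matrix (Fin k) (Fin k) F), (∃ x ∈ H, x.1.1 = dE σ g c S) → s g = c := by
  choose s S₀ x₀ hx₀H hx₀ using fun g => hd g (Set.mem_univ g)
  have huniq : ∀ (g : Matrix.SpecialLinearGroup (Fin k) F) (c : Matrix (Fin k) (Fin 1) F)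
      (S : Matrix (Fin k) (Fin k) F), (∃ x ∈ H, x.1.1 = dE σ g c S) → s g = c := by
    rintro g c S ⟨x, hxH, hx⟩
    have h1 : x.1.1 = (x₀ g).1.1 * eU σ (c - s g) (S - S₀ g + s g * ct σ (c - s g)) := by
      rw [hx, hx₀ g, dE_mul_eU]
      congr 1
      · abel
      · abel
    have h2 : ((x₀ g)⁻¹ * x).1.1 = eU σ (c - s g) (S - S₀ g + s g * ct σ (c - s g)) := by
      rw [UH_mul_coe, h1, ← Matrix.mul_assoc, ← UH_mul_coe, inv_mul_cancel, UH_one_coe,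
        Matrix.one_mul]
    have h3 := hzero _ _ ⟨_, H.mul_mem (H.inv_mem (hx₀H g)) hxH, h2⟩
    exact (sub_eq_zero.mp h3).symm
  refine ⟨s, ?_, huniq⟩
  intro g g'
  apply huniq (g * g') _
    (((g'⁻¹ : Matrix.SpecialLinearGroup (Fin k) F) : Matrix (Fin k) (Fin k) F) * S₀ g *
        ct σ ((g'⁻¹ : Matrix.SpecialLinearGroup (Fin k) F) : Matrix (Fin k) (Fin k) F) + S₀ g' -
      ((g'⁻¹ : Matrix.SpecialLinearGroup (Fin k) F) : Matrix (Fin k) (Fin k) F) * s g *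
        ct σ (s g'))
  refine ⟨x₀ g * x₀ g', H.mul_mem (hx₀H g) (hx₀H g'), ?_⟩
  rw [UH_mul_coe, hx₀ g, hx₀ g', dE_mul]

theorem cE_not_coboundary (k : ℕ) (hk : 1 ≤ k) (v₀ : Matrix (Fin k) (Fin 1) F) :
    cE F k ≠ (((Cfsg.Agent.H97.SpR.uniSL k (1 : F))⁻¹ : Matrix.SpecialLinearGroup (Fin k) F) :
      Matrix (Fin k) (Fin k) F) * v₀ - v₀ := by
  intro h
  obtain ⟨l, hl⟩ : ∃ l : Fin k, (l : ℕ) + 1 = k := ⟨⟨k - 1, by omega⟩, by simp; omega⟩
  have hJ := sl_mul_inv (Cfsg.Agent.H97.SpR.uniSL k (1 : F))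
  have hrow : ∀ i : Fin k, ((Cfsg.Agent.H97.SpR.uniSL k (1 : F) :
      Matrix.SpecialLinearGroup (Fin k) F) : Matrix (Fin k) (Fin k) F) l i
        = if l = i then 1 else 0 := by
    intro i
    rw [Cfsg.Agent.H97.SpR.uniSL_coe, Cfsg.Agent.H97.SpR.uniM_apply]
    have h1 : ¬ ((l : ℕ) + 1 = (i : ℕ)) := by have := i.2; omega
    rw [if_neg h1, mul_zero, add_zero]
  have hinv : ∀ j : Fin k, (((Cfsg.Agent.H97.SpR.uniSL k (1 : F))⁻¹ :
      Matrix.SpecialLinearGroup (Fin k) F) : Matrix (Fin k) (Fin k) F) l j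
        = if l = j then 1 else 0 := by
    intro j
    have h1 := congrFun (congrFun hJ l) j
    rw [Matrix.mul_apply] at h1
    simp only [hrow, ite_mul, one_mul, zero_mul, Finset.sum_ite_eq, Finset.mem_univ,
      if_true] at h1
    rw [h1, Matrix.one_apply]
  have h2 := congrFun (congrFun h l) 0
  rw [Matrix.sub_apply, Matrix.mul_apply] at h2
  simp only [hinv, ite_mul, one_mul, zero_mul, Finset.sum_ite_eq, Finset.mem_univ, if_true,
    sub_self] at h2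
  have h3 : cE F k l 0 = 1 := by
    simp only [cE, Matrix.of_apply]
    rw [if_pos hl]
  rw [h3] at h2
  exact one_ne_zero h2

example (σ : F →+* F) {k : ℕ} (H : Subgroup ↥(UH σ (Fin k) (Fin 1)))
    (hd : LiftsU σ H (Set.univ : Set (Matrix.SpecialLinearGroup (Fin k) F)))
    (hzero : ∀ (c : Matrix (Fin k) (Fin 1) F) (S : Matrix (Fin k) (Fin k) F),
      (∃ x ∈ H, x.1.1 = eU σ c S) → c = 0) :
    ∃ s : Matrix.SpecialLinearGroup (Fin k) F → Matrix (Fin k) (Fin 1) F, Coc s ∧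
      ∀ (g : Matrix.SpecialLinearGroup (Fin k) F) (c : Matrix (Fin k) (Fin 1) F)
        (S : Matrix (Fin k) (Fin k) F), (∃ x ∈ H, x.1.1 = dE σ g c S) → s g = c :=
  exists_cocycle σ H hd hzero

example (k : ℕ) (hk : 1 ≤ k) (v₀ : Matrix (Fin k) (Fin 1) F) :
    cE F k ≠ (((Cfsg.Agent.H97.SpR.uniSL k (1 : F))⁻¹ : Matrix.SpecialLinearGroup (Fin k) F) :
      Matrix (Fin k) (Fin k) F) * v₀ - v₀ :=
  cE_not_coboundary k hk v₀

end Cfsg.Agent.H84.SuR
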