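import Mathlib
import Cfsg.Agent.H5.PrimeTI
import Cfsg.Agent.H44.PSL2Deg
import Cfsg.Agent.H93.U33Defs

/-!
# S3670 piece U-TI2 (helper84): the exceptional characters of a self-centralising subgroup of
order 7 with normaliser of order 21 in a simple group of order 6048

`degree_equation_aux'` is helper5's `Cfsg.Agent.H5.PrimeTI.degree_equation_aux` with the extra
conjunct that `d` is the common degree of the exceptional characters.
-/

set_option autoImplicit false
set_option linter.unusedSectionVars false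
set_option linter.style.haveILetI false

namespace Cfsg.Agent.H84.U33

open Cfsg Cfsg.Agent.H4 Cfsg.Agent.H5 Cfsg.Agent.H5.PrimeTI
open scoped ComplexConjugate

universe u

attribute [local instance] fintypeIrr

section GLevel

open Classical

variable {G : Type u} [Group G] [Fintype G] (P : Subgroup G)
  (hTI : ∀ g : G, g ∉ Subgroup.normalizer (P : Set G) → ∀ k ∈ P, g * k * g⁻¹ ∈ P → k = 1)
  (hC : ∀ k ∈ P, k ≠ 1 → Subgroup.centralizer ({k} : Set G) ≤ P)
  (hab : ∀ a ∈ P, ∀ b ∈ P, a * b = b * a)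

variable {m : ℕ} (χ : Fin m → IrrCharacter (Subgroup.normalizer (P : Set G))) (ε : ℤ)
  (θ : Fin m → IrrCharacter G) (hχinj : Function.Injective χ)
  (hχ : ∀ ξ : IrrCharacter (Subgroup.normalizer (P : Set G)),
    ξ.1 ∈ relSet (P.subgroupOf (Subgroup.normalizer (P : Set G))) ↔ ∃ i, χ i = ξ)
  (hε : ε = 1 ∨ ε = -1) (hθinj : Function.Injective θ)
  (hθ : ∀ i j, indFun (Subgroup.normalizer (P : Set G)) (χ i).1 -
    indFun (Subgroup.normalizer (P : Set G)) (χ j).1 = (ε : ℂ) • ((θ i).1 - (θ j).1))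

include hTI hC hab hχ hχinj hθinj hθ hε in
/-- The two orthogonality relations on the column of `a ∈ P ∖ 1` (with the degree of the
exceptional characters exposed). -/
theorem degree_equation_aux' (hnt : ∃ a ∈ P, a ≠ 1) (hm : 2 ≤ m) :
    ∃ (c : ℤ) (d : ℕ) (s : ℤ) (v : IrrCharacter G → ℤ) (x : IrrCharacter G → ℕ)
      (T : Finset (IrrCharacter G)),
      d ∣ Nat.card G ∧ (∀ i, (θ i).1 1 = d) ∧
      (d : ℤ) - ε * ((P.subgroupOf (Subgroup.normalizer (P : Set G))).index : ℤ) =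
        c + s * Nat.card P ∧
      (∀ ψ ∈ T, ψ ≠ trivialIrr G ∧ x ψ ∣ Nat.card G ∧ ψ.1 1 = x ψ ∧
        ∃ t : ℤ, (x ψ : ℤ) = v ψ + t * Nat.card P) ∧
      ∑ ψ ∈ T, v ψ ^ 2 = ((P.subgroupOf (Subgroup.normalizer (P : Set G))).index : ℤ) - 1 +
        2 * ε * c - m * c ^ 2 ∧
      1 + ∑ ψ ∈ T, v ψ * x ψ = d * (ε - m * c) := by
  have hfpf := fpfK P hC
  have habK := abK P hab
  obtain ⟨c, d, s, hddvd, hθ1, hθk, hds⟩ := exc_values P hTI hC hab χ ε θ hχinj hχ hε hθinj hθ
    hnt (by omega)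
  have htriv := triv_nonexc P hTI hC hab χ ε θ hχinj hχ hε hθinj hθ hnt hm
  obtain ⟨a, haP, ha1⟩ := hnt
  obtain ⟨a', ha'⟩ : ∃ a' : Subgroup.normalizer (P : Set G), (a' : G) = a :=
    ⟨⟨a, Subgroup.le_normalizer haP⟩, rfl⟩
  have ha'P : (a' : G) ∈ P := by rw [ha']; exact haP
  have ha'K : a' ∈ P.subgroupOf (Subgroup.normalizer (P : Set G)) :=
    Subgroup.mem_subgroupOf.mpr ha'P
  have ha'1 : a' ≠ 1 := fun h => ha1 (by rw [← ha', h]; rfl)
  choose x hx0 hxdvd hx using fun ψ : IrrCharacter G => Cfsg.Agent.H81.irr_degree_dvd ψ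
  have hne : ∀ ψ : IrrCharacter G, ∃ v t : ℤ, (∀ i, θ i ≠ ψ) →
      ((∀ k ∈ P, k ≠ 1 → ψ.1 k = v) ∧ ψ.1 1 = v + t * Nat.card P) := by
    intro ψ
    by_cases h : ∀ i, θ i ≠ ψ
    · obtain ⟨v, t, h1, h2⟩ := nonexc_const P hC hab χ ε θ hχ hθ ⟨a, haP, ha1⟩ ψ h
      exact ⟨v, t, fun _ => ⟨h1, h2⟩⟩
    · exact ⟨0, 0, fun h' => absurd h' h⟩
  choose v t hvt using hne
  set Θ : Finset (IrrCharacter G) := Finset.univ.image θ with hΘ
  have hΘc : ∀ ψ, ψ ∈ Θᶜ ↔ ∀ i, θ i ≠ ψ := by
    intro ψ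
    simp [hΘ]
  set T : Finset (IrrCharacter G) := Θᶜ.erase (trivialIrr G) with hT
  have htrivmem : trivialIrr G ∈ Θᶜ := (hΘc _).mpr htriv
  have hTmem : ∀ ψ ∈ T, ∀ i, θ i ≠ ψ := fun ψ hψ => (hΘc ψ).mp (Finset.mem_of_mem_erase hψ)
  -- sums over the relevant characters
  have hRf : Finset.univ.filter (fun ξ : IrrCharacter (Subgroup.normalizer (P : Set G)) =>
      ξ.1 ∈ relSet (P.subgroupOf (Subgroup.normalizer (P : Set G)))) = Finset.univ.image χ := by
    ext ξ
    simp only [Finset.mem_filter, Finset.mem_univ, true_and, Finset.mem_image]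
    exact hχ ξ
  have hA : ∑ i, (χ i).1 a' = -1 := by
    have := sum_rel _ hfpf habK a' ha'K ha'1
    rwa [hRf, Finset.sum_image (fun i _ j _ h => hχinj h)] at this
  have hB : ∑ i, (χ i).1 a' * conj ((χ i).1 a') = (Nat.card P : ℂ) -
      (P.subgroupOf (Subgroup.normalizer (P : Set G))).index := by
    have := sum_rel_sq _ hfpf habK a' ha'K ha'1
    rwa [hRf, Finset.sum_image (fun i _ j _ h => hχinj h), card_K] at this
  have hAc : ∑ i, conj ((χ i).1 a') = -1 := by
    rw [← map_sum, hA]; simp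
  have hε2 : (ε : ℂ) * ε = 1 := by
    rcases hε with h | h <;> rw [h] <;> simp
  have hθa : ∀ i, (θ i).1 a = ε * (χ i).1 a' + c := fun i => by
    rw [← ha']; exact hθk i a' ha'P ha'1
  have hψa : ∀ ψ ∈ T, ψ.1 a = v ψ := fun ψ hψ => (hvt ψ (hTmem ψ hψ)).1 a haP ha1
  refine ⟨c, d, s, v, x, T, hddvd, hθ1, hds, fun ψ hψ => ⟨Finset.ne_of_mem_erase hψ, hxdvd ψ, hx ψ,
    t ψ, ?_⟩, ?_, ?_⟩
  · have h2 := (hvt ψ (hTmem ψ hψ)).2
    rw [hx ψ] at h2
    exact_mod_cast h2
  · -- column of `a` against itself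
    have hcard : Nat.card {g : G // g * a * g⁻¹ = a} = Nat.card P := by
      apply Nat.card_congr
      refine Equiv.subtypeEquivRight fun g => ?_
      constructor
      · intro hg
        apply hC a haP ha1
        rw [Subgroup.mem_centralizer_iff]
        intro h hh
        rw [Set.mem_singleton_iff] at hh
        subst hh
        calc h * g = g * h * g⁻¹ * g := by rw [hg]
          _ = g * h := by group
      · intro hg
        rw [hab g hg a haP]; group
    have haa := column_orthogonality (G := G) a a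
    rw [hcard, finsum_irr_eq_sum, ← Finset.sum_add_sum_compl Θ, hΘ,
      Finset.sum_image (fun i _ j _ h => hθinj h), ← hΘ, ← Finset.add_sum_erase _ _ htrivmem,
      ← hT] at haa
    have hterm : ∀ i, (θ i).1 a * conj ((θ i).1 a) = (χ i).1 a' * conj ((χ i).1 a') +
        ε * c * (χ i).1 a' + ε * c * conj ((χ i).1 a') + c * c := by
      intro i
      rw [hθa i, map_add, map_mul, map_intCast, map_intCast]
      linear_combination ((χ i).1 a' * conj ((χ i).1 a')) * hε2
    have hS1 : ∑ i, (θ i).1 a * conj ((θ i).1 a) = (Nat.card P : ℂ) -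
        (P.subgroupOf (Subgroup.normalizer (P : Set G))).index - 2 * ε * c + m * (c * c) := by
      rw [Finset.sum_congr rfl (fun i _ => hterm i), Finset.sum_add_distrib,
        Finset.sum_add_distrib, Finset.sum_add_distrib, ← Finset.mul_sum, ← Finset.mul_sum, hA,
        hAc, hB, Finset.sum_const, Finset.card_univ, Fintype.card_fin, nsmul_eq_mul]
      ring
    have hS2 : ∑ ψ ∈ T, ψ.1 a * conj (ψ.1 a) = ((∑ ψ ∈ T, v ψ ^ 2 : ℤ) : ℂ) := by
      rw [Int.cast_sum]
      refine Finset.sum_congr rfl fun ψ hψ => ?_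
      rw [hψa ψ hψ, map_intCast]; push_cast; ring
    have htr : (trivialIrr G).1 a * conj ((trivialIrr G).1 a) = 1 := by
      change (1 : ℂ) * conj (1 : ℂ) = 1
      simp
    rw [hS1, hS2, htr] at haa
    have hfin : ((∑ ψ ∈ T, v ψ ^ 2 : ℤ) : ℂ) =
        (((P.subgroupOf (Subgroup.normalizer (P : Set G))).index : ℤ) - 1 +
          2 * ε * c - m * c ^ 2 : ℤ) := by
      push_cast
      push_cast at haa
      linear_combination haa
    exact_mod_cast hfin
  · -- column of `a` against the column of `1`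
    have hemp : IsEmpty {g : G // g * a * g⁻¹ = 1} := by
      constructor
      rintro ⟨g, hg⟩
      apply ha1
      have : a = g⁻¹ * 1 * g := by rw [← hg]; group
      simpa using this
    have ha1' := column_orthogonality (G := G) a 1
    rw [Nat.card_of_isEmpty, Nat.cast_zero, finsum_irr_eq_sum, ← Finset.sum_add_sum_compl Θ, hΘ,
      Finset.sum_image (fun i _ j _ h => hθinj h), ← hΘ, ← Finset.add_sum_erase _ _ htrivmem,
      ← hT] at ha1'
    have hS1 : ∑ i, (θ i).1 a * conj ((θ i).1 1) = (d : ℂ) * (-ε + m * c) := by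
      rw [Finset.sum_congr rfl (fun i _ => by rw [hθa i, hθ1 i, Complex.conj_natCast]),
        ← Finset.sum_mul, Finset.sum_add_distrib, ← Finset.mul_sum, hA, Finset.sum_const,
        Finset.card_univ, Fintype.card_fin, nsmul_eq_mul]
      ring
    have hS2 : ∑ ψ ∈ T, ψ.1 a * conj (ψ.1 1) = ((∑ ψ ∈ T, v ψ * x ψ : ℤ) : ℂ) := by
      rw [Int.cast_sum]
      refine Finset.sum_congr rfl fun ψ hψ => ?_
      rw [hψa ψ hψ, hx ψ, Complex.conj_natCast]; push_cast; ring
    have htr : (trivialIrr G).1 a * conj ((trivialIrr G).1 1) = 1 := by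
      change (1 : ℂ) * conj (1 : ℂ) = 1
      simp
    rw [hS1, hS2, htr] at ha1'
    have hfin : ((1 + ∑ ψ ∈ T, v ψ * x ψ : ℤ) : ℂ) = ((d * (ε - m * c) : ℤ) : ℂ) := by
      push_cast
      push_cast at ha1'
      linear_combination ha1'
    exact_mod_cast hfin

end GLevel

section Main

open Classical

theorem ti2 : Cfsg.Agent.H93.U33.StmtTI2 := by
  intro G _ _ _ hcard P hP hCent hNorm
  haveI : Fintype G := Fintype.ofFinite G
  have hp : Nat.Prime 7 := by norm_num
  haveI : Fact (Nat.Prime 7) := ⟨hp⟩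
  have hG : ¬ IsMulCommutative G := by
    apply Cfsg.Agent.H21.not_comm_of_not_prime
    rw [hcard]; norm_num
  haveI : IsCyclic P := isCyclic_of_prime_card hP
  have hcomm : ∀ a b : P, a * b = b * a := fun a b =>
    (IsCyclic.commGroup (α := P)).mul_comm a b
  have hab : ∀ a ∈ P, ∀ b ∈ P, a * b = b * a := fun a ha b hb =>
    congrArg Subtype.val (hcomm ⟨a, ha⟩ ⟨b, hb⟩)
  have hPC : P ≤ Subgroup.centralizer (P : Set G) := by
    intro x hx
    rw [Subgroup.mem_centralizer_iff]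
    intro y hy
    exact hab y hy x hx
  have hCP : Subgroup.centralizer (P : Set G) = P :=
    (Subgroup.eq_of_le_of_card_ge hPC (by rw [hCent, hP])).symm
  have hord : ∀ k ∈ P, k ≠ 1 → orderOf k = 7 := fun k hk hk1 =>
    Cfsg.Agent.H21.orderOf_eq_of_mem_card_prime hp P hP k hk hk1
  have hC : ∀ k ∈ P, k ≠ 1 → Subgroup.centralizer ({k} : Set G) ≤ P := by
    intro k hk hk1 x hx
    have hPz := Cfsg.Agent.H21.eq_zpowers_of_card_prime P hP k hk (hord k hk hk1)
    rw [Subgroup.mem_centralizer_iff] at hx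
    have hx' := hx k (Set.mem_singleton k)
    have := Cfsg.Agent.H21.mem_centralizer_of_commute_gen P k hPz x hx'.symm
    rwa [hCP] at this
  have hTI : ∀ g : G, g ∉ Subgroup.normalizer (P : Set G) → ∀ k ∈ P, g * k * g⁻¹ ∈ P →
      k = 1 := by
    intro g hg k hk hc
    by_contra hk1
    apply hg
    exact Subgroup.mem_normalizer_fintype (S := (P : Set G))
      (Cfsg.Agent.H21.conj_mem_of_card_prime P hP k g hk (hord k hk hk1) hc)
  have hnt : ∃ a ∈ P, a ≠ 1 := by
    haveI : Nontrivial P := Finite.one_lt_card_iff_nontrivial.mp (by rw [hP]; norm_num)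
    obtain ⟨a, ha⟩ := exists_ne (1 : P)
    exact ⟨a.1, a.2, fun h => ha (Subtype.ext h)⟩
  have he : (P.subgroupOf (Subgroup.normalizer (P : Set G))).index = 3 := by
    have h := (P.subgroupOf (Subgroup.normalizer (P : Set G))).card_mul_index
    rw [card_K, hP, hNorm] at h
    omega
  have hfpf := fpfK P hC
  have habK := abK P hab
  have hcardRf : (Finset.univ.filter (fun χ : IrrCharacter (Subgroup.normalizer (P : Set G)) =>
      χ.1 ∈ relSet (P.subgroupOf (Subgroup.normalizer (P : Set G))))).card = 2 := by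
    have h := card_rel _ hfpf habK
    rw [card_K, he, hP] at h
    have h2 : (((Finset.univ.filter (fun χ : IrrCharacter (Subgroup.normalizer (P : Set G)) =>
        χ.1 ∈ relSet (P.subgroupOf (Subgroup.normalizer (P : Set G))))).card * 3 : ℕ) : ℂ) =
        ((2 * 3 : ℕ) : ℂ) := by
      push_cast
      push_cast at h
      linear_combination h
    have h3 : (Finset.univ.filter (fun χ : IrrCharacter (Subgroup.normalizer (P : Set G)) =>
        χ.1 ∈ relSet (P.subgroupOf (Subgroup.normalizer (P : Set G))))).card * 3 = 2 * 3 := by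
      exact_mod_cast h2
    omega
  obtain ⟨χ, ε, θ, hχinj, hχ, hε, hθinj, hθ⟩ := exists_exc P hTI hC hab 2 (le_refl 2) hcardRf
  obtain ⟨c, d, s, v, x, T, -, hθ1, hds, hT, hsq, hdeg⟩ :=
    degree_equation_aux' P hTI hC hab χ ε θ hχinj hχ hε hθinj hθ hnt (le_refl 2)
  rw [he, hP] at hds
  rw [he] at hsq
  have hxdeg : ∀ ψ ∈ T, Cfsg.charDegree ψ.1 = x ψ := fun ψ hψ =>
    Cfsg.Agent.H44.charDegree_eq_of_one_eq (hT ψ hψ).2.2.1
  refine ⟨ε, c, d, s, v, T, hε, ⟨θ 0, Cfsg.Agent.H44.charDegree_eq_of_one_eq (hθ1 0)⟩, ?_,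
    fun ψ hψ => ⟨?_, ?_⟩, ?_, ?_⟩
  · have h := hds
    push_cast at h ⊢
    linarith
  · rw [hxdeg ψ hψ]
    intro h1
    apply (hT ψ hψ).1
    apply simple_linear_trivial hG
    rw [(hT ψ hψ).2.2.1, h1, Nat.cast_one]
  · obtain ⟨t, ht⟩ := (hT ψ hψ).2.2.2
    refine ⟨t, ?_⟩
    rw [hxdeg ψ hψ, hP] at *
    push_cast at ht ⊢
    linarith
  · have h := hsq
    push_cast at h ⊢
    linarith
  · have h := hdeg
    rw [Finset.sum_congr rfl (fun ψ hψ => by rw [hxdeg ψ hψ])]
    push_cast at h ⊢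
    linarith

example : Cfsg.Agent.H93.U33.StmtTI2 := ti2

end Main

end Cfsg.Agent.H84.U33
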